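import Cfsg.Agent.R2.DZ.T3.RowsC
import Cfsg.Agent.R2.DZ.Fam

/-!
# S4527, box T3: cuspidal characters of `O⁻_{2l+4}(q)` have degree divisible by `p ∣ q^{l+1} + 1` (helper21)

`exists_s` : `b ↦ b ⊕ 1` from `O⁻_{2l+2}` to `O⁻_{2l+4}`; `regular` : it acts without fixed points on the unipotent
radical of a point stabiliser; `dvd_degree`.
-/

set_option autoImplicit false
set_option linter.unusedSectionVars false
set_option linter.style.haveILetI false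

open scoped ComplexConjugate
open Cfsg

namespace Cfsg.Agent.R2.DZ.T3.Eight

open Cfsg.Agent.Characters Module Cfsg.Agent.H477.HC Cfsg.Agent.H477.HC.CForm Cfsg.Agent.H749.Two Tor
  Cfsg.Agent.H113.Cusp.Tool Cfsg.Agent.H113.Cusp.Flag Cfsg.Agent.H113.Two.HcOne

universe u v w

section

variable (K : Type u) [Field K] [Finite K] {a b : K}
  (hab : ∀ z₁ z₂ : K, z₁ ^ 2 + a * z₁ * z₂ + b * z₂ ^ 2 = 0 → z₁ = 0 ∧ z₂ = 0) (l : ℕ)

/-- the decomposition -/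
abbrev st : (((Fin l ⊕ Fin l) ⊕ Fin 2 → K) × K × K) ≃ₗ[K] ((Fin (l + 1) ⊕ Fin (l + 1)) ⊕ Fin 2 → K) :=
  LieClassical.QuadForms.minusStep l K

theorem Q_st (w : (Fin l ⊕ Fin l) ⊕ Fin 2 → K) (c d : K) :
    (minusF K (l + 1) a b hab).Q (st K l (w, c, d)) = (minusF K l a b hab).Q w + c * d := by
  rw [minusF_Q, minusF_Q, ← LieClassical.QuadForms.coe_minusForm, ← LieClassical.QuadForms.coe_minusForm]
  exact LieClassical.QuadForms.minusForm_minusStep l a b w c d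

theorem B_eq (l : ℕ) (u v : (Fin l ⊕ Fin l) ⊕ Fin 2 → K) : (minusF K l a b hab).B u v =
    (minusF K l a b hab).Q (u + v) - (minusF K l a b hab).Q u - (minusF K l a b hab).Q v := by
  rw [(minusF K l a b hab).Q_add]
  change _ = (minusF K l a b hab).Q u + (minusF K l a b hab).Q v + (minusF K l a b hab).B u v - _ - _
  ring

theorem B_st (w w' : (Fin l ⊕ Fin l) ⊕ Fin 2 → K) (c c' d d' : K) :
    (minusF K (l + 1) a b hab).B (st K l (w, c, d)) (st K l (w', c', d')) =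
      (minusF K l a b hab).B w w' + (c * d' + c' * d) := by
  rw [B_eq, B_eq, ← map_add, Prod.mk_add_mk, Prod.mk_add_mk, Q_st, Q_st, Q_st]
  ring

/-- the embedding -/
theorem exists_s : ∃ s : (minusF K l a b hab).iso →* (minusF K (l + 1) a b hab).iso, ∀ g w c d,
    ((s g : (minusF K (l + 1) a b hab).iso) : ((Fin (l + 1) ⊕ Fin (l + 1)) ⊕ Fin 2 → K) ≃ₗ[K]
      ((Fin (l + 1) ⊕ Fin (l + 1)) ⊕ Fin 2 → K)) (st K l (w, c, d)) =
      st K l ((g : ((Fin l ⊕ Fin l) ⊕ Fin 2 → K) ≃ₗ[K] ((Fin l ⊕ Fin l) ⊕ Fin 2 → K)) w, c, d) := by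
  have key : ∀ g : (minusF K l a b hab).iso, ∃ t : (minusF K (l + 1) a b hab).iso, ∀ w c d,
      (t : ((Fin (l + 1) ⊕ Fin (l + 1)) ⊕ Fin 2 → K) ≃ₗ[K] ((Fin (l + 1) ⊕ Fin (l + 1)) ⊕ Fin 2 → K))
        (st K l (w, c, d)) =
      st K l ((g : ((Fin l ⊕ Fin l) ⊕ Fin 2 → K) ≃ₗ[K] ((Fin l ⊕ Fin l) ⊕ Fin 2 → K)) w, c, d) := by
    intro g
    let f : ((Fin (l + 1) ⊕ Fin (l + 1)) ⊕ Fin 2 → K) →ₗ[K] ((Fin (l + 1) ⊕ Fin (l + 1)) ⊕ Fin 2 → K) :=
      (st K l).toLinearMap ∘ₗ (((g : ((Fin l ⊕ Fin l) ⊕ Fin 2 → K) ≃ₗ[K] ((Fin l ⊕ Fin l) ⊕ Fin 2 → K)).toLinearMap).prodMap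
        LinearMap.id) ∘ₗ (st K l).symm.toLinearMap
    have hf : ∀ w c d, f (st K l (w, c, d)) =
        st K l ((g : ((Fin l ⊕ Fin l) ⊕ Fin 2 → K) ≃ₗ[K] ((Fin l ⊕ Fin l) ⊕ Fin 2 → K)) w, c, d) := by
      intro w c d
      change st K l ((((g : ((Fin l ⊕ Fin l) ⊕ Fin 2 → K) ≃ₗ[K] ((Fin l ⊕ Fin l) ⊕ Fin 2 → K)).toLinearMap).prodMap
        LinearMap.id) ((st K l).symm (st K l (w, c, d)))) = _
      rw [LinearEquiv.symm_apply_apply]
      rfl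
    have hQ : ∀ v, (minusF K (l + 1) a b hab).Q (f v) = (minusF K (l + 1) a b hab).Q v := by
      intro v
      obtain ⟨⟨w, c, d⟩, rfl⟩ := (st K l).surjective v
      rw [hf, Q_st, Q_st, (minusF K l a b hab).iso_Q]
    obtain ⟨t, ht⟩ := (minusF K (l + 1) a b hab).exists_iso f (fun u v => by
      rw [B_eq, B_eq, ← map_add, hQ, hQ, hQ]) hQ
    exact ⟨t, fun w c d => by rw [ht, hf]⟩
  choose s hs using key
  refine ⟨⟨⟨s, ?_⟩, ?_⟩, hs⟩
  · apply Subtype.ext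
    refine LinearEquiv.ext fun v => ?_
    obtain ⟨⟨w, c, d⟩, rfl⟩ := (st K l).surjective v
    rw [hs]
    rfl
  · intro g h
    apply Subtype.ext
    refine LinearEquiv.ext fun v => ?_
    obtain ⟨⟨w, c, d⟩, rfl⟩ := (st K l).surjective v
    change _ = ((s g : (minusF K (l + 1) a b hab).iso) : ((Fin (l + 1) ⊕ Fin (l + 1)) ⊕ Fin 2 → K) ≃ₗ[K]
      ((Fin (l + 1) ⊕ Fin (l + 1)) ⊕ Fin 2 → K)) (((s h : (minusF K (l + 1) a b hab).iso) :
        ((Fin (l + 1) ⊕ Fin (l + 1)) ⊕ Fin 2 → K) ≃ₗ[K] ((Fin (l + 1) ⊕ Fin (l + 1)) ⊕ Fin 2 → K)) _)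
    rw [hs, hs, hs]
    rfl

/-- the point -/
abbrev pt : Submodule K ((Fin (l + 1) ⊕ Fin (l + 1)) ⊕ Fin 2 → K) := K ∙ (st K l (0, 1, 0))

theorem pt_Om : pt K l ∈ (minusF K (l + 1) a b hab).Om 1 := by
  have h1 : (minusF K (l + 1) a b hab).Q (st K l (0, 1, 0)) = 0 := by
    rw [Q_st, CForm.Q_zero, mul_zero, add_zero]
  have h2 : (minusF K (l + 1) a b hab).B (st K l (0, 1, 0)) (st K l (0, 1, 0)) = 0 := by
    rw [B_st, CForm.B_zero_left, mul_zero, add_zero, add_zero]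
  refine ⟨⟨fun w hw => ?_, fun w hw w' hw' => ?_⟩, ?_⟩
  · obtain ⟨t, rfl⟩ := Submodule.mem_span_singleton.1 hw
    rw [CForm.Q_smul, h1, mul_zero]
  · obtain ⟨t, rfl⟩ := Submodule.mem_span_singleton.1 hw
    obtain ⟨t', rfl⟩ := Submodule.mem_span_singleton.1 hw'
    rw [CForm.B_smul_left, CForm.B_smul_right, h2, mul_zero, mul_zero]
  · apply finrank_span_singleton
    intro h
    have h3 := (st K l).injective (h.trans (map_zero (st K l)).symm)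
    exact one_ne_zero (congrArg (fun x : _ × K × K => x.2.1) h3)

variable {s : (minusF K l a b hab).iso →* (minusF K (l + 1) a b hab).iso}
  (hs : ∀ g w c d,
    ((s g : (minusF K (l + 1) a b hab).iso) : ((Fin (l + 1) ⊕ Fin (l + 1)) ⊕ Fin 2 → K) ≃ₗ[K]
      ((Fin (l + 1) ⊕ Fin (l + 1)) ⊕ Fin 2 → K)) (st K l (w, c, d)) =
      st K l ((g : ((Fin l ⊕ Fin l) ⊕ Fin 2 → K) ≃ₗ[K] ((Fin l ⊕ Fin l) ⊕ Fin 2 → K)) w, c, d))

include hs

theorem s_mem (g : (minusF K l a b hab).iso) : s g ∈ St (minusF K (l + 1) a b hab) (pt K l) := by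
  rw [mem_St]
  intro w hw
  obtain ⟨t, rfl⟩ := Submodule.mem_span_singleton.1 hw
  rw [map_smul, hs, map_zero]
  exact Submodule.smul_mem _ _ (Submodule.mem_span_singleton_self _)

/-- **regular action on the unipotent radical** -/
theorem regular {g : (minusF K l a b hab).iso}
    (hg : ∀ x, (g : ((Fin l ⊕ Fin l) ⊕ Fin 2 → K) ≃ₗ[K] ((Fin l ⊕ Fin l) ⊕ Fin 2 → K)) x = x → x = 0)
    {u : (minusF K (l + 1) a b hab).iso} (hu : u ∈ rad (minusF K (l + 1) a b hab) (pt K l))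
    (hc : s g * u = u * s g) : u = 1 := by
  have hW := (pt_Om K hab l).1
  obtain ⟨h1, h2⟩ := (mem_rad hW).1 hu
  have hsp : ∀ v, ((s g : (minusF K (l + 1) a b hab).iso) : ((Fin (l + 1) ⊕ Fin (l + 1)) ⊕ Fin 2 → K) ≃ₗ[K]
      ((Fin (l + 1) ⊕ Fin (l + 1)) ⊕ Fin 2 → K)) ((u : ((Fin (l + 1) ⊕ Fin (l + 1)) ⊕ Fin 2 → K) ≃ₗ[K]
      ((Fin (l + 1) ⊕ Fin (l + 1)) ⊕ Fin 2 → K)) v) = (u : ((Fin (l + 1) ⊕ Fin (l + 1)) ⊕ Fin 2 → K) ≃ₗ[K]
      ((Fin (l + 1) ⊕ Fin (l + 1)) ⊕ Fin 2 → K)) (((s g : (minusF K (l + 1) a b hab).iso) :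
      ((Fin (l + 1) ⊕ Fin (l + 1)) ⊕ Fin 2 → K) ≃ₗ[K] ((Fin (l + 1) ⊕ Fin (l + 1)) ⊕ Fin 2 → K)) v) := by
    intro v
    rw [← mul_ap, hc, mul_ap]
  have hfix : ∀ w ∈ pt K l, ((s g : (minusF K (l + 1) a b hab).iso) : ((Fin (l + 1) ⊕ Fin (l + 1)) ⊕ Fin 2 → K) ≃ₗ[K]
      ((Fin (l + 1) ⊕ Fin (l + 1)) ⊕ Fin 2 → K)) w = w := by
    intro w hw
    obtain ⟨t, rfl⟩ := Submodule.mem_span_singleton.1 hw
    rw [map_smul, hs, map_zero]
  have hperp : ∀ x c, st K l (x, c, 0) ∈ (minusF K (l + 1) a b hab).perp (pt K l) := by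
    intro x c w hw
    obtain ⟨t, rfl⟩ := Submodule.mem_span_singleton.1 hw
    rw [CForm.B_smul_right, B_st, CForm.B_zero_right, mul_zero, mul_zero, add_zero, add_zero, mul_zero]
  -- `g - 1` is surjective
  let N : ((Fin l ⊕ Fin l) ⊕ Fin 2 → K) →ₗ[K] ((Fin l ⊕ Fin l) ⊕ Fin 2 → K) :=
    (g : ((Fin l ⊕ Fin l) ⊕ Fin 2 → K) ≃ₗ[K] ((Fin l ⊕ Fin l) ⊕ Fin 2 → K)).toLinearMap - LinearMap.id
  have hN : ∀ x, N x = (g : ((Fin l ⊕ Fin l) ⊕ Fin 2 → K) ≃ₗ[K] ((Fin l ⊕ Fin l) ⊕ Fin 2 → K)) x - x := fun _ => rfl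
  have hNi : Function.Injective N := by
    rw [injective_iff_map_eq_zero]
    intro x hx
    rw [hN, sub_eq_zero] at hx
    exact hg x hx
  have hNs : Function.Surjective N := (LinearMap.injective_iff_surjective (f := N)).1 hNi
  have hX : ∀ x, (u : ((Fin (l + 1) ⊕ Fin (l + 1)) ⊕ Fin 2 → K) ≃ₗ[K]
      ((Fin (l + 1) ⊕ Fin (l + 1)) ⊕ Fin 2 → K)) (st K l (x, 0, 0)) = st K l (x, 0, 0) := by
    intro x
    obtain ⟨y, rfl⟩ := hNs x
    have e1 : st K l (N y, 0, 0) = ((s g : (minusF K (l + 1) a b hab).iso) :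
        ((Fin (l + 1) ⊕ Fin (l + 1)) ⊕ Fin 2 → K) ≃ₗ[K] ((Fin (l + 1) ⊕ Fin (l + 1)) ⊕ Fin 2 → K))
          (st K l (y, 0, 0)) - st K l (y, 0, 0) := by
      rw [hs, ← map_sub, hN, Prod.mk_sub_mk, Prod.mk_sub_mk, sub_self]
    have h3 := h2 _ (hperp y 0)
    have h4 := hfix _ h3
    rw [map_sub, hsp] at h4
    rw [e1, map_sub]
    rw [sub_eq_sub_iff_add_eq_add] at h4 ⊢
    exact h4.trans (add_comm _ _)
  have he : (u : ((Fin (l + 1) ⊕ Fin (l + 1)) ⊕ Fin 2 → K) ≃ₗ[K]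
      ((Fin (l + 1) ⊕ Fin (l + 1)) ⊕ Fin 2 → K)) (st K l (0, 1, 0)) = st K l (0, 1, 0) :=
    h1 _ (Submodule.mem_span_singleton_self _)
  have hf : (u : ((Fin (l + 1) ⊕ Fin (l + 1)) ⊕ Fin 2 → K) ≃ₗ[K]
      ((Fin (l + 1) ⊕ Fin (l + 1)) ⊕ Fin 2 → K)) (st K l (0, 0, 1)) = st K l (0, 0, 1) := by
    obtain ⟨⟨x, c, d⟩, hx⟩ := (st K l).surjective ((u : ((Fin (l + 1) ⊕ Fin (l + 1)) ⊕ Fin 2 → K) ≃ₗ[K]
      ((Fin (l + 1) ⊕ Fin (l + 1)) ⊕ Fin 2 → K)) (st K l (0, 0, 1)))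
    have e1 := (minusF K (l + 1) a b hab).iso_B u (st K l (0, 0, 1)) (st K l (0, 1, 0))
    rw [he, ← hx, B_st, B_st, CForm.B_zero_right, CForm.B_zero_right, mul_zero, zero_add, zero_add, one_mul, mul_zero,
      zero_add, one_mul, zero_add] at e1
    have e2 : ∀ y, (minusF K l a b hab).B x y = 0 := by
      intro y
      have e3 := (minusF K (l + 1) a b hab).iso_B u (st K l (0, 0, 1)) (st K l (y, 0, 0))
      rw [hX, ← hx, B_st, B_st, CForm.B_zero_left, mul_zero, zero_mul, zero_mul, zero_mul, add_zero, add_zero,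
        add_zero] at e3
      exact e3
    have hx0 : x = 0 := (minusF K l a b hab).nondeg x e2
    have e4 := (minusF K (l + 1) a b hab).iso_Q u (st K l (0, 0, 1))
    rw [← hx, Q_st, Q_st, hx0, CForm.Q_zero, e1, zero_mul, mul_one, add_zero, zero_add] at e4
    rw [← hx, hx0, e4, e1]
  apply Subtype.ext
  refine LinearEquiv.ext fun v => ?_
  obtain ⟨⟨x, c, d⟩, rfl⟩ := (st K l).surjective v
  have e5 : st K l (x, c, d) = st K l (x, 0, 0) + c • st K l (0, 1, 0) + d • st K l (0, 0, 1) := by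
    rw [← map_smul, ← map_smul, ← map_add, ← map_add]
    congr 1
    simp
  rw [e5, map_add, map_add, map_smul, map_smul, hX, he, hf]
  rfl

/-- vanishing at the regular elements -/
theorem van {g : (minusF K l a b hab).iso}
    (hg : ∀ x, (g : ((Fin l ⊕ Fin l) ⊕ Fin 2 → K) ≃ₗ[K] ((Fin l ⊕ Fin l) ⊕ Fin 2 → K)) x = x → x = 0)
    {χ : (minusF K (l + 1) a b hab).iso → ℂ} (hχ : IsIrrCharacter _ χ)
    (h0 : ∀ [Fintype (rad (minusF K (l + 1) a b hab) (pt K l))],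
      ∑ v : rad (minusF K (l + 1) a b hab) (pt K l), χ v = 0) : χ (s g) = 0 := by
  have := finite_iso (minusF K (l + 1) a b hab)
  have : Fintype (rad (minusF K (l + 1) a b hab) (pt K l)) := Fintype.ofFinite _
  have hW := (pt_Om K hab l).1
  obtain ⟨n, ρ, hρ, rfl⟩ := hχ
  refine H710.Cuspidal.zero_of_regular ρ _ h0 (fun u => ⟨fun hu => rad_conj hW (s_mem K hab l hs g) hu, fun hu => ?_⟩)
    (fun u hu hc => regular K hab l hs hg hu hc)
  have h1 := rad_conj hW (inv_mem (s_mem K hab l hs g)) hu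
  have h2 : (s g)⁻¹ * (s g * u * (s g)⁻¹) * (s g)⁻¹⁻¹ = u := by group
  rwa [h2] at h1

end

/-- **the degrees of the cuspidal characters** -/
theorem dvd_degree (K : Type u) [Field K] [Finite K] (hq : 4 ≤ Nat.card K) {a b : K}
    (hab : ∀ z₁ z₂ : K, z₁ ^ 2 + a * z₁ * z₂ + b * z₂ ^ 2 = 0 → z₁ = 0 ∧ z₂ = 0) (l : ℕ)
    {χ : (minusF K (l + 1) a b hab).iso → ℂ} (hχ : IsIrrCharacter _ χ)
    (h0 : ∀ [Fintype (rad (minusF K (l + 1) a b hab) (pt K l))],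
      ∑ v : rad (minusF K (l + 1) a b hab) (pt K l), χ v = 0)
    {p : ℕ} (hp : p.Prime) (hpq : p ∣ Nat.card K ^ (l + 1) + 1) : p ∣ charDegree χ := by
  have := finite_iso (minusF K (l + 1) a b hab)
  obtain ⟨L, i1, i2, ⟨D⟩⟩ := minus_dat K hq l hab
  have := D.finL
  obtain ⟨s, hs⟩ := exists_s K hab l
  have hcu := D.card_units
  have : Fact p.Prime := ⟨hp⟩
  obtain ⟨u, hu⟩ := exists_prime_orderOf_dvd_card' (G := Lˣ) p (by rw [hcu]; exact Dvd.dvd.mul_left hpq _)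
  obtain ⟨t, ht⟩ := D.exists_t (u := u) (by
    obtain ⟨r, hr⟩ := hpq
    rw [hr, pow_mul, ← hu, pow_orderOf_eq_one, one_pow])
  have hti : ∀ i : ℤ, ∃ c, D.Sem ((t ^ i : D.T) : (minusF K l a b hab).iso) 1 (u ^ i) c := by
    intro i
    obtain ⟨c, hc⟩ := D.wH_spec (t ^ i)
    rw [map_zpow, ht] at hc
    exact ⟨c, hc⟩
  have key : ∀ i : ℤ, (t ^ i : D.T) ≠ 1 → ∀ x, (((t ^ i : D.T) : (minusF K l a b hab).iso) :
      ((Fin l ⊕ Fin l) ⊕ Fin 2 → K) ≃ₗ[K] ((Fin l ⊕ Fin l) ⊕ Fin 2 → K)) x = x → x = 0 := by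
    intro i hi x hx
    obtain ⟨c, hc⟩ := hti i
    have hui : u ^ i ≠ 1 := by
      intro h
      apply hi
      apply Subtype.ext
      apply Subtype.ext
      refine LinearEquiv.ext fun v => D.j.injective ?_
      rw [hc, h, Units.val_one, one_mul]
      exact Prod.ext rfl (Subsingleton.elim _ _)
    have h1 := hc x
    rw [hx] at h1
    have h2 : (D.j x).1 = ((u ^ i : Lˣ) : L) * (D.j x).1 := congrArg Prod.fst h1
    have h3 : (((u ^ i : Lˣ) : L) - 1) * (D.j x).1 = 0 := by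
      rw [sub_mul, one_mul, ← h2, sub_self]
    have h4 : ((u ^ i : Lˣ) : L) - 1 ≠ 0 := by
      intro h
      exact hui (Units.ext (sub_eq_zero.1 h))
    apply D.j.injective
    rw [map_zero]
    exact Prod.ext ((mul_eq_zero.1 h3).resolve_left h4) (Subsingleton.elim _ _)
  have hsi : ∀ g, s g = 1 → g = 1 := by
    intro g hg
    apply Subtype.ext
    refine LinearEquiv.ext fun x => ?_
    have h1 := hs g x 0 0
    rw [hg] at h1
    have h2 := (st K l).injective h1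
    exact (congrArg Prod.fst h2).symm
  have hE := card_dvd_of_van hχ (Subgroup.zpowers (s (t : (minusF K l a b hab).iso))) (fun x hx hx1 => by
    obtain ⟨i, rfl⟩ := Subgroup.mem_zpowers_iff.1 hx
    have h1 : s (t : (minusF K l a b hab).iso) ^ i = s ((t ^ i : D.T) : (minusF K l a b hab).iso) := by
      rw [← map_zpow]
      rfl
    rw [h1] at hx1 ⊢
    refine van K hab l hs (key i fun h => hx1 ?_) hχ h0
    rw [h]
    exact map_one s)
  refine dvd_trans ?_ hE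
  rw [Nat.card_zpowers, ← hu]
  apply orderOf_dvd_of_pow_eq_one
  have h1 : s ((t : (minusF K l a b hab).iso) ^ orderOf (s (t : (minusF K l a b hab).iso))) = 1 := by
    rw [map_pow, pow_orderOf_eq_one]
  have h2 := hsi _ h1
  have h3 : (t : D.T) ^ orderOf (s (t : (minusF K l a b hab).iso)) = 1 := Subtype.ext h2
  rw [← ht, ← map_pow, h3, map_one]

end Cfsg.Agent.R2.DZ.T3.Eight
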