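import Cfsg.Agent.R2.DZ.T3.EightA

/-!
# S4527, box T3: `O⁻_8(q)`, `5 ≤ p ∣ q + 1` (helper21)
-/

set_option autoImplicit false
set_option linter.unusedSectionVars false
set_option linter.style.haveILetI false

open scoped ComplexConjugate
open Cfsg

namespace Cfsg.Agent.R2.DZ.T3.Eight

open Cfsg.Agent.Characters Module Cfsg.Agent.H477.HC Cfsg.Agent.H477.HC.CForm Cfsg.Agent.H749.Two Tor
  Cfsg.Agent.H113.Cusp.Tool Cfsg.Agent.H113.Cusp.Flag Cfsg.Agent.H113.Two.HcOne Cfsg.Agent.H365.Zsig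

universe u v w

/-- elements of `T` satisfy `t ^ (q ^ e + 1) = 1` if `Y = 0` -/
theorem pow_T {K : Type u} [Field K] [Finite K] {V : Type v} [AddCommGroup V] [Module K V] {F : CForm K V} {L : Type}
    [Field L] [Algebra K L] {e : ℕ} (D : Dat F L (Fin 0 → K) e) (t : D.T) :
    (t : F.iso) ^ (Nat.card K ^ e + 1) = 1 := by
  obtain ⟨c, hc⟩ := D.wH_spec (t ^ (Nat.card K ^ e + 1))
  obtain ⟨c', hc'⟩ := D.wH_spec t
  rw [map_pow, D.w_pow hc'] at hc
  have h1 : ((t ^ (Nat.card K ^ e + 1) : D.T) : F.iso) = 1 := by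
    apply Subtype.ext
    refine LinearEquiv.ext fun v => D.j.injective ?_
    rw [hc, Units.val_one, one_mul]
    exact Prod.ext rfl (Subsingleton.elim _ _)
  exact h1

/-- the prime powers `q ≡ -1` modulo a prime `≥ 5` -/
theorem q_cases {K : Type u} [Field K] [Finite K] {p : ℕ} (hp : p.Prime) (h5 : 5 ≤ p) (hpq : p ∣ Nat.card K + 1) :
    (Nat.card K = 4 ∧ p = 5) ∨ (Even (Nat.card K) ∧ 16 ≤ Nat.card K) ∨ (Odd (Nat.card K) ∧ 9 ≤ Nat.card K) := by
  have hq2 : 2 ≤ Nat.card K := Finite.one_lt_card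
  have h1 := Nat.le_of_dvd (by omega) hpq
  rcases Nat.even_or_odd (Nat.card K) with he | ho
  · obtain ⟨r, hr⟩ := CharP.exists K
    have hrp : r.Prime := (CharP.char_is_prime_or_zero K r).resolve_right (CharP.char_ne_zero_of_finite K r)
    have : Fact r.Prime := ⟨hrp⟩
    obtain ⟨t, ht⟩ := card_pow K r
    have h2 : r = 2 := by
      have h3 : 2 ∣ r ^ t := ht ▸ he.two_dvd
      exact ((Nat.prime_dvd_prime_iff_eq Nat.prime_two hrp).1 (Nat.prime_two.dvd_of_dvd_pow h3)).symm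
    subst h2
    rcases Nat.lt_or_ge t 4 with h3 | h3
    · interval_cases t
      · omega
      · omega
      · left
        refine ⟨by omega, ?_⟩
        rw [ht] at hpq
        exact (Nat.prime_dvd_prime_iff_eq hp (by norm_num)).1 hpq
      · exfalso
        rw [ht] at hpq
        have h6 : p ∣ 3 ^ 2 := hpq
        have h7 := (Nat.prime_dvd_prime_iff_eq hp Nat.prime_three).1 (hp.dvd_of_dvd_pow h6)
        omega
    · right; left
      refine ⟨he, ?_⟩
      rw [ht]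
      calc 16 = 2 ^ 4 := by norm_num
        _ ≤ 2 ^ t := Nat.pow_le_pow_right (by norm_num) h3
  · right; right
    refine ⟨ho, ?_⟩
    obtain ⟨j, hj⟩ := ho
    have h2 : p ∣ 2 * (j + 1) := by
      have : 2 * (j + 1) = Nat.card K + 1 := by omega
      rwa [this]
    have h3 : p ∣ j + 1 := ((hp.dvd_mul.1 h2).resolve_left fun h => by
      have := (Nat.prime_dvd_prime_iff_eq hp Nat.prime_two).1 h
      omega)
    have := Nat.le_of_dvd (by omega) h3
    omega

theorem not_dvd_of_mod {p x : ℕ} (hp : p.Prime) (h5 : 5 ≤ p) {c : ℕ} (hc : c < 5) (hc0 : 0 < c)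
    (h : (p : ℤ) ∣ (x : ℤ) - c ∨ (p : ℤ) ∣ (x : ℤ) + c) : ¬ p ∣ x := by
  intro hx
  have hx' : (p : ℤ) ∣ (x : ℤ) := Int.natCast_dvd_natCast.2 hx
  have h1 : (p : ℤ) ∣ (c : ℤ) := by
    rcases h with h | h
    · have := dvd_sub hx' h
      rwa [sub_sub_cancel] at this
    · have := dvd_sub h hx'
      rwa [add_sub_cancel_left] at this
  have := Nat.le_of_dvd hc0 (Int.natCast_dvd_natCast.1 h1)
  omega

section

variable (K : Type u) [Field K] [Finite K] {a b : K}
  (hab : ∀ z₁ z₂ : K, z₁ ^ 2 + a * z₁ * z₂ + b * z₂ ^ 2 = 0 → z₁ = 0 ∧ z₂ = 0) {p : ℕ}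

/-- the `p`-part of the order -/
theorem fac_le (hp : p.Prime) (h5 : 5 ≤ p) (hpq : p ∣ Nat.card K + 1) {N c : ℕ} (hN : Nat.card K + 1 = c * N) (hc : c ∣ 2) :
    p ^ (Nat.card (minusF K 3 a b hab).iso).factorization p ∣ N ^ 3 := by
  obtain ⟨r, hr⟩ := CharP.exists K
  have hrp : r.Prime := (CharP.char_is_prime_or_zero K r).resolve_right (CharP.char_ne_zero_of_finite K r)
  have : Fact r.Prime := ⟨hrp⟩
  have hq2 : 2 ≤ Nat.card K := Finite.one_lt_card
  obtain ⟨q, hq⟩ : ∃ q, q = Nat.card K := ⟨_, rfl⟩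
  have h1 := Nat.ordProj_dvd (Nat.card (minusF K 3 a b hab).iso) p
  have h2 : Nat.card (minusF K 3 a b hab).iso = (2 * q ^ 12 * (q ^ 4 + 1) * (q - 1) ^ 3 * (q ^ 2 + 1) * (q ^ 2 + q + 1) *
      (q ^ 2 - q + 1)) * (q + 1) ^ 3 := by
    rw [card_minusF, ← hq]
    simp only [Finset.prod_range_succ, Finset.prod_range_zero, one_mul]
    have e1 : q ^ (2 * (0 + 1)) - 1 = (q + 1) * (q - 1) := by
      have := sq_sub q 1
      rwa [pow_one] at this
    have e2 : q ^ (2 * (1 + 1)) - 1 = (q ^ 2 + 1) * ((q + 1) * (q - 1)) := by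
      rw [← e1]
      exact sq_sub q 2
    have e3 : q ^ (2 * (2 + 1)) - 1 = (q ^ 2 + q + 1) * (q ^ 2 - q + 1) * ((q + 1) * (q - 1)) := by
      rw [← hq] at hq2
      obtain ⟨x, rfl⟩ := Nat.exists_eq_add_of_le hq2
      have e4 : (2 + x) ^ 2 - (2 + x) = x ^ 2 + 3 * x + 2 := by
        have : (2 + x) ^ 2 = x ^ 2 + 4 * x + 4 := by ring
        omega
      have e5 : 2 + x - 1 = x + 1 := by omega
      rw [e4, e5]
      have e6 : (2 + x) ^ (2 * (2 + 1)) = ((2 + x) ^ 2 + (2 + x) + 1) * (x ^ 2 + 3 * x + 2 + 1) * ((2 + x + 1) * (x + 1)) + 1 := by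
        ring
      omega
    rw [e1, e2, e3]
    ring
  rw [h2] at h1
  have hcop : Nat.Coprime p (2 * q ^ 12 * (q ^ 4 + 1) * (q - 1) ^ 3 * (q ^ 2 + 1) * (q ^ 2 + q + 1) *
      (q ^ 2 - q + 1)) := by
    have hz : (p : ℤ) ∣ (q : ℤ) + 1 := by
      have := Int.natCast_dvd_natCast.2 hpq
      rw [← hq] at this
      push_cast at this
      exact this
    rw [← hq] at hq2
    have hn : ∀ {x c : ℕ}, c < 5 → 0 < c → ((p : ℤ) ∣ (x : ℤ) - c ∨ (p : ℤ) ∣ (x : ℤ) + c) → Nat.Coprime p x :=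
      fun hc hc0 h => (Nat.Prime.coprime_iff_not_dvd hp).2 (not_dvd_of_mod hp h5 hc hc0 h)
    refine Nat.Coprime.mul_right (Nat.Coprime.mul_right (Nat.Coprime.mul_right (Nat.Coprime.mul_right
      (Nat.Coprime.mul_right (Nat.Coprime.mul_right ?_ (Nat.Coprime.pow_right _ ?_)) ?_) (Nat.Coprime.pow_right _ ?_)) ?_) ?_) ?_
    · exact hn (c := 2) (by norm_num) (by norm_num) (Or.inl (by norm_num))
    · exact hn (c := 1) (by norm_num) (by norm_num) (Or.inr (by exact_mod_cast hz))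
    · refine hn (c := 2) (by norm_num) (by norm_num) (Or.inl ?_)
      have : ((q ^ 4 + 1 : ℕ) : ℤ) - (2 : ℕ) = ((q : ℤ) + 1) * ((q : ℤ) ^ 3 - q ^ 2 + q - 1) := by push_cast; ring
      rw [this]
      exact Dvd.dvd.mul_right hz _
    · refine hn (c := 2) (by norm_num) (by norm_num) (Or.inr ?_)
      have : ((q - 1 : ℕ) : ℤ) + (2 : ℕ) = ((q : ℤ) + 1) := by
        rw [Nat.cast_sub (by omega)]; push_cast; ring
      rw [this]
      exact hz
    · refine hn (c := 2) (by norm_num) (by norm_num) (Or.inl ?_)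
      have : ((q ^ 2 + 1 : ℕ) : ℤ) - (2 : ℕ) = ((q : ℤ) + 1) * ((q : ℤ) - 1) := by push_cast; ring
      rw [this]
      exact Dvd.dvd.mul_right hz _
    · refine hn (c := 1) (by norm_num) (by norm_num) (Or.inl ?_)
      have : ((q ^ 2 + q + 1 : ℕ) : ℤ) - (1 : ℕ) = ((q : ℤ) + 1) * (q : ℤ) := by push_cast; ring
      rw [this]
      exact Dvd.dvd.mul_right hz _
    · refine hn (c := 3) (by norm_num) (by norm_num) (Or.inl ?_)
      have : ((q ^ 2 - q + 1 : ℕ) : ℤ) - (3 : ℕ) = ((q : ℤ) + 1) * ((q : ℤ) - 2) := by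
        rw [Nat.cast_add, Nat.cast_sub (by nlinarith)]; push_cast; ring
      rw [this]
      exact Dvd.dvd.mul_right hz _
  have h3 := (Nat.Coprime.pow_left ((Nat.card (minusF K 3 a b hab).iso).factorization p) hcop).dvd_of_dvd_mul_left
    (show p ^ (Nat.card (minusF K 3 a b hab).iso).factorization p ∣ _ by rw [← h2] at h1 ⊢; exact h1)
  rw [hq, hN, mul_pow] at h3
  refine (Nat.Coprime.pow_left _ ?_).dvd_of_dvd_mul_left h3
  refine Nat.Coprime.pow_right _ ((Nat.Prime.coprime_iff_not_dvd hp).2 fun h => ?_)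
  have := (Nat.prime_dvd_prime_iff_eq hp Nat.prime_two).1 (h.trans hc)
  omega

/-- **`O⁻_8(q)`, `5 ≤ p ∣ q + 1`** -/
theorem dzf_minus_eight (hp : p.Prime) (h5 : 5 ≤ p) (hpq : p ∣ Nat.card K + 1) :
    DZF p (fun a => a ^ 2 = 1) (minusF K 3 a b hab) := by
  have : Fact p.Prime := ⟨hp⟩
  have := finite_iso (minusF K 3 a b hab)
  have hq2 : 2 ≤ Nat.card K := Finite.one_lt_card
  have hqc := q_cases hp h5 hpq
  have hq4 : 4 ≤ Nat.card K := by omega
  obtain ⟨L, i1, i2, ⟨D⟩⟩ := minus_dat K hq4 3 hab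
  have := D.finL
  have hgen : Gen K L 4 (2 * RR (Nat.card K) 4) := gen_of D.hfr (by norm_num)
  obtain ⟨k, μ, hk, hirr, hinj, hres, hcen⟩ := D.family (by norm_num) hgen
    (fun i hi hi2 => gcd_Ph hi hi2 hq2) (dvd_mul_Ph (by norm_num) hq2) (card_eq (by norm_num) hq2)
  have hPh : Ph (2 * (3 + 1)) (Nat.card K) = Nat.card K ^ 4 + 1 := by
    have := Ph_two (q := Nat.card K) (k := 2) hq2
    norm_num at this ⊢
    exact this
  rw [hPh] at hk
  -- the members agree at the `p`-singular elements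
  have hsing : ∀ i j g, p ∣ orderOf g → μ i g = μ j g := by
    intro i j g hg
    refine hres i j g fun x hx => ?_
    exfalso
    have h1 := pow_T D ⟨_, hx⟩
    have h2 : g ^ (Nat.card K ^ 4 + 1) = 1 := by
      have h3 : (x * g * x⁻¹) ^ (Nat.card K ^ (3 + 1) + 1) = 1 := h1
      rw [conj_pow, conj_eq_one_iff] at h3
      exact h3
    have h3 : p ∣ Nat.card K ^ 4 + 1 := hg.trans (orderOf_dvd_of_pow_eq_one h2)
    have hz : (p : ℤ) ∣ (Nat.card K : ℤ) + 1 := by
      have := Int.natCast_dvd_natCast.2 hpq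
      push_cast at this
      exact this
    refine not_dvd_of_mod hp h5 (c := 2) (by norm_num) (by norm_num) (Or.inl ?_) h3
    have : ((Nat.card K ^ 4 + 1 : ℕ) : ℤ) - (2 : ℕ) =
        ((Nat.card K : ℤ) + 1) * ((Nat.card K : ℤ) ^ 3 - (Nat.card K : ℤ) ^ 2 + (Nat.card K : ℤ) - 1) := by
      push_cast; ring
    rw [this]
    exact Dvd.dvd.mul_right hz _
  -- it suffices to count
  have hfin : ∀ i₀ : Fin k, p ^ ((Nat.card (minusF K 3 a b hab).iso).factorization p -
      (charDegree (μ i₀)).factorization p) < k → DZF p (fun a => a ^ 2 = 1) (minusF K 3 a b hab) := by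
    intro i₀ h
    have h1 := family hirr hinj hsing i₀ (by rw [Fintype.card_fin]; exact h)
    refine dzf_of_dz ⟨μ i₀, hirr _, h1, fun z c hc hz => ?_⟩
    obtain ⟨h2, h3, h4⟩ := D.scal (M := 2 * RR (Nat.card K) 4) hz (by rw [pow_mul, hc, one_pow])
    refine hcen ?_ z h2 h3 h4 _
    have h5 := Nat.one_le_pow ((Nat.card (minusF K 3 a b hab).iso).factorization p -
      (charDegree (μ i₀)).factorization p) p (by omega)
    omega
  obtain ⟨q, hq⟩ : ∃ q, q = Nat.card K := ⟨_, rfl⟩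
  have hlt : ∀ i₀ : Fin k, ∀ N, p ^ (Nat.card (minusF K 3 a b hab).iso).factorization p ∣ N ^ 3 → 0 < N → N ^ 3 < k →
      DZF p (fun a => a ^ 2 = 1) (minusF K 3 a b hab) := by
    intro i₀ N h1 hN h2
    refine hfin i₀ (lt_of_le_of_lt ((Nat.pow_le_pow_right (by omega) (Nat.sub_le _ _)).trans
      (Nat.le_of_dvd (by positivity) h1)) h2)
  have heven : Even (Nat.card K) → Nat.card K ^ 4 + 1 ≤ 2 * 4 * k + 2 * 4 := by
    intro he
    have h1 : Nat.gcd (Nat.card K ^ 4 + 1) 2 = 1 := ((he.pow_of_ne_zero (by norm_num)).add_one).coprime_two_right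
    rw [h1, Nat.div_one] at hk
    exact hk
  rcases hqc with ⟨h4, rfl⟩ | ⟨he, h16⟩ | ⟨ho, h9⟩
  · -- `q = 4`
    have h1 := heven (by rw [h4]; decide)
    rw [h4] at h1
    have hk32 : 32 ≤ k := by omega
    refine hfin ⟨0, by omega⟩ ?_
    have h2 := fac_le K hab hp h5 hpq (N := Nat.card K + 1) (c := 1) (one_mul _).symm (by norm_num)
    rw [h4] at h2
    have h3 : (Nat.card (minusF K 3 a b hab).iso).factorization 5 ≤ 3 :=
      (Nat.pow_dvd_pow_iff_le_right (by norm_num : 1 < 5)).1 h2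
    have h6 : 5 ∣ charDegree (μ ⟨0, by omega⟩) := by
      refine dvd_degree K hq4 hab 2 (hirr _) (fun {_} => ?_) hp (by rw [h4]; norm_num)
      exact Mac.cusp_tower (F := fun n => minusF K n a b hab)
        (fun k n => by
          obtain ⟨W₀, h1, h2⟩ := minusF_cmp (K := K) hab k n
          exact ⟨_, W₀, h1, h2⟩)
        (fun n W hW => minus_witt K a b hab n W hW) 3 hirr hinj
        (fun W hW0 hW g hg i j => D.agree hgen hres W hW0 hW g hg i j) (by rw [Fintype.card_fin]; omega)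
        1 one_pos _ (pt_Om K hab 2) _
    have h7 : 1 ≤ (charDegree (μ ⟨0, by omega⟩)).factorization 5 := by
      have h0 : charDegree (μ ⟨0, by omega⟩) ≠ 0 := by
        intro h0
        have := Cfsg.Agent.Blocks.Basic.irr_one_eq_charDegree (hirr ⟨0, by omega⟩)
        rw [h0, Nat.cast_zero] at this
        exact Core.isIrr_apply_one_ne_zero (hirr _) this
      exact (hp.dvd_iff_one_le_factorization h0).1 h6
    have h8 : 5 ^ ((Nat.card (minusF K 3 a b hab).iso).factorization 5 -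
        (charDegree (μ ⟨0, by omega⟩)).factorization 5) ≤ 5 ^ 2 := Nat.pow_le_pow_right (by norm_num) (by omega)
    omega
  · have h1 := heven he
    rw [← hq] at h1 h16
    have hk0 : (q + 1) ^ 3 < k := by
      by_contra h
      have h2 : 2 * 4 * k ≤ 2 * 4 * (q + 1) ^ 3 := Nat.mul_le_mul_left _ (by omega)
      obtain ⟨x, rfl⟩ := Nat.exists_eq_add_of_le h16
      nlinarith [Nat.zero_le (x ^ 4), Nat.zero_le (x ^ 3), Nat.zero_le (x ^ 2)]
    have h2 := fac_le K hab hp h5 hpq (N := Nat.card K + 1) (c := 1) (one_mul _).symm (by norm_num)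
    rw [← hq] at h2
    exact hlt ⟨0, by omega⟩ (q + 1) h2 (by omega) hk0
  · obtain ⟨j, hj⟩ := ho
    have h1 : Nat.card K ^ 4 + 1 ≤ 2 * (2 * 4 * k + 2 * 4) := by
      have h2 := Nat.div_mul_cancel (Nat.gcd_dvd_left (Nat.card K ^ 4 + 1) 2)
      have h3 : Nat.gcd (Nat.card K ^ 4 + 1) 2 ≤ 2 := Nat.gcd_le_right _ (by norm_num)
      have h4 := Nat.mul_le_mul hk h3
      rw [h2] at h4
      omega
    have hk0 : (j + 1) ^ 3 < k := by
      by_contra h
      have h2 : k ≤ (j + 1) ^ 3 := by omega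
      rw [hj] at h1
      obtain ⟨x, rfl⟩ : ∃ x, j = 4 + x := ⟨j - 4, by omega⟩
      nlinarith [Nat.zero_le (x ^ 4), Nat.zero_le (x ^ 3), Nat.zero_le (x ^ 2)]
    have h2 := fac_le K hab hp h5 hpq (N := j + 1) (c := 2) (by omega) dvd_rfl
    exact hlt ⟨0, by omega⟩ (j + 1) h2 (by omega) hk0

end

end Cfsg.Agent.R2.DZ.T3.Eight
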