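import Cfsg.Agent.R2.DZ.T3.RowsA
import Cfsg.Agent.R2.H1.DZ.Psu
import Cfsg.Agent.R2.H1.DZ.Psl
import Cfsg.Agent.S0300
import Cfsg.Agent.S0303
import Cfsg.Agent.S0280

/-!
# S4527, classical groups: from `PΩ` to `O` (helper21)

`DZF.of_pomega` : a character of `p`-defect zero of `PΩ` gives one of `O`, trivial at the scalars;
`dzf_minus_one`, `dzf_minus_two` : `O⁻_4(q)`, `O⁻_6(q)` from `PSL_2(q²)`, `PSU_4(q)`.
-/

set_option autoImplicit false

open scoped ComplexConjugate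
open Cfsg

namespace Cfsg.Agent.R2.DZ.T3

open Cfsg.Agent.Characters MulAction Module Cfsg.Agent.H53.HC Cfsg.Agent.H477.HC Cfsg.Agent.H749.Two
open Cfsg.Agent.H665.NoPQ

universe u v w

/-- going up from a quotient of a normal subgroup -/
theorem exists_lift {G : Type u} [Group G] [Finite G] (N : Subgroup G) [N.Normal] {Q : Type v} [Group Q]
    (f : N →* Q) (hf : Function.Surjective f) (Z₀ : Subgroup G) [Z₀.Normal]
    (hZ : ∀ n : N, (n : G) ∈ Z₀ → f n = 1) {ψ : Q → ℂ} (hψ : IsIrrCharacter Q ψ) {e : ℕ} (he : ψ 1 = e) :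
    ∃ (χ : G → ℂ) (d : ℕ), IsIrrCharacter G χ ∧ χ 1 = (d : ℂ) ∧ e ∣ d ∧ ∀ z ∈ Z₀, χ z = χ 1 := by
  classical
  let π : G →* G ⧸ Z₀ := QuotientGroup.mk' Z₀
  let s : N →* N.map π := π.subgroupMap N
  have hs : Function.Surjective s := π.subgroupMap_surjective N
  have hker : s.ker ≤ f.ker := by
    intro n hn
    rw [MonoidHom.mem_ker] at hn ⊢
    apply hZ
    have h1 : π (n : G) = 1 := congrArg Subtype.val hn
    exact (QuotientGroup.eq_one_iff (n : G)).1 h1
  let g : N.map π →* Q := MonoidHom.liftOfSurjective s hs ⟨f, hker⟩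
  have hg : ∀ n, g (s n) = f n := fun n => MonoidHom.liftOfRightInverse_comp_apply _ _ _ ⟨f, hker⟩ n
  have hgs : Function.Surjective g := fun q => by
    obtain ⟨n, hn⟩ := hf q
    exact ⟨s n, by rw [hg, hn]⟩
  have hnorm : (N.map π).Normal := Subgroup.Normal.map inferInstance π (QuotientGroup.mk'_surjective Z₀)
  let _ : Fintype (G ⧸ Z₀) := Fintype.ofFinite _
  let _ : Fintype (N.map π) := Fintype.ofFinite _
  have hθ : IsIrrCharacter (N.map π) (ψ ∘ g) := Core.isIrr_comp g hgs hψ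
  obtain ⟨χ, hχ⟩ := Cfsg.Agent.Blocks.Over.exists_over (N.map π) ⟨ψ ∘ g, hθ⟩
  obtain ⟨c, hc0, hc⟩ := Core.isIrr_apply_one χ.2
  obtain ⟨h1, -⟩ := Cfsg.Agent.S0887.result (N.map π) (χ : G ⧸ Z₀ → ℂ) χ.2 (ψ ∘ g) hθ hχ c e hc (by
    rw [Function.comp_apply, map_one, he])
  refine ⟨(χ : G ⧸ Z₀ → ℂ) ∘ π, c, Core.isIrr_comp π (QuotientGroup.mk'_surjective Z₀) χ.2, ?_, h1, fun z hz => ?_⟩
  · rw [Function.comp_apply, map_one, hc]
  · rw [Function.comp_apply, Function.comp_apply, map_one]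
    exact congrArg (χ : G ⧸ Z₀ → ℂ) ((QuotientGroup.eq_one_iff z).2 hz)

/-- **from `PΩ` to `O`** -/
theorem DZF.of_pomega {ι : Type} [Fintype ι] [DecidableEq ι] {K : Type u} [Field K] [Finite K] (F : CForm K (ι → K))
    (hB : ∀ u v, F.B u v = F.Q (u + v) - F.Q u - F.Q v) {p c : ℕ} (hp : p.Prime) (hc : ¬ p ∣ c)
    (hcard : Nat.card F.iso = c * Nat.card (POmega K F.Q)) (h : HasDZ p (POmega K F.Q)) :
    DZF p (fun _ => True) F := by
  classical
  obtain ⟨⟨ψ, hψ⟩, hd⟩ := h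
  obtain ⟨e, he0, he⟩ := Core.isIrr_apply_one hψ
  have hde : charDegree ψ = e := Cfsg.Agent.Blocks.Basic.charDegree_of_eq he
  let E := isoQuad F hB
  -- the scalars
  let Z₀ : Subgroup (isometryGroup K F.Q) :=
    { carrier := {z | ∃ a : Kˣ, ∀ v, ((E z : F.iso) : (ι → K) ≃ₗ[K] (ι → K)) v = (a : K) • v}
      one_mem' := ⟨1, fun v => by rw [map_one, Units.val_one, one_smul]; rfl⟩
      mul_mem' := by
        rintro x y ⟨a, ha⟩ ⟨b, hb⟩
        refine ⟨a * b, fun v => ?_⟩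
        rw [map_mul]
        change ((E x : F.iso) : (ι → K) ≃ₗ[K] (ι → K)) (((E y : F.iso) : (ι → K) ≃ₗ[K] (ι → K)) v) = _
        rw [hb, map_smul, ha, smul_smul, Units.val_mul, mul_comm]
      inv_mem' := by
        rintro x ⟨a, ha⟩
        refine ⟨a⁻¹, fun v => ?_⟩
        have h1 : ((E x : F.iso) : (ι → K) ≃ₗ[K] (ι → K)) (((E x⁻¹ : F.iso) : (ι → K) ≃ₗ[K] (ι → K)) v) = v := by
          rw [map_inv]
          exact ((E x : F.iso) : (ι → K) ≃ₗ[K] (ι → K)).apply_symm_apply v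
        rw [ha] at h1
        rw [← h1, smul_smul, Units.inv_mul, one_smul, h1] }
  have hcomm : ∀ z ∈ Z₀, ∀ g : isometryGroup K F.Q, z * g = g * z := by
    rintro z ⟨a, ha⟩ g
    apply E.injective
    rw [map_mul, map_mul]
    apply Subtype.ext
    apply LinearEquiv.ext
    intro v
    change ((E z : F.iso) : (ι → K) ≃ₗ[K] (ι → K)) (((E g : F.iso) : (ι → K) ≃ₗ[K] (ι → K)) v) =
      ((E g : F.iso) : (ι → K) ≃ₗ[K] (ι → K)) (((E z : F.iso) : (ι → K) ≃ₗ[K] (ι → K)) v)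
    rw [ha, ha, map_smul]
  have hnorm : Z₀.Normal := ⟨fun z hz g => by
    rw [← hcomm z hz g, mul_assoc, mul_inv_cancel, mul_one]
    exact hz⟩
  obtain ⟨χ, d, hχ, hχ1, hed, hz⟩ := exists_lift (Omega K F.Q) (QuotientGroup.mk' (Subgroup.center (Omega K F.Q)))
    (QuotientGroup.mk'_surjective _) Z₀ (fun n hn => (QuotientGroup.eq_one_iff n).2
      (Subgroup.mem_center_iff.2 fun g => by
        apply Subtype.ext
        exact (hcomm _ hn g).symm)) hψ he
  have hfin : Finite (isometryGroup K F.Q) := inferInstance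
  refine ⟨χ ∘ E.symm, d, Core.isIrr_comp E.symm.toMonoidHom E.symm.surjective hχ, ?_, ?_, fun z a _ hza => ?_⟩
  · rw [Function.comp_apply, map_one, hχ1]
  · refine Dvd.dvd.trans ?_ hed
    rw [hcard, fac_of_not_dvd hp (fun h0 => hc (by rw [h0]; exact dvd_zero p)) Nat.card_pos.ne' hc, ← hd]
    change p ^ (charDegree ψ).factorization p ∣ e
    rw [hde]
    exact Nat.ordProj_dvd _ _
  · rw [Function.comp_apply, Function.comp_apply, map_one]
    refine hz _ ⟨a, fun v => ?_⟩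
    rw [E.apply_symm_apply]
    exact hza v

section

variable (K : Type) [Field K] [Finite K] {r : ℕ} [Fact r.Prime] [CharP K r] {p : ℕ} (a b : K)
  (hab : ∀ z₁ z₂ : K, z₁ ^ 2 + a * z₁ * z₂ + b * z₂ ^ 2 = 0 → z₁ = 0 ∧ z₂ = 0)

include r in
/-- `O⁻_4(q)` -/
theorem dzf_minus_one (hp : p.Prime) (h5 : 5 ≤ p) (hpr : p ≠ r) : DZF p (fun _ => True) (CForm.minusF K 1 a b hab) := by
  have : Fact p.Prime := ⟨hp⟩
  let _ : Fintype K := Fintype.ofFinite K
  have hq2 : 2 ≤ Nat.card K := Finite.one_lt_card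
  obtain ⟨L, _, _, _, hL⟩ := exists_L K 2 (by norm_num)
  let _ : Fintype L := Fintype.ofFinite L
  have hcL : Fintype.card L = Nat.card K ^ 2 := by
    rw [← Nat.card_eq_fintype_card, Module.natCard_eq_pow_finrank (K := K), hL]
  obtain ⟨e⟩ := Cfsg.Agent.S0300.result (F := K) (K := L) (q := Nat.card K) (Nat.card_eq_fintype_card.symm) hcL a b hab
  have hpq : ¬ p ∣ Fintype.card L := by
    rw [hcL]
    exact not_dvd_pow K (r := r) hp hpr 2
  have h1 : HasDZ p (Matrix.ProjectiveSpecialLinearGroup (Fin 2) L) :=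
    Cfsg.Agent.R2.H1.DZ.hasDZ_psl le_rfl (fun _ => by rw [hcL]; nlinarith) hp h5 hpq
  have hfin : Finite (Matrix.ProjectiveSpecialLinearGroup (Fin 2) L) := inferInstance
  have h2 : HasDZ p (POmega K (CForm.minusF K 1 a b hab).Q) := congr e.symm h1
  have h3 := Cfsg.Agent.H686.VO.PSL.card_psl L 0
  rw [hcL] at h3
  have h4 : Nat.card (POmega K (CForm.minusF K 1 a b hab).Q) =
      Nat.card (Matrix.ProjectiveSpecialLinearGroup (Fin (0 + 2)) L) := Nat.card_congr e.toEquiv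
  refine DZF.of_pomega (CForm.minusF K 1 a b hab) (minus_hB K 1 a b hab) (c := 2 * Nat.gcd (0 + 2) (Nat.card K ^ 2 - 1))
    hp (fun h => ?_) ?_ h2
  · rcases hp.dvd_mul.1 h with h6 | h6
    · have := Nat.le_of_dvd (by omega) h6
      omega
    · have := Nat.le_of_dvd (by omega) (h6.trans (Nat.gcd_dvd_left _ _))
      omega
  · rw [h4, mul_assoc, h3, card_minusF]
    rw [Finset.prod_range_one, Finset.prod_range_one]
    have e1 : (Nat.card K ^ 2) ^ (0 + 2) - 1 = (Nat.card K ^ 2 + 1) * (Nat.card K ^ 2 - 1) := by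
      rw [← pow_mul]
      exact sq_sub (Nat.card K) 2
    rw [e1]
    norm_num
    ring

include r in
/-- `O⁻_6(q)` -/
theorem dzf_minus_two (hp : p.Prime) (h5 : 5 ≤ p) (hpr : p ≠ r) : DZF p (fun _ => True) (CForm.minusF K 2 a b hab) := by
  have : Fact p.Prime := ⟨hp⟩
  let _ : Fintype K := Fintype.ofFinite K
  have hq2 : 2 ≤ Nat.card K := Finite.one_lt_card
  obtain ⟨L, _, _, _, hL⟩ := exists_L K 2 (by norm_num)
  let _ : Fintype L := Fintype.ofFinite L
  have hcL : Fintype.card L = Nat.card K ^ 2 := by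
    rw [← Nat.card_eq_fintype_card, Module.natCard_eq_pow_finrank (K := K), hL]
  obtain ⟨e⟩ := Cfsg.Agent.S0303.result (F := K) (K := L) (q := Nat.card K) (Nat.card_eq_fintype_card.symm) hcL a b hab
  have hpq : ¬ p ∣ Nat.card K := by
    have := not_dvd_pow K (r := r) hp hpr 1
    rwa [pow_one] at this
  have h1 : HasDZ p (PSU 4 L (Nat.card K)) :=
    Cfsg.Agent.R2.H1.DZ.hasDZ_psu hcL (by norm_num) (by omega) hp h5 hpq
  have hfin : Finite (PSU 4 L (Nat.card K)) := inferInstance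
  have h2 : HasDZ p (POmega K (CForm.minusF K 2 a b hab).Q) := congr e.symm h1
  have h3 := Cfsg.Agent.S0280.result hcL 4 (by norm_num)
  have h4 : Nat.card (POmega K (CForm.minusF K 2 a b hab).Q) = Nat.card (PSU 4 L (Nat.card K)) :=
    Nat.card_congr e.toEquiv
  refine DZF.of_pomega (CForm.minusF K 2 a b hab) (minus_hB K 2 a b hab) (c := 2 * Nat.gcd 4 (Nat.card K + 1))
    hp (fun h => ?_) ?_ h2
  · rcases hp.dvd_mul.1 h with h6 | h6
    · have := Nat.le_of_dvd (by omega) h6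
      omega
    · have := Nat.le_of_dvd (by omega) (h6.trans (Nat.gcd_dvd_left _ _))
      omega
  · rw [h4, card_minusF]
    have h5 : Nat.gcd 4 (Nat.card K + 1) * Nat.card (PSU 4 L (Nat.card K)) =
        Nat.card K ^ 6 * ((Nat.card K ^ 2 - 1) * (Nat.card K ^ 3 + 1) * (Nat.card K ^ 4 - 1)) := by
      apply Nat.eq_of_mul_eq_mul_left (show 0 < Nat.card K + 1 by omega)
      calc (Nat.card K + 1) * (Nat.gcd 4 (Nat.card K + 1) * Nat.card (PSU 4 L (Nat.card K)))
          = Nat.gcd 4 (Nat.card K + 1) * ((Nat.card K + 1) * Nat.card (PSU 4 L (Nat.card K))) := by ring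
        _ = _ := h3
        _ = _ := by
          simp only [Finset.prod_range_succ, Finset.prod_range_zero]
          norm_num [Nat.even_iff]
          ring
    rw [mul_assoc 2 (Nat.gcd 4 (Nat.card K + 1)), h5]
    simp only [Finset.prod_range_succ, Finset.prod_range_zero]
    norm_num
    ring

end

end Cfsg.Agent.R2.DZ.T3
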