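import Cfsg.Agent.H160.HT.Mu
import Cfsg.Agent.H113.Cusp.Reg
import Cfsg.Agent.OddOrderCharacters.PF10.Bridge

/-!
# S4527, box T3: the norm of a Harish-Chandra induced character, abstract part (helper21)

* `cs` : Cauchy–Schwarz for characters; `isCharacter_of_inner`;
* `norm_le'` : the Mackey bound for the norm of an induced character, for a character which need not be irreducible;
* `AA ρ γ θ` : the truncated restriction: `(AA ρ γ θ)(z) = |ker ρ|⁻¹ ∑ θ(y) conj γ(y)` over `ρ y = z`;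
* `fib` : the Mackey term of a fibre product.
-/

set_option autoImplicit false
set_option linter.unusedSectionVars false

open scoped ComplexConjugate
open Cfsg

namespace Cfsg.Agent.R2.DZ.T3.Mac

open Cfsg.Agent.OddOrderCharacters.Clifford Cfsg.Agent.Characters Cfsg.Agent.H53.HC Module
  Cfsg.Agent.H113.Cusp.Tool Cfsg.Agent.H160.HT.Mu

/-- Cauchy–Schwarz for characters -/
theorem cs {D : Type*} [Group D] [Fintype D] {α β : D → ℂ} {a b m : ℕ} (ha : classInner α α = a)
    (hb : classInner β β = b) (hm : classInner α β = m) : m ^ 2 ≤ a * b := by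
  rcases Nat.eq_zero_or_pos b with h0 | h0
  · subst h0
    have h1 : β = 0 := Core.classInner_self_eq_zero (by rw [hb]; simp)
    rw [h1, Core.classInner_zero_right] at hm
    have h2 : m = 0 := by exact_mod_cast hm.symm
    rw [h2]; simp
  · have h1 := Cfsg.Agent.OddOrderCharacters.PF10.Bridge.int_cauchy (x := α) (y := β) (a := a) (b := b) (c := m)
      (by rw [ha]; simp) (by rw [hb]; simp) (by rw [hm]; simp) (by exact_mod_cast h0)
    exact_mod_cast h1

theorem isCharacter_of_inner {H : Type*} [Group H] [Fintype H] {f : H → ℂ} (hf : IsClassFunction H f)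
    (h : ∀ χ : H → ℂ, IsIrrCharacter H χ → ∃ n : ℕ, classInner f χ = n) : IsCharacter H f := by
  classical
  have : Finite (IrrCharacter H) := Core.finite_irr
  let _ : Fintype (IrrCharacter H) := Fintype.ofFinite _
  choose n hn using fun χ : IrrCharacter H => h χ χ.2
  rw [Core.isCharacter_iff]
  refine ⟨n, ?_⟩
  conv_lhs => rw [Core.classFunction_eq_sum hf]
  refine Finset.sum_congr rfl fun χ _ => ?_
  rw [hn, Nat.cast_smul_eq_nsmul]

section norm

variable {G : Type*} [Group G]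

/-- **the norm of an induced character is at most the norm of the character plus the sum of the Mackey terms** -/
theorem norm_le' [Fintype G] (P : Subgroup G) [Fintype P] {ψ : P → ℂ} (hc : IsCharacter P ψ) {n₀ : ℕ}
    (hn : classInner ψ ψ = n₀) {ι : Type*} [Fintype ι]
    (y : ι → G) (m : ι → ℕ) (h : ∀ x : G, x ∉ P → twist P ψ ψ x = 0 ∨ ∃ i, ∃ a ∈ P, ∃ b ∈ P, x = a * y i * b)
    (hm : ∀ i, MLe P ψ (y i) (m i)) :
    ∃ N : ℕ, N ≤ n₀ + ∑ i, m i ∧ classInner (indFun P ψ) (indFun P ψ) = N := by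
  classical
  have hcl := Core.isCharacter_isClassFunction hc
  have hI := Cfsg.Agent.S0148.result P ψ hc
  obtain ⟨N, hN⟩ := Core.classInner_isNat hI hI
  refine ⟨N, ?_, hN⟩
  choose t ht using fun x => twist_eq_nat P hc hc x
  have hk : ∀ i, ∃ k : ℕ, k ≤ m i ∧ ∀ [Fintype (dsub P (y i))],
      classInner (ψ ∘ (dsub P (y i)).subtype) (ψ ∘ dhom P (y i)) = k := by
    intro i
    have := Fintype.ofFinite (dsub P (y i))
    obtain ⟨k, hk, he⟩ := (hm i).out
    refine ⟨k, hk, fun {_} => ?_⟩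
    convert he
  choose k hk1 hk2 using hk
  have hP : 0 < Nat.card P := Nat.card_pos
  have h1 : ∑ x : G, t x = Nat.card P * Nat.card P * N := by
    have h2 := classInner_indFun_indFun P ψ ψ
    rw [hN, Finset.sum_congr rfl fun x _ => ht x] at h2
    have h3 : (Nat.card P : ℂ) ≠ 0 := card_ne_zero'
    field_simp at h2
    have h4 : ((Nat.card P * Nat.card P * N : ℕ) : ℂ) = ((∑ x : G, t x : ℕ) : ℂ) := by
      push_cast
      linear_combination h2
    exact_mod_cast h4.symm
  have h2 : ∑ x ∈ Finset.univ.filter (fun x => x ∈ P), t x = Nat.card P * Nat.card P * n₀ := by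
    have h3 : ∀ x ∈ Finset.univ.filter (fun x => x ∈ P), t x = Nat.card P * n₀ := by
      intro x hx
      have h4 := twist_of_mem P ψ ψ hcl x (Finset.mem_filter.1 hx).2
      rw [hn, ht] at h4
      exact_mod_cast h4
    rw [Finset.sum_congr rfl h3, Finset.sum_const, smul_eq_mul, mul_assoc]
    congr 1
    rw [← Fintype.card_subtype, ← Nat.card_eq_fintype_card]
  have h3 : ∀ i, ∑ x ∈ Finset.univ.filter (fun x => ∃ a ∈ P, ∃ b ∈ P, x = a * y i * b), t x =
      Nat.card P * Nat.card P * k i := by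
    intro i
    have := Fintype.ofFinite (dsub P (y i))
    have h4 := sum_dcoset P hcl (y i)
    rw [hk2, Finset.sum_congr rfl fun x _ => ht x] at h4
    exact_mod_cast h4
  have h4 : ∑ x ∈ Finset.univ.filter (fun x => x ∉ P), t x ≤
      ∑ i, ∑ x ∈ Finset.univ.filter (fun x => ∃ a ∈ P, ∃ b ∈ P, x = a * y i * b), t x := by
    have h5 : ∀ i, ∑ x ∈ Finset.univ.filter (fun x => ∃ a ∈ P, ∃ b ∈ P, x = a * y i * b), t x =
        ∑ x : G, if (∃ a ∈ P, ∃ b ∈ P, x = a * y i * b) then t x else 0 := fun i => Finset.sum_filter _ _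
    rw [Finset.sum_congr rfl fun i _ => h5 i, Finset.sum_comm]
    refine (Finset.sum_le_sum fun x hx => ?_).trans (Finset.sum_le_sum_of_subset (Finset.filter_subset _ _))
    rcases h x (Finset.mem_filter.1 hx).2 with h0 | ⟨i, hi⟩
    · have h7 : t x = 0 := by
        rw [ht] at h0
        exact_mod_cast h0
      rw [h7]
      exact Nat.zero_le _
    · have h6 := Finset.single_le_sum (f := fun i => if (∃ a ∈ P, ∃ b ∈ P, x = a * y i * b) then t x else 0)
        (fun i _ => Nat.zero_le _) (Finset.mem_univ i)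
      rwa [if_pos hi] at h6
  have h5 := Finset.sum_filter_add_sum_filter_not Finset.univ (fun x => x ∈ P) t
  rw [h1, h2] at h5
  rw [Finset.sum_congr rfl fun i _ => h3 i, ← Finset.mul_sum] at h4
  have h6 : Nat.card P * Nat.card P * N ≤ Nat.card P * Nat.card P * (n₀ + ∑ i, k i) := by
    rw [← h5, mul_add]
    exact Nat.add_le_add_left h4 _
  have h7 := Nat.le_of_mul_le_mul_left h6 (Nat.mul_pos hP hP)
  exact h7.trans (Nat.add_le_add_left (Finset.sum_le_sum fun i _ => hk1 i) n₀)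

end norm

section trunc

variable {Q H : Type*} [Group Q] [Group H] [Fintype Q] [Fintype H] (ρ : Q →* H) (γ θ : Q → ℂ)

open scoped Classical in
/-- the truncated restriction -/
noncomputable def AA : H → ℂ := fun z =>
  (Nat.card ρ.ker : ℂ)⁻¹ * ∑ y ∈ Finset.univ.filter (fun y => ρ y = z), θ y * conj (γ y)

variable {ρ γ θ}

open scoped Classical in
theorem AA_apply (z : H) : AA ρ γ θ z =
    (Nat.card ρ.ker : ℂ)⁻¹ * ∑ y ∈ Finset.univ.filter (fun y => ρ y = z), θ y * conj (γ y) := rfl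

theorem AA_class (hρ : Function.Surjective ρ) (hγ : IsClassFunction Q γ) (hθ : IsClassFunction Q θ) :
    IsClassFunction H (AA ρ γ θ) := by
  classical
  intro g h
  obtain ⟨y₀, rfl⟩ := hρ h
  rw [AA_apply, AA_apply]
  congr 1
  refine Finset.sum_bij' (fun y _ => y₀⁻¹ * y * y₀) (fun y _ => y₀ * y * y₀⁻¹) ?_ ?_ ?_ ?_ ?_
  · intro y hy
    rw [Finset.mem_filter] at hy ⊢
    refine ⟨Finset.mem_univ _, ?_⟩
    rw [map_mul, map_mul, hy.2, map_inv]
    group
  · intro y hy
    rw [Finset.mem_filter] at hy ⊢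
    refine ⟨Finset.mem_univ _, ?_⟩
    rw [map_mul, map_mul, hy.2, map_inv]
  · intro y _; group
  · intro y _; group
  · intro y _
    have e : y = y₀ * (y₀⁻¹ * y * y₀) * y₀⁻¹ := by group
    rw [e, hθ, hγ]
    congr 3 <;> group

/-- the adjunction -/
theorem AA_adj (hρ : Function.Surjective ρ) (f : H → ℂ) :
    classInner (AA ρ γ θ) f = classInner θ (fun y => γ y * f (ρ y)) := by
  classical
  rw [Core.classInner_def, Core.classInner_def, card_surj ρ hρ, Nat.cast_mul, mul_inv, mul_assoc, mul_left_comm]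
  congr 1
  rw [Finset.mul_sum, ← Finset.sum_fiberwise_of_maps_to (s := (Finset.univ : Finset Q))
    (t := (Finset.univ : Finset H)) (g := ρ) (fun _ _ => Finset.mem_univ _)]
  refine Finset.sum_congr rfl fun z _ => ?_
  rw [AA_apply, mul_assoc, Finset.sum_mul, ← Finset.mul_sum]
  congr 1
  refine Finset.sum_congr rfl fun y hy => ?_
  rw [(Finset.mem_filter.1 hy).2, map_mul]
  ring

theorem AA_char (hρ : Function.Surjective ρ) (hγ : IsCharacter Q γ) (hθ : IsCharacter Q θ) :
    IsCharacter H (AA ρ γ θ) := by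
  refine isCharacter_of_inner (AA_class hρ (Core.isCharacter_isClassFunction hγ)
    (Core.isCharacter_isClassFunction hθ)) fun χ hχ => ?_
  rw [AA_adj hρ]
  exact Core.classInner_isNat hθ (Core.isCharacter_mul hγ (Core.isCharacter_comp ρ (Core.isIrr_isCharacter hχ)))

/-- **the Mackey term of a fibre product** -/
theorem fib {D : Type*} [Group D] [Fintype D] (hρ : Function.Surjective ρ) (Φ₁ Φ₂ : D →* Q)
    (h12 : ∀ d, ρ (Φ₁ d) = ρ (Φ₂ d)) (hsurj : ∀ y₁ y₂, ρ y₁ = ρ y₂ → ∃ d, Φ₁ d = y₁ ∧ Φ₂ d = y₂) :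
    classInner (fun d => γ (Φ₂ d) * θ (Φ₁ d)) (fun d => γ (Φ₁ d) * θ (Φ₂ d)) =
      classInner (AA ρ γ θ) (AA ρ γ θ) := by
  classical
  let E : Subgroup (Q × Q) := (ρ.comp (MonoidHom.fst Q Q)).eqLocus (ρ.comp (MonoidHom.snd Q Q))
  have hE : ∀ p : Q × Q, p ∈ E ↔ ρ p.1 = ρ p.2 := fun p => Iff.rfl
  let _ : Fintype E := Fintype.ofFinite _
  let f : D →* E := (Φ₁.prod Φ₂).codRestrict E fun d => h12 d
  have hf : Function.Surjective f := by
    rintro ⟨⟨y₁, y₂⟩, hy⟩
    obtain ⟨d, h1, h2⟩ := hsurj y₁ y₂ hy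
    exact ⟨d, Subtype.ext (Prod.ext h1 h2)⟩
  have e1 := classInner_surj f hf (fun p : E => γ (p : Q × Q).2 * θ (p : Q × Q).1)
    (fun p : E => γ (p : Q × Q).1 * θ (p : Q × Q).2)
  have e1' : classInner (fun d => γ (Φ₂ d) * θ (Φ₁ d)) (fun d => γ (Φ₁ d) * θ (Φ₂ d)) =
      classInner (fun p : E => γ (p : Q × Q).2 * θ (p : Q × Q).1) (fun p : E => γ (p : Q × Q).1 * θ (p : Q × Q).2) :=
    e1
  rw [e1', Core.classInner_def, Core.classInner_def]
  -- the order of `E`
  have hκ : ∀ z : H, (Finset.univ.filter (fun y => ρ y = z)).card = Nat.card ρ.ker := by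
    intro z
    obtain ⟨y₀, rfl⟩ := hρ z
    rw [Nat.card_eq_fintype_card, ← Fintype.card_coe]
    refine Fintype.card_congr ⟨fun y => ⟨y₀⁻¹ * y.1, ?_⟩, fun y => ⟨y₀ * y.1, ?_⟩, fun y => ?_, fun y => ?_⟩
    · rw [MonoidHom.mem_ker, map_mul, (Finset.mem_filter.1 y.2).2, map_inv, inv_mul_cancel]
    · rw [Finset.mem_filter]
      refine ⟨Finset.mem_univ _, ?_⟩
      rw [map_mul, MonoidHom.mem_ker.1 y.2, mul_one]
    · apply Subtype.ext; exact mul_inv_cancel_left _ _
    · apply Subtype.ext; exact inv_mul_cancel_left _ _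
  have key : ∀ g : Q → Q → ℂ, ∑ p : E, g (p : Q × Q).1 (p : Q × Q).2 =
      ∑ z : H, ∑ y₁ ∈ Finset.univ.filter (fun y => ρ y = z), ∑ y₂ ∈ Finset.univ.filter (fun y => ρ y = z), g y₁ y₂ := by
    intro g
    have h1 : ∑ p : E, g (p : Q × Q).1 (p : Q × Q).2 =
        ∑ p ∈ Finset.univ.filter (fun p : Q × Q => ρ p.1 = ρ p.2), g p.1 p.2 := by
      refine (Finset.sum_subtype _ (fun p => ?_) (fun p : Q × Q => g p.1 p.2)).symm
      rw [Finset.mem_filter, hE]
      simp
    rw [h1, Finset.sum_filter, Fintype.sum_prod_type]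
    rw [← Finset.sum_fiberwise_of_maps_to (s := (Finset.univ : Finset Q))
      (t := (Finset.univ : Finset H)) (g := ρ) (fun _ _ => Finset.mem_univ _)]
    refine Finset.sum_congr rfl fun z _ => Finset.sum_congr rfl fun y₁ hy₁ => ?_
    rw [Finset.sum_filter]
    refine Finset.sum_congr rfl fun y₂ _ => ?_
    rw [(Finset.mem_filter.1 hy₁).2]
    by_cases h : ρ y₂ = z
    · rw [if_pos h, if_pos h.symm]
    · rw [if_neg h, if_neg (Ne.symm h)]
  have hcard : (Nat.card E : ℂ) = Nat.card H * (Nat.card ρ.ker * Nat.card ρ.ker) := by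
    have h1 := key (fun _ _ => (1 : ℂ))
    simp only [Finset.sum_const, hκ, Finset.card_univ, ← Nat.card_eq_fintype_card, nsmul_eq_mul, mul_one] at h1
    exact h1
  have h0 : (Nat.card ρ.ker : ℂ) ≠ 0 := Core.card_ne_zero_complex
  have h2 := key (fun y₁ y₂ => γ y₂ * θ y₁ * conj (γ y₁ * θ y₂))
  rw [h2, hcard, mul_inv, mul_assoc]
  congr 1
  rw [Finset.mul_sum]
  refine Finset.sum_congr rfl fun z _ => ?_
  rw [AA_apply, map_mul, map_inv₀, Complex.conj_natCast, map_sum, mul_inv, mul_mul_mul_comm, Finset.sum_mul_sum]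
  congr 1
  refine Finset.sum_congr rfl fun y₁ _ => Finset.sum_congr rfl fun y₂ _ => ?_
  rw [map_mul, map_mul, Complex.conj_conj]
  ring

end trunc

end Cfsg.Agent.R2.DZ.T3.Mac
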