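import Cfsg.Agent.R2.DZ.T3.MacA

/-!
# S4527, box T3: the Mackey terms of a Harish-Chandra induced character of a classical group (helper21)

`P = St F W₀`, `ψ = c ⊗ θ` (`psi`), `c` an irreducible character of `GL k`, `θ` a character of `F'.iso`.

* `norm_psi` : `[ψ, ψ] = [θ, θ]`;
* `twist_zero` : the term vanishes at the mixed pairs (`c` cuspidal);
* `mle_opp'` : it is at most `[θ, θ]` at the opposite pairs;
* `exists_y`, `mack_perp` : the term at an orthogonal disjoint pair is `[A θ, A θ]`, `A` the truncated restriction.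
-/

set_option autoImplicit false
set_option linter.unusedSectionVars false

open scoped ComplexConjugate
open Cfsg

namespace Cfsg.Agent.R2.DZ.T3.Mac

open Cfsg.Agent.OddOrderCharacters.Clifford Cfsg.Agent.Characters Module Cfsg.Agent.H53.HC
open Cfsg.Agent.H477.HC Cfsg.Agent.H477.HC.CForm Cfsg.Agent.H113.Two.HcOne
  Cfsg.Agent.H113.Cusp.Tool Cfsg.Agent.H113.Cusp.Flag Cfsg.Agent.H113.Cusp.Asm Cfsg.Agent.H749.Two
  Cfsg.Agent.H160.HT.Mu

universe u v w w'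

variable {K : Type u} [Field K] {V : Type v} [AddCommGroup V] [Module K V] {X : Type w} [AddCommGroup X] [Module K X]
variable {F : CForm K V} {F' : CForm K X} {j : X →ₗ[K] V} {W₀ : Submodule K V}

/-- the homomorphism of `Cmp.exists_rho` -/
structure Rho (F : CForm K V) (F' : CForm K X) (j : X →ₗ[K] V) (W₀ : Submodule K V) (ρ : St F W₀ →* F'.iso) :
    Prop where
  h1 : ∀ (g : St F W₀) x, ((g : F.iso) : V ≃ₗ[K] V) (j x) - j ((ρ g : X ≃ₗ[K] X) x) ∈ W₀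
  h2 : ∀ g : St F W₀, (g : F.iso) ∈ F.TT W₀ → ρ g = 1
  h3 : ∀ (a : W₀ ≃ₗ[K] W₀) (b : F'.iso), ∃ g : St F W₀, ρ g = b ∧ ∀ w : W₀, ((g : F.iso) : V ≃ₗ[K] V) w = a w

theorem exists_Rho [FiniteDimensional K V] [FiniteDimensional K X] (h : Cmp F F' j W₀) : ∃ ρ, Rho F F' j W₀ ρ := by
  obtain ⟨ρ, h1, h2, h3⟩ := h.exists_rho
  exact ⟨ρ, h1, h2, h3⟩

theorem Rho.surj {ρ : St F W₀ →* F'.iso} (hρ : Rho F F' j W₀ ρ) : Function.Surjective ρ := fun b => by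
  obtain ⟨g, hg, -⟩ := hρ.h3 1 b
  exact ⟨g, hg⟩

theorem Rho.eq {ρ : St F W₀ →* F'.iso} (hρ : Rho F F' j W₀ ρ) (h : Cmp F F' j W₀) {g : St F W₀} {b : F'.iso}
    (hb : ∀ x, ((g : F.iso) : V ≃ₗ[K] V) (j x) - j ((b : X ≃ₗ[K] X) x) ∈ W₀) : ρ g = b := by
  apply Subtype.ext
  ext x
  refine eq_of_sub_mem h ?_
  have h1 := W₀.sub_mem (hb x) (hρ.h1 g x)
  have e : ((g : F.iso) : V ≃ₗ[K] V) (j x) - j ((b : X ≃ₗ[K] X) x) -
      (((g : F.iso) : V ≃ₗ[K] V) (j x) - j ((ρ g : X ≃ₗ[K] X) x)) =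
      j ((ρ g : X ≃ₗ[K] X) x) - j ((b : X ≃ₗ[K] X) x) := by abel
  rwa [e] at h1

/-- the character `c ⊗ θ` of the stabiliser of `W₀` -/
noncomputable def psi {k : ℕ} (c : GL (Fin k) K → ℂ) (ρ : St F W₀ →* F'.iso) (θ : F'.iso → ℂ) : St F W₀ → ℂ :=
  fun g => flagTerm F.iso.subtype c (g : F.iso) W₀ * θ (ρ g)

section one

variable {k : ℕ} {c : GL (Fin k) K → ℂ} {ρ : St F W₀ →* F'.iso} {θ : F'.iso → ℂ}

theorem psi_eq (hcl : IsClassFunction _ c) (b : Basis (Fin k) K W₀) (g : St F W₀) :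
    psi c ρ θ g = c (fW F b g) * θ (ρ g) := by
  unfold psi
  rw [flagTerm_fW hcl b]

theorem isCharacter_psi (hW₀ : W₀ ∈ F.Om k) [FiniteDimensional K V] (hc : IsIrrCharacter _ c)
    (hθ : IsCharacter _ θ) : IsCharacter _ (psi c ρ θ) := by
  let b : Basis (Fin k) K W₀ := finBasisOfFinrankEq K W₀ hW₀.2
  have e : psi c ρ θ = (c ∘ fW F b) * (θ ∘ ρ) := by
    funext g
    exact psi_eq (Core.isIrr_isClassFunction hc) b g
  rw [e]
  exact Core.isCharacter_mul (Core.isCharacter_comp _ (Core.isIrr_isCharacter hc)) (Core.isCharacter_comp _ hθ)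

theorem norm_psi [Finite K] [FiniteDimensional K V] [Fintype (St F W₀)] [Fintype F'.iso] (hW₀ : W₀ ∈ F.Om k)
    (hc : IsIrrCharacter _ c) (hρ : Rho F F' j W₀ ρ) : classInner (psi c ρ θ) (psi c ρ θ) = classInner θ θ := by
  classical
  let _ := Fintype.ofFinite (GL (Fin k) K)
  let b : Basis (Fin k) K W₀ := finBasisOfFinrankEq K W₀ hW₀.2
  have e : psi c ρ θ = fun g => c (fW F b g) * θ (ρ g) := by
    funext g
    exact psi_eq (Core.isIrr_isClassFunction hc) b g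
  rw [e, classInner_joint (fW F b) ρ (joint b hρ.h3), Core.classInner_irr_self hc, one_mul]

/-- **the Mackey term vanishes** -/
theorem twist_zero [Finite K] [FiniteDimensional K V] [Finite V] [Fintype (St F W₀)] (hW₀ : W₀ ∈ F.Om k)
    (hc : IsIrrCharacter _ c) (hθ : IsCharacter _ θ) {x : F.iso}
    (hv : F.Van c (psf F W₀ (θ ∘ ρ)) W₀ (im x W₀)) : twist (St F W₀) (psi c ρ θ) (psi c ρ θ) x = 0 := by
  classical
  have := finite_iso F
  have hcl := Core.isIrr_isClassFunction hc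
  have hcl1 : IsClassFunction _ (θ ∘ ρ) := Core.isCharacter_isClassFunction (Core.isCharacter_comp ρ hθ)
  have hψ := isCharacter_psi (ρ := ρ) hW₀ hc hθ
  obtain ⟨L, hL1, hL2, hL3⟩ := hv
  have hL2' : ∀ l ∈ L, x⁻¹ * l * x ∈ St F W₀ := by
    intro l hl
    have h1 : im l (im x W₀) = im x W₀ := hL2 hl
    rw [mem_St', im_mul, im_mul, h1]
    exact im_inv rfl
  let _ : Fintype L := Fintype.ofFinite L
  refine twist_eq_zero_of_sub (St F W₀) hψ hψ x L hL1 hL2' ?_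
  rw [← hL3]
  refine Finset.sum_congr rfl fun l _ => ?_
  have e1 : psi c ρ θ ⟨l, hL1 l.2⟩ = flagTerm F.iso.subtype c (l : F.iso) W₀ * psf F W₀ (θ ∘ ρ) l W₀ := by
    rw [psf_self hcl1 ⟨l, hL1 l.2⟩]
    rfl
  have e2 : psi c ρ θ ⟨x⁻¹ * l * x, hL2' l l.2⟩ =
      flagTerm F.iso.subtype c (l : F.iso) (im x W₀) * psf F W₀ (θ ∘ ρ) l (im x W₀) := by
    rw [psf_eq hcl1 (x := x) rfl (hL2' l l.2)]
    have h1 := flagTerm_conj F.iso.subtype hcl x (x⁻¹ * (l : F.iso) * x) W₀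
    have h2 : x * (x⁻¹ * (l : F.iso) * x) * x⁻¹ = l := by group
    rw [h2] at h1
    rw [show flagTerm F.iso.subtype c (l : F.iso) (im x W₀) = _ from h1]
    rfl
  rw [e1, e2]

theorem psf_TT [Finite V] [FiniteDimensional K V] (hW₀ : W₀ ∈ F.Om k) (hρ : Rho F F' j W₀ ρ) (hθ : IsCharacter _ θ) :
    ∀ W ∈ F.Om k, ∀ g ∈ F.TT W, psf F W₀ (θ ∘ ρ) g W = psf F W₀ (θ ∘ ρ) 1 W := by
  have hcl1 : IsClassFunction _ (θ ∘ ρ) := Core.isCharacter_isClassFunction (Core.isCharacter_comp ρ hθ)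
  intro W hWk g hg
  obtain ⟨x, hx⟩ := F.trans_Om hW₀ hWk
  have h1 := TT_conj hx hg
  have h2 : x⁻¹ * 1 * x ∈ stabW F.iso.subtype W₀ := by
    rw [mul_one, inv_mul_cancel]; exact Subgroup.one_mem _
  rw [psf_eq hcl1 hx h1.1, psf_eq hcl1 hx h2]
  have e1 : ρ ⟨x⁻¹ * g * x, h1.1⟩ = 1 := hρ.h2 _ h1
  have e2 : (⟨x⁻¹ * 1 * x, h2⟩ : St F W₀) = 1 := by
    apply Subtype.ext
    change x⁻¹ * 1 * x = 1
    group
  change θ (ρ _) = θ (ρ _)
  rw [e1, e2, map_one]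

/-- **the mixed pairs** -/
theorem twist_mixed [Finite K] [FiniteDimensional K V] [Finite V] [Fintype (St F W₀)] (hW₀ : W₀ ∈ F.Om k)
    (hc : IsIrrCharacter _ c) (hcusp : IsCusp c) (hρ : Rho F F' j W₀ ρ) (hθ : IsCharacter _ θ) {x : F.iso}
    (hx : x ∉ St F W₀) (h0 : W₀ ⊓ F.perp (im x W₀) ≠ ⊥) (h1 : ¬ (W₀ ≤ F.perp (im x W₀) ∧ W₀ ⊓ im x W₀ = ⊥)) :
    twist (St F W₀) (psi c ρ θ) (psi c ρ θ) x = 0 := by
  have hcf := Core.isIrr_isClassFunction hc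
  refine twist_zero hW₀ hc hθ ?_
  by_cases h2 : W₀ ⊓ F.perp (im x W₀) = W₀
  · have h3 : W₀ ≤ F.perp (im x W₀) := inf_eq_left.1 h2
    exact van_case2 hcf hcusp (psf_TT hW₀ hρ hθ) hW₀ (F.Om_map x W₀ hW₀) h3 (fun h4 => h1 ⟨h3, h4⟩)
      (fun h4 => hx (mem_St'.2 h4))
  · exact van_case1 hcf hcusp (psf_TT hW₀ hρ hθ) hW₀ (F.Om_map x W₀ hW₀) h0 h2

theorem rho_of_rad [FiniteDimensional K V] (hρ : Rho F F' j W₀ ρ) {l g : St F W₀}
    (h : (l : F.iso)⁻¹ * g ∈ rad F W₀) (hW₀ : F.TS W₀) (b : Basis (Fin k) K W₀) : fW F b l = fW F b g ∧ ρ l = ρ g := by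
  have hn := (mem_rad hW₀).1 h
  have e : g = l * (l⁻¹ * g) := by group
  constructor
  · rw [e, map_mul]
    have h1 : fW F b (l⁻¹ * g) = 1 := by
      change glE b (resHom F.iso.subtype W₀ (l⁻¹ * g)) = 1
      have h2 : resHom F.iso.subtype W₀ (l⁻¹ * g) = 1 := by
        ext w
        exact hn.1 w w.2
      rw [h2, map_one]
    rw [h1, mul_one]
  · rw [e, map_mul, hρ.h2 (l⁻¹ * g) h.2, mul_one]

/-- **the opposite pairs** -/
theorem mle_opp' [Finite V] [Finite K] [FiniteDimensional K V] [Fintype F'.iso] (hW₀ : W₀ ∈ F.Om k)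
    (hc : IsIrrCharacter _ c) (hρ : Rho F F' j W₀ ρ) (hθ : IsCharacter _ θ) {n₀ : ℕ} (hn : classInner θ θ = n₀)
    {y : F.iso} (hy : W₀ ⊓ F.perp (im y W₀) = ⊥) : MLe (St F W₀) (psi c ρ θ) y n₀ := by
  classical
  have := finite_iso F
  have hcl := Core.isIrr_isClassFunction hc
  have hψ := isCharacter_psi (ρ := ρ) hW₀ hc hθ
  let b : Basis (Fin k) K W₀ := finBasisOfFinrankEq K W₀ hW₀.2
  have key : ∀ y : F.iso, W₀ ⊓ F.perp (im y W₀) = ⊥ → ∀ g ∈ St F W₀, ∃ l ∈ St F W₀, y⁻¹ * l * y ∈ St F W₀ ∧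
      l⁻¹ * g ∈ rad F W₀ := by
    intro y hy g hg
    have h1 := opp_im g⁻¹ hy
    rw [show im g⁻¹ W₀ = W₀ from mem_St'.1 (inv_mem hg)] at h1
    obtain ⟨u, hu, huW⟩ := rad_trans hW₀ (F.Om_map y W₀ hW₀) (F.Om_map g⁻¹ _ (F.Om_map y W₀ hW₀)) hy h1
    refine ⟨g * u, mul_mem hg (rad_le hu), ?_, ?_⟩
    · rw [mem_St', im_mul, im_mul, im_mul]
      have h2 : im u (im y W₀) = im g⁻¹ (im y W₀) := huW
      rw [h2, ← im_mul g, mul_inv_cancel, im_one]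
      exact im_inv rfl
    · rw [mul_inv_rev, inv_mul_cancel_right]
      exact inv_mem hu
  have hy' : W₀ ⊓ F.perp (im y⁻¹ W₀) = ⊥ := by
    have h3 := opp_symm (F := F) hW₀.2 (F.Om_map y W₀ hW₀).2 hy
    have h4 := opp_im y⁻¹ h3
    rwa [im_inv rfl] at h4
  refine ⟨fun {_} => ?_⟩
  let _ := Fintype.ofFinite (GL (Fin k) K)
  obtain ⟨m, hm⟩ := Core.classInner_isNat (Core.isCharacter_comp (dsub (St F W₀) y).subtype hψ)
    (Core.isCharacter_comp (dhom (St F W₀) y) hψ)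
  have hjoint : ∀ f : dsub (St F W₀) y →* St F W₀, (∀ g : St F W₀, ∃ d, ((f d : St F W₀) : F.iso)⁻¹ * g ∈ rad F W₀) →
      classInner (psi c ρ θ ∘ f) (psi c ρ θ ∘ f) = n₀ := by
    intro f hf
    have e : psi c ρ θ ∘ f = fun d => c ((fW F b).comp f d) * θ (ρ.comp f d) := by
      funext d
      exact psi_eq hcl b (f d)
    rw [e, classInner_joint ((fW F b).comp f) (ρ.comp f) (fun A B => by
      obtain ⟨g, hg1, hg2⟩ := joint b hρ.h3 A B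
      obtain ⟨d, hd⟩ := hf g
      obtain ⟨h1, h2⟩ := rho_of_rad hρ hd hW₀.1 b
      exact ⟨d, h1.trans hg1, h2.trans hg2⟩), Core.classInner_irr_self hc, one_mul, hn]
  have h1 := hjoint (dsub (St F W₀) y).subtype (fun g => by
    obtain ⟨l, hl, hl', hlg⟩ := key y hy g g.2
    exact ⟨⟨⟨l, hl⟩, (mem_dsub _ y _).2 hl'⟩, hlg⟩)
  have h2 := hjoint (dhom (St F W₀) y) (fun g => by
    obtain ⟨l, hl, hl', hlg⟩ := key y⁻¹ hy' g g.2
    rw [inv_inv] at hl'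
    have e : y⁻¹ * (y * l * y⁻¹) * y = l := by group
    refine ⟨⟨⟨y * l * y⁻¹, hl'⟩, (mem_dsub _ y _).2 (by rw [e]; exact hl)⟩, ?_⟩
    have e2 : dhom (St F W₀) y ⟨⟨y * l * y⁻¹, hl'⟩, (mem_dsub _ y _).2 (by rw [e]; exact hl)⟩ = ⟨l, hl⟩ :=
      Subtype.ext e
    rw [e2]
    exact hlg)
  refine ⟨m, ?_, hm⟩
  have h3 := cs h1 h2 hm
  rw [← sq] at h3
  exact (Nat.pow_le_pow_iff_left two_ne_zero).1 h3

end one

end Cfsg.Agent.R2.DZ.T3.Mac
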