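import Cfsg.Agent.R2.DZ.T3.MacB

/-!
# S4527, box T3: the Mackey term of an orthogonal disjoint pair (helper21)
-/

set_option autoImplicit false
set_option linter.unusedSectionVars false

open scoped ComplexConjugate
open Cfsg

namespace Cfsg.Agent.R2.DZ.T3.Mac

open Cfsg.Agent.OddOrderCharacters.Clifford Cfsg.Agent.Characters Module Cfsg.Agent.H53.HC
open Cfsg.Agent.H477.HC Cfsg.Agent.H477.HC.CForm Cfsg.Agent.H113.Two.HcOne
  Cfsg.Agent.H113.Cusp.Tool Cfsg.Agent.H113.Cusp.Flag Cfsg.Agent.H113.Cusp.Asm Cfsg.Agent.H749.Two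
  Cfsg.Agent.H160.HT.Mu

universe u v w w'

/-- an automorphism exchanging two complementary subspaces -/
theorem exists_swap_eq {K : Type*} [Field K] {M : Type*} [AddCommGroup M] [Module K M] [FiniteDimensional K M]
    {A A' B B' : Submodule K M} (h : IsCompl A A') (h' : IsCompl B B') (hd : finrank K A = finrank K B)
    (hd' : finrank K A' = finrank K B') :
    ∃ a : M ≃ₗ[K] M, A.map (a : M →ₗ[K] M) = B ∧ A'.map (a : M →ₗ[K] M) = B' := by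
  have e1 : A ≃ₗ[K] B := LinearEquiv.ofFinrankEq _ _ hd
  have e2 : A' ≃ₗ[K] B' := LinearEquiv.ofFinrankEq _ _ hd'
  have key : ∀ {A A' B B' : Submodule K M} (h : IsCompl A A') (h' : IsCompl B B') (e1 : A ≃ₗ[K] B) (e2 : A' ≃ₗ[K] B'),
      (∀ x (hx : x ∈ A), ((Submodule.prodEquivOfIsCompl A A' h).symm.trans (e1.prodCongr e2)).trans
        (Submodule.prodEquivOfIsCompl B B' h') x = e1 ⟨x, hx⟩) ∧
      (∀ x (hx : x ∈ A'), ((Submodule.prodEquivOfIsCompl A A' h).symm.trans (e1.prodCongr e2)).trans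
        (Submodule.prodEquivOfIsCompl B B' h') x = e2 ⟨x, hx⟩) := by
    intro A A' B B' h h' e1 e2
    constructor
    · intro x hx
      have h3 : (Submodule.prodEquivOfIsCompl A A' h).symm x = (⟨x, hx⟩, 0) := by
        rw [LinearEquiv.symm_apply_eq]
        simp
      rw [LinearEquiv.trans_apply, LinearEquiv.trans_apply, h3]
      simp
    · intro x hx
      have h3 : (Submodule.prodEquivOfIsCompl A A' h).symm x = (0, ⟨x, hx⟩) := by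
        rw [LinearEquiv.symm_apply_eq]
        simp
      rw [LinearEquiv.trans_apply, LinearEquiv.trans_apply, h3]
      simp
  obtain ⟨k1, k2⟩ := key h h' e1 e2
  refine ⟨((Submodule.prodEquivOfIsCompl A A' h).symm.trans (e1.prodCongr e2)).trans
    (Submodule.prodEquivOfIsCompl B B' h'), ?_, ?_⟩
  · apply Submodule.eq_of_le_of_finrank_eq
    · rintro _ ⟨x, hx, rfl⟩
      change (((Submodule.prodEquivOfIsCompl A A' h).symm.trans (e1.prodCongr e2)).trans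
        (Submodule.prodEquivOfIsCompl B B' h')) x ∈ B
      rw [k1 x hx]
      exact (e1 ⟨x, hx⟩).2
    · rw [← hd]
      exact LinearEquiv.finrank_map_eq _ A
  · apply Submodule.eq_of_le_of_finrank_eq
    · rintro _ ⟨x, hx, rfl⟩
      change (((Submodule.prodEquivOfIsCompl A A' h).symm.trans (e1.prodCongr e2)).trans
        (Submodule.prodEquivOfIsCompl B B' h')) x ∈ B'
      rw [k2 x hx]
      exact (e2 ⟨x, hx⟩).2
    · rw [← hd']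
      exact LinearEquiv.finrank_map_eq _ A'

section frm

variable {K : Type u} [Field K] {V : Type v} [AddCommGroup V] [Module K V] {F : CForm K V} [FiniteDimensional K V]

/-- moving a pair of orthogonal disjoint subspaces inside its sum -/
theorem exists_pair_move {k : ℕ} {A A' B B' : Submodule K V} (hA : A ∈ F.Om k) (hA' : A' ∈ F.Om k) (hB : B ∈ F.Om k)
    (hB' : B' ∈ F.Om k) (h1 : A ≤ F.perp A') (h2 : A ⊓ A' = ⊥) (h4 : B ⊓ B' = ⊥) (hs : A ⊔ A' = B ⊔ B') :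
    ∃ g : F.iso, g ∈ F.TT (A ⊔ A') ∧ im g A = B ∧ im g A' = B' := by
  have hM := F.TS_sup hA.1 hA'.1 h1
  obtain ⟨M, hMdef⟩ : ∃ M, M = A ⊔ A' := ⟨_, rfl⟩
  rw [← hMdef] at hM hs ⊢
  have i1 : A ≤ M := by rw [hMdef]; exact le_sup_left
  have i2 : A' ≤ M := by rw [hMdef]; exact le_sup_right
  have i3 : B ≤ M := by rw [hs]; exact le_sup_left
  have i4 : B' ≤ M := by rw [hs]; exact le_sup_right
  have hcompl : ∀ {C C' : Submodule K V}, C ≤ M → C' ≤ M → C ⊓ C' = ⊥ → M = C ⊔ C' →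
      IsCompl (C.comap M.subtype) (C'.comap M.subtype) := by
    intro C C' hC hC' h0 hM'
    constructor
    · rw [Submodule.disjoint_def]
      intro x hx hx'
      have : (x : V) ∈ C ⊓ C' := ⟨hx, hx'⟩
      rw [h0] at this
      exact Subtype.ext ((Submodule.mem_bot K).1 this)
    · rw [Submodule.codisjoint_iff_exists_add_eq]
      rintro ⟨z, hz⟩
      rw [hM'] at hz
      obtain ⟨a, ha, b, hb, rfl⟩ := Submodule.mem_sup.1 hz
      exact ⟨⟨a, hC ha⟩, ⟨b, hC' hb⟩, ha, hb, rfl⟩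
  have hfr : ∀ {C : Submodule K V}, C ∈ F.Om k → C ≤ M → finrank K (C.comap M.subtype) = k := by
    intro C hC hCM
    rw [LinearEquiv.finrank_eq (Submodule.comapSubtypeEquivOfLe hCM), hC.2]
  obtain ⟨a, ha1, ha2⟩ := exists_swap_eq (hcompl i1 i2 h2 hMdef) (hcompl i3 i4 h4 hs)
    ((hfr hA i1).trans (hfr hB i3).symm) ((hfr hA' i2).trans (hfr hB' i4).symm)
  obtain ⟨M', hM', h0⟩ := F.exists_opp (k := finrank K M) ⟨hM, rfl⟩
  have h0' := opp_symm (F := F) rfl hM'.2 h0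
  obtain ⟨g, hg, -, -, hg'⟩ := F.exists_levi hM hM'.1
    (fun w hw hw' => by
      have : w ∈ M ⊓ F.perp M' := ⟨hw, hw'⟩
      rw [h0] at this
      exact (Submodule.mem_bot K).1 this)
    (fun w hw hw' => by
      have : w ∈ M' ⊓ F.perp M := ⟨hw, fun w' hw'' => F.B_eq_zero (hw' w' hw'')⟩
      rw [h0'] at this
      exact (Submodule.mem_bot K).1 this) a
  have hmap : ∀ {C D : Submodule K V}, C ∈ F.Om k → D ∈ F.Om k → C ≤ M →
      (C.comap M.subtype).map (a : M →ₗ[K] M) = D.comap M.subtype → im g C = D := by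
    intro C D hC hD hCM h
    apply Submodule.eq_of_le_of_finrank_eq
    · rintro _ ⟨w, hw, rfl⟩
      change (g : V ≃ₗ[K] V) w ∈ D
      rw [hg ⟨w, hCM hw⟩]
      have : a ⟨w, hCM hw⟩ ∈ (C.comap M.subtype).map (a : M →ₗ[K] M) := ⟨_, hw, rfl⟩
      rw [h] at this
      exact this
    · rw [hD.2, ← hC.2]
      exact LinearEquiv.finrank_map_eq (g : V ≃ₗ[K] V) C
  exact ⟨g, hg'.1, hmap hA hB i1 ha1, hmap hA' hB' i2 ha2⟩

/-- **the orthogonal disjoint pairs form one orbit** -/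
theorem perp_dcoset {k : ℕ} {W₀ W' W'' : Submodule K V} (hW₀ : W₀ ∈ F.Om k) (hW' : W' ∈ F.Om k) (hW'' : W'' ∈ F.Om k)
    (h1 : W₀ ≤ F.perp W') (h2 : W₀ ⊓ W' = ⊥) (h3 : W₀ ≤ F.perp W'') (h4 : W₀ ⊓ W'' = ⊥) :
    ∃ g ∈ St F W₀, im g W' = W'' := by
  have hd : ∀ {U : Submodule K V}, U ∈ F.Om k → W₀ ≤ F.perp U → W₀ ⊓ U = ⊥ → W₀ ⊔ U ∈ F.Om (2 * k) := by
    intro U hU hp h0
    refine ⟨F.TS_sup hW₀.1 hU.1 hp, ?_⟩
    have := Submodule.finrank_sup_add_finrank_inf_eq W₀ U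
    rw [h0, finrank_bot, add_zero, hW₀.2, hU.2] at this
    omega
  obtain ⟨h, hh⟩ := F.trans_Om (hd hW' h1 h2) (hd hW'' h3 h4)
  have hh' : im h (W₀ ⊔ W') = W₀ ⊔ W'' := hh
  have e1 : im h W₀ ⊔ im h W' = W₀ ⊔ W'' := by
    rw [← hh']
    exact (Submodule.map_sup _ _ _).symm
  have e2 : im h W₀ ⊓ im h W' = ⊥ := by
    unfold im
    rw [← Submodule.map_inf _ (F.iso.subtype h).injective, h2, Submodule.map_bot]
  have e3 : im h W₀ ≤ F.perp (im h W') := by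
    rintro _ ⟨a, ha, rfl⟩ _ ⟨b, hb, rfl⟩
    exact (F.iso_B h a b).trans (h1 ha b hb)
  obtain ⟨g, -, hg1, hg2⟩ := exists_pair_move (F.Om_map h _ hW₀) (F.Om_map h _ hW') hW₀ hW'' e3 e2 h4 e1
  refine ⟨g * h, ?_, ?_⟩
  · rw [mem_St', im_mul]
    exact hg1
  · rw [im_mul]
    exact hg2

end frm

section perp

variable {K : Type u} [Field K] {V : Type v} [AddCommGroup V] [Module K V] {X : Type w} [AddCommGroup X] [Module K X]
  {X' : Type w'} [AddCommGroup X'] [Module K X']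
variable {F : CForm K V} {F' : CForm K X} {F'' : CForm K X'} {j : X →ₗ[K] V} {j' : X' →ₗ[K] X}
  {W₀ : Submodule K V} {W₁ : Submodule K X}

theorem j_inj (h : Cmp F F' j W₀) : Function.Injective j := by
  rw [injective_iff_map_eq_zero]
  intro x hx
  refine F'.nondeg x fun y => ?_
  rw [← h.jB, hx, F.B_zero_left]

/-- the isometries supported on `j X` -/
theorem exists_m [FiniteDimensional K V] [FiniteDimensional K X] (h : Cmp F F' j W₀) :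
    ∃ r : V →ₗ[K] X, (∀ v y, F.B (j y) v = F'.B y (r v)) ∧ (∀ x, r (j x) = x) ∧ (∀ w ∈ W₀, r w = 0) ∧
      ∀ b : F'.iso, ∃ m : F.iso, ∀ v, (m : V ≃ₗ[K] V) v = (v - j (r v)) + j ((b : X ≃ₗ[K] X) (r v)) := by
  obtain ⟨r, hr, hrj, hrW⟩ := h.exists_proj
  refine ⟨r, hr, hrj, hrW, fun b => ?_⟩
  have hjr : ∀ v y, F.B (j y) (v - j (r v)) = 0 := by
    intro v y
    rw [F.B_sub_right, hr, h.jB, sub_self]
  have hjr' : ∀ v y, F.B (v - j (r v)) (j y) = 0 := fun v y => F.B_eq_zero (hjr v y)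
  let m : V →ₗ[K] V := (LinearMap.id - j.comp r) + j.comp (((b : X ≃ₗ[K] X) : X →ₗ[K] X).comp r)
  have hm : ∀ v, m v = (v - j (r v)) + j ((b : X ≃ₗ[K] X) (r v)) := fun v => rfl
  obtain ⟨gb, hgb⟩ := F.exists_iso m (fun v u => by
      have e1 : F.B v u = F.B ((v - j (r v)) + j (r v)) ((u - j (r u)) + j (r u)) := by
        rw [sub_add_cancel, sub_add_cancel]
      rw [hm, hm, e1, F.B_add_left, F.B_add_right, F.B_add_right, F.B_add_left, F.B_add_right, F.B_add_right,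
        hjr', hjr, hjr', hjr, h.jB, h.jB, F'.iso_B])
    (fun v => by
      have e1 : F.Q v = F.Q ((v - j (r v)) + j (r v)) := by rw [sub_add_cancel]
      rw [hm, e1, F.Q_add, F.Q_add, hjr', hjr', h.jQ, h.jQ, F'.iso_Q])
  exact ⟨gb, fun v => by rw [hgb, hm]⟩

theorem j_mem_Om {k : ℕ} (h : Cmp F F' j W₀) (hW₁ : W₁ ∈ F'.Om k) : W₁.map j ∈ F.Om k := by
  refine ⟨⟨?_, ?_⟩, ?_⟩
  · rintro _ ⟨w, hw, rfl⟩
    exact (h.jQ w).trans (hW₁.1.1 w hw)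
  · rintro _ ⟨w, hw, rfl⟩ _ ⟨w', hw', rfl⟩
    exact (h.jB w w').trans (hW₁.1.2 w hw w' hw')
  · rw [← hW₁.2]
    exact (Submodule.equivMapOfInjective j (j_inj h) W₁).finrank_eq.symm

/-- the function `c` on the stabiliser of `W₁` -/
noncomputable def gam {k : ℕ} (F' : CForm K X) (c : GL (Fin k) K → ℂ) (W₁ : Submodule K X) : St F' W₁ → ℂ :=
  fun s => flagTerm F'.iso.subtype c (s : F'.iso) W₁

/-- **the action on `U^⊥ / U`**, `U = W₀ ⊔ W₁.map j` -/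
theorem rho_conj [FiniteDimensional K V] [FiniteDimensional K X]
    [FiniteDimensional K X'] (h : Cmp F F' j W₀) (h' : Cmp F' F'' j' W₁)
    {ρ : St F W₀ →* F'.iso} (hρ : Rho F F' j W₀ ρ) {ρ' : St F' W₁ →* F''.iso}
    (hρ' : Rho F' F'' j' W₁ ρ') (hUts : F.TS (W₀ ⊔ W₁.map j)) {y : F.iso} (hy : y ∈ F.TT (W₀ ⊔ W₁.map j))
    {g s : St F W₀} (hgs : y * (s : F.iso) = (g : F.iso) * y) (hg : (g : F.iso) ∈ St F (W₁.map j))
    {s₁ s₂ : St F' W₁} (hs₁ : (s₁ : F'.iso) = ρ g) (hs₂ : (s₂ : F'.iso) = ρ s) : ρ' s₂ = ρ' s₁ := by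
  have hU0 : ∀ {z : X}, j z ∈ W₀ ⊔ W₁.map j → z ∈ W₁ := by
    intro z hz
    obtain ⟨w, hw, _, ⟨x, hx, rfl⟩, he⟩ := Submodule.mem_sup.1 hz
    have h1 : j z - j x ∈ W₀ := by
      have : j z - j x = w := by rw [← he]; abel
      rw [this]; exact hw
    rw [eq_of_sub_mem h h1]
    exact hx
  have hyU : ∀ g ∈ F.TT (W₀ ⊔ W₁.map j), ∀ x : X', (g : V ≃ₗ[K] V) (j (j' x)) - j (j' x) ∈ W₀ ⊔ W₁.map j := by
    intro g hg x
    refine hg.2 _ fun v hv => ?_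
    obtain ⟨w, hw, _, ⟨z, hz, rfl⟩, rfl⟩ := Submodule.mem_sup.1 hv
    rw [F.B_add_right, h.j1 _ w hw, h.jB, h'.j1 x z hz, add_zero]
  have hstU : ∀ v ∈ W₀ ⊔ W₁.map j, ((g : F.iso) : V ≃ₗ[K] V) v ∈ W₀ ⊔ W₁.map j := fun v hv =>
    mem_St.1 (stab_sup g.2 hg) v hv
  have hyV : ∀ g ∈ F.TT (W₀ ⊔ W₁.map j), ∀ v ∈ W₀ ⊔ W₁.map j, (g : V ≃ₗ[K] V) v ∈ W₀ ⊔ W₁.map j := by
    intro g hg v hv
    have h1 := hg.2 v (hUts.le_perp hv)
    have h2 := Submodule.add_mem _ h1 hv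
    rwa [sub_add_cancel] at h2
  refine hρ'.eq h' fun x => hU0 ?_
  obtain ⟨b, hb⟩ : ∃ b, b = ρ' s₁ := ⟨_, rfl⟩
  rw [← hb]
  have a1 : ((g : F.iso) : V ≃ₗ[K] V) (j (j' x)) - j (j' ((b : X' ≃ₗ[K] X') x)) ∈ W₀ ⊔ W₁.map j := by
    have h1 := hρ.h1 g (j' x)
    have h2 := hρ'.h1 s₁ x
    rw [← hb, hs₁] at h2
    have h3 : j ((ρ g : X ≃ₗ[K] X) (j' x)) - j (j' ((b : X' ≃ₗ[K] X') x)) ∈ W₁.map j :=
      ⟨_, h2, by rw [map_sub]⟩
    have h4 := Submodule.add_mem _ (Submodule.mem_sup_left (T := W₁.map j) h1) (Submodule.mem_sup_right (S := W₀) h3)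
    rw [sub_add_sub_cancel] at h4
    exact h4
  have a2 : (y : V ≃ₗ[K] V) (((s : F.iso) : V ≃ₗ[K] V) (j (j' x))) =
      ((g : F.iso) : V ≃ₗ[K] V) ((y : V ≃ₗ[K] V) (j (j' x))) := by
    rw [← mul_ap, ← mul_ap, hgs]
  have a3 : (y : V ≃ₗ[K] V) (((s : F.iso) : V ≃ₗ[K] V) (j (j' x))) - j (j' ((b : X' ≃ₗ[K] X') x)) ∈
      W₀ ⊔ W₁.map j := by
    rw [a2]
    have h1 := hstU _ (hyU y hy x)
    rw [map_sub] at h1
    have h2 := Submodule.add_mem _ h1 a1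
    rwa [sub_add_sub_cancel] at h2
  have a4 : ((s : F.iso) : V ≃ₗ[K] V) (j (j' x)) - j (j' ((b : X' ≃ₗ[K] X') x)) ∈ W₀ ⊔ W₁.map j := by
    have h1 := hyV y⁻¹ (Subgroup.inv_mem _ hy) _ a3
    rw [map_sub, inv_ap] at h1
    have h2 := hyU y⁻¹ (Subgroup.inv_mem _ hy) ((b : X' ≃ₗ[K] X') x)
    have h3 := Submodule.add_mem _ h1 h2
    rwa [sub_add_sub_cancel] at h3
  rw [map_sub, hs₂]
  have h1 := Submodule.mem_sup_left (T := W₁.map j) (hρ.h1 s (j' x))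
  have h2 := Submodule.sub_mem _ a4 h1
  rw [sub_sub_sub_cancel_left] at h2
  exact h2

/-- the isometries supported on `j X`, properties -/
theorem exists_m' [FiniteDimensional K V] [FiniteDimensional K X] (h : Cmp F F' j W₀) (h' : Cmp F' F'' j' W₁)
    {k : ℕ} (hW₁ : W₁ ∈ F'.Om k) {ρ : St F W₀ →* F'.iso} (hρ : Rho F F' j W₀ ρ) {ρ' : St F' W₁ →* F''.iso}
    (hρ' : Rho F' F'' j' W₁ ρ') (b : St F' W₁) :
    ∃ m : St F W₀, ρ m = b ∧ (m : F.iso) ∈ St F (W₁.map j) ∧ (ρ' b = 1 → (m : F.iso) ∈ F.TT (W₁.map j)) := by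
  obtain ⟨r, hr, hrj, hrW, hm⟩ := exists_m h
  obtain ⟨m, hm⟩ := hm b
  have hjO := j_mem_Om h hW₁
  have hmW : m ∈ St F W₀ := by
    rw [mem_St]
    intro w hw
    rw [hm, hrW w hw, map_zero, map_zero, sub_zero, map_zero, add_zero]
    exact hw
  have hmj : ∀ x, (m : V ≃ₗ[K] V) (j x) = j (((b : F'.iso) : X ≃ₗ[K] X) x) := by
    intro x
    rw [hm, hrj, sub_self, zero_add]
  refine ⟨⟨m, hmW⟩, hρ.eq h fun x => ?_, ?_, fun hb1 => ?_⟩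
  · rw [hmj, sub_self]
    exact W₀.zero_mem
  · rw [mem_St]
    rintro _ ⟨w, hw, rfl⟩
    rw [hmj]
    exact ⟨_, mem_St.1 b.2 w hw, rfl⟩
  · refine F.mem_TT_of hjO.1 fun v hv => ?_
    rw [hm]
    have e : v - j (r v) + j (((b : F'.iso) : X ≃ₗ[K] X) (r v)) - v = j (((b : F'.iso) : X ≃ₗ[K] X) (r v) - r v) := by
      rw [map_sub]; abel
    rw [e]
    refine ⟨_, ?_, rfl⟩
    have h1 : r v ∈ F'.perp W₁ := by
      intro w hw
      apply F'.B_eq_zero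
      rw [← hr]
      exact F.B_eq_zero (hv _ ⟨w, hw, rfl⟩)
    obtain ⟨w, hw, x, hx⟩ := h'.j2 _ h1
    have h2 := hρ'.h1 b x
    rw [hb1] at h2
    have h4 : ((((1 : F''.iso)) : X' ≃ₗ[K] X') x) = x := rfl
    rw [h4] at h2
    have h3 : ((b : F'.iso) : X ≃ₗ[K] X) (r v) - r v = (((b : F'.iso) : X ≃ₗ[K] X) w - w) +
        (((b : F'.iso) : X ≃ₗ[K] X) (j' x) - j' x) := by
      rw [hx, map_add]
      abel
    rw [h3]
    exact W₁.add_mem (W₁.sub_mem (mem_St.1 b.2 w hw) hw) h2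

/-- **the Mackey term of an orthogonal disjoint pair** -/
theorem mack_perp [Finite K] [Finite V] [Finite X] [Finite X'] [FiniteDimensional K V] [FiniteDimensional K X]
    [FiniteDimensional K X'] (h : Cmp F F' j W₀) (h' : Cmp F' F'' j' W₁) {k : ℕ} (hW₀ : W₀ ∈ F.Om k)
    (hW₁ : W₁ ∈ F'.Om k) {ρ : St F W₀ →* F'.iso} (hρ : Rho F F' j W₀ ρ) {ρ' : St F' W₁ →* F''.iso}
    (hρ' : Rho F' F'' j' W₁ ρ') {c : GL (Fin k) K → ℂ} (hc : IsClassFunction _ c) {θ : F'.iso → ℂ}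
    {y : F.iso} (hy : y ∈ F.TT (W₀ ⊔ W₁.map j)) (hy1 : im y W₀ = W₁.map j) (hy2 : im y (W₁.map j) = W₀)
    [Fintype (dsub (St F W₀) y)] [Fintype (St F' W₁)] [Fintype F''.iso] :
    classInner (psi c ρ θ ∘ (dsub (St F W₀) y).subtype) (psi c ρ θ ∘ dhom (St F W₀) y) =
      classInner (AA ρ' (gam F' c W₁) (fun s => θ s)) (AA ρ' (gam F' c W₁) (fun s => θ s)) := by
  have hjO := j_mem_Om h hW₁
  have hUts : F.TS (W₀ ⊔ W₁.map j) := F.TS_sup hW₀.1 hjO.1 (fun w hw v hv => by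
    obtain ⟨x, hx, rfl⟩ := hv
    exact F.B_eq_zero (h.j1 x w hw))
  -- membership
  have hyi1 : im y⁻¹ (W₁.map j) = W₀ := im_inv hy1
  have hyi2 : im y⁻¹ W₀ = W₁.map j := im_inv hy2
  have hds : ∀ {g : F.iso}, y⁻¹ * g * y ∈ St F W₀ → g ∈ St F (W₁.map j) := by
    intro g hg'
    rw [mem_St', im_mul, im_mul, hy1] at hg'
    have h1 := im_inv hg'
    rw [inv_inv, hy1] at h1
    exact mem_St'.2 h1.symm
  have hsd : ∀ {g : F.iso}, g ∈ St F (W₁.map j) → y⁻¹ * g * y ∈ St F W₀ := by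
    intro g hg
    rw [mem_St', im_mul, im_mul, hy1, mem_St'.1 hg, hyi1]
  have hsd' : ∀ {g : F.iso}, g ∈ St F W₀ → y⁻¹ * g * y ∈ St F (W₁.map j) := by
    intro g hg
    rw [mem_St', im_mul, im_mul, hy2, mem_St'.1 hg, hyi2]
  have hQ : ∀ {g : St F W₀}, (g : F.iso) ∈ St F (W₁.map j) → ρ g ∈ St F' W₁ := by
    intro g hg
    exact (mem_stab_iff h hρ.h1 W₁ g).1 (stab_sup g.2 hg)
  have hD1 : ∀ d : dsub (St F W₀) y, ((d : St F W₀) : F.iso) ∈ St F (W₁.map j) := fun d =>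
    hds ((mem_dsub _ y _).1 d.2)
  have hD2 : ∀ d : dsub (St F W₀) y, ((dhom (St F W₀) y d : St F W₀) : F.iso) ∈ St F (W₁.map j) := fun d =>
    hsd' (d : St F W₀).2
  obtain ⟨Φ₁, hΦ₁⟩ : ∃ Φ₁ : dsub (St F W₀) y →* St F' W₁, ∀ d, (Φ₁ d : F'.iso) = ρ (d : St F W₀) :=
    ⟨(ρ.comp (dsub (St F W₀) y).subtype).codRestrict _ fun d => hQ (hD1 d), fun d => rfl⟩
  obtain ⟨Φ₂, hΦ₂⟩ : ∃ Φ₂ : dsub (St F W₀) y →* St F' W₁, ∀ d, (Φ₂ d : F'.iso) = ρ (dhom (St F W₀) y d) :=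
    ⟨(ρ.comp (dhom (St F W₀) y)).codRestrict _ fun d => hQ (hD2 d), fun d => rfl⟩
  have hyd : ∀ d : dsub (St F W₀) y, y * ((dhom (St F W₀) y d : St F W₀) : F.iso) * y⁻¹ = ((d : St F W₀) : F.iso) := by
    intro d
    change y * (y⁻¹ * ((d : St F W₀) : F.iso) * y) * y⁻¹ = _
    group
  -- the `c`-parts
  have c1 : ∀ d : dsub (St F W₀) y, flagTerm F.iso.subtype c ((d : St F W₀) : F.iso) W₀ = gam F' c W₁ (Φ₂ d) := by
    intro d
    have e1 := flagTerm_eq h hρ.h1 hc (W₀ := W₁.map j) rfl (dhom (St F W₀) y d) (hD2 d) (by rw [← hΦ₂]; exact (Φ₂ d).2)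
    have e2 := flagTerm_conj F.iso.subtype hc y ((dhom (St F W₀) y d : St F W₀) : F.iso) (W₁.map j)
    rw [hyd] at e2
    have e3 : Submodule.map (F.iso.subtype y : V →ₗ[K] V) (W₁.map j) = W₀ := hy2
    rw [e3] at e2
    unfold gam
    rw [e2, e1, hΦ₂]
  have c2 : ∀ d : dsub (St F W₀) y, flagTerm F.iso.subtype c ((dhom (St F W₀) y d : St F W₀) : F.iso) W₀ =
      gam F' c W₁ (Φ₁ d) := by
    intro d
    have e1 := flagTerm_eq h hρ.h1 hc (W₀ := W₁.map j) rfl (d : St F W₀) (hD1 d) (by rw [← hΦ₁]; exact (Φ₁ d).2)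
    have e2 := flagTerm_conj F.iso.subtype hc y ((dhom (St F W₀) y d : St F W₀) : F.iso) W₀
    rw [hyd] at e2
    have e3 : Submodule.map (F.iso.subtype y : V →ₗ[K] V) W₀ = W₁.map j := hy1
    rw [e3] at e2
    unfold gam
    rw [← e2, e1, hΦ₁]
  have e1 : psi c ρ θ ∘ (dsub (St F W₀) y).subtype =
      fun d => gam F' c W₁ (Φ₂ d) * (fun s : St F' W₁ => θ (s : F'.iso)) (Φ₁ d) := by
    funext d
    change flagTerm F.iso.subtype c ((d : St F W₀) : F.iso) W₀ * θ (ρ (d : St F W₀)) =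
      gam F' c W₁ (Φ₂ d) * θ (Φ₁ d : F'.iso)
    rw [c1, hΦ₁]
  have e2 : psi c ρ θ ∘ dhom (St F W₀) y =
      fun d => gam F' c W₁ (Φ₁ d) * (fun s : St F' W₁ => θ (s : F'.iso)) (Φ₂ d) := by
    funext d
    change flagTerm F.iso.subtype c ((dhom (St F W₀) y d : St F W₀) : F.iso) W₀ * θ (ρ (dhom (St F W₀) y d)) =
      gam F' c W₁ (Φ₁ d) * θ (Φ₂ d : F'.iso)
    rw [c2, hΦ₂]
  rw [e1, e2]
  have hconj : ∀ d, ρ' (Φ₂ d) = ρ' (Φ₁ d) := fun d =>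
    rho_conj h h' hρ hρ' hUts hy (g := (d : St F W₀)) (s := dhom (St F W₀) y d)
      (by rw [← hyd d, inv_mul_cancel_right]) (hD1 d) (hΦ₁ d) (hΦ₂ d)
  have hsurj : ∀ y₁ y₂, ρ' y₁ = ρ' y₂ → ∃ d, Φ₁ d = y₁ ∧ Φ₂ d = y₂ := by
   intro y₁ y₂ h12
   obtain ⟨m₁, hm₁, hm₁', -⟩ := exists_m' h h' hW₁ hρ hρ' y₁
   have hd1 : m₁ ∈ dsub (St F W₀) y := (mem_dsub _ y _).2 (hsd hm₁')
   have f1 : Φ₁ ⟨m₁, hd1⟩ = y₁ := Subtype.ext ((hΦ₁ _).trans hm₁)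
   have h12' : ρ' (Φ₂ ⟨m₁, hd1⟩) = ρ' y₁ := by rw [hconj, f1]
   have hb1 : ρ' ((Φ₂ ⟨m₁, hd1⟩)⁻¹ * y₂) = 1 := by rw [map_mul, map_inv, h12', h12, inv_mul_cancel]
   obtain ⟨m₂, hm₂, hm₂', hm₂TT⟩ := exists_m' h h' hW₁ hρ hρ' ((Φ₂ ⟨m₁, hd1⟩)⁻¹ * y₂)
   have hx₂ : y * (m₂ : F.iso) * y⁻¹ ∈ F.TT W₀ := by
     have h1 := TT_conj (x := y⁻¹) (W₀ := W₀) (W := W₁.map j) hyi2 (hm₂TT hb1)
     rwa [inv_inv] at h1
   have hx₂' : y * (m₂ : F.iso) * y⁻¹ ∈ St F W₀ := hx₂.1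
   have e3 : y⁻¹ * (y * (m₂ : F.iso) * y⁻¹) * y = m₂ := by group
   have hd2 : (⟨y * (m₂ : F.iso) * y⁻¹, hx₂'⟩ : St F W₀) ∈ dsub (St F W₀) y := (mem_dsub _ y _).2 (by
     change y⁻¹ * (y * (m₂ : F.iso) * y⁻¹) * y ∈ St F W₀
     rw [e3]; exact m₂.2)
   have f2 : Φ₁ ⟨_, hd2⟩ = 1 := Subtype.ext ((hΦ₁ _).trans (hρ.h2 _ hx₂))
   have f3 : Φ₂ ⟨_, hd2⟩ = (Φ₂ ⟨m₁, hd1⟩)⁻¹ * y₂ := by
     apply Subtype.ext
     rw [hΦ₂]
     have e4 : dhom (St F W₀) y ⟨_, hd2⟩ = m₂ := Subtype.ext e3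
     rw [e4, hm₂]
   refine ⟨⟨m₁, hd1⟩ * ⟨_, hd2⟩, ?_, ?_⟩
   · rw [map_mul, f1, f2, mul_one]
   · rw [map_mul, f3, mul_inv_cancel_left]
  exact fib (ρ := ρ') (γ := gam F' c W₁) (θ := fun s : St F' W₁ => θ (s : F'.iso)) hρ'.surj Φ₁ Φ₂
    (fun d => (hconj d).symm) hsurj

end perp

end Cfsg.Agent.R2.DZ.T3.Mac
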