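import Cfsg.Agent.R2.DZ.T3.MacC

/-!
# S4527, box T3: the norm of a Harish-Chandra induced character, induction on the Witt index (helper21)
-/

set_option autoImplicit false
set_option linter.unusedSectionVars false

open scoped ComplexConjugate
open Cfsg

namespace Cfsg.Agent.R2.DZ.T3.Mac

open Cfsg.Agent.OddOrderCharacters.Clifford Cfsg.Agent.Characters Module Cfsg.Agent.H53.HC
open Cfsg.Agent.H477.HC Cfsg.Agent.H477.HC.CForm Cfsg.Agent.H113.Two.HcOne
  Cfsg.Agent.H113.Cusp.Tool Cfsg.Agent.H113.Cusp.Flag Cfsg.Agent.H113.Cusp.Asm Cfsg.Agent.H749.Two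
  Cfsg.Agent.H160.HT.Mu

universe u v w w'

section step

variable {K : Type u} [Field K] {V : Type v} [AddCommGroup V] [Module K V] {X : Type w} [AddCommGroup X] [Module K X]
  {X' : Type w'} [AddCommGroup X'] [Module K X']
variable {F : CForm K V} {F' : CForm K X} {F'' : CForm K X'} {j : X →ₗ[K] V} {j' : X' →ₗ[K] X}
  {W₀ : Submodule K V} {W₁ : Submodule K X}

/-- the opposite double coset -/
theorem exists_opp_rep [FiniteDimensional K V] {k : ℕ} (hW₀ : W₀ ∈ F.Om k) :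
    ∃ y : F.iso, W₀ ⊓ F.perp (im y W₀) = ⊥ ∧
      ∀ x : F.iso, W₀ ⊓ F.perp (im x W₀) = ⊥ → ∃ a ∈ St F W₀, ∃ b ∈ St F W₀, x = a * y * b := by
  obtain ⟨W₁, hW₁, hopp⟩ := F.exists_opp hW₀
  obtain ⟨y₁, hy₁⟩ := F.trans_Om hW₀ hW₁
  have hy₁' : W₀ ⊓ F.perp (im y₁ W₀) = ⊥ := by
    have : im y₁ W₀ = W₁ := hy₁
    rwa [this]
  refine ⟨y₁, hy₁', fun x hx => ?_⟩
  obtain ⟨u, hu, huW⟩ := rad_trans hW₀ (F.Om_map x W₀ hW₀) (F.Om_map y₁ W₀ hW₀) hx hy₁'
  exact dcoset (rad_le hu) huW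

/-- **no orthogonal disjoint pairs** -/
theorem norm_base [Finite K] [Finite V] [FiniteDimensional K V] [Fintype F.iso] [Fintype F'.iso]
    {k : ℕ} (hW₀ : W₀ ∈ F.Om k) {ρ : St F W₀ →* F'.iso} (hρ : Rho F F' j W₀ ρ) {c : GL (Fin k) K → ℂ}
    (hc : IsIrrCharacter _ c) (hcusp : IsCusp c) {θ : F'.iso → ℂ} (hθ : IsCharacter _ θ) {n₀ : ℕ}
    (hn : classInner θ θ = n₀) (hno : ∀ W' ∈ F.Om k, W₀ ≤ F.perp W' → W₀ ⊓ W' = ⊥ → False) :
    ∃ N : ℕ, N ≤ 2 * n₀ ∧ classInner (indFun (St F W₀) (psi c ρ θ)) (indFun (St F W₀) (psi c ρ θ)) = N := by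
  classical
  let _ : Fintype (St F W₀) := Fintype.ofFinite _
  obtain ⟨y₁, hy₁, hopp⟩ := exists_opp_rep hW₀
  obtain ⟨N, hN, hN'⟩ := norm_le' (St F W₀) (isCharacter_psi hW₀ hc hθ) ((norm_psi hW₀ hc hρ).trans hn)
    (fun _ : Unit => y₁) (fun _ => n₀) (fun x hx => by
      by_cases h0 : W₀ ⊓ F.perp (im x W₀) = ⊥
      · exact Or.inr ⟨(), hopp x h0⟩
      · left
        exact twist_mixed hW₀ hc hcusp hρ hθ hx h0 fun h => hno _ (F.Om_map x W₀ hW₀) h.1 h.2)
    (fun _ => mle_opp' hW₀ hc hρ hθ hn hy₁)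
  refine ⟨N, ?_, hN'⟩
  rw [Finset.sum_const, Finset.card_univ, Fintype.card_unit, one_smul] at hN
  omega

/-- **one step** -/
theorem norm_step [Finite K] [Finite V] [Finite X] [Finite X'] [FiniteDimensional K V] [FiniteDimensional K X]
    [FiniteDimensional K X'] [Fintype F.iso] [Fintype F'.iso] [Fintype F''.iso] (h : Cmp F F' j W₀)
    (h' : Cmp F' F'' j' W₁) {k : ℕ} (hk : 0 < k) (hW₀ : W₀ ∈ F.Om k) (hW₁ : W₁ ∈ F'.Om k)
    {ρ : St F W₀ →* F'.iso} (hρ : Rho F F' j W₀ ρ) {ρ' : St F' W₁ →* F''.iso}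
    (hρ' : Rho F' F'' j' W₁ ρ') {c : GL (Fin k) K → ℂ} (hc : IsIrrCharacter _ c) (hcusp : IsCusp c)
    {θ : F'.iso → ℂ} (hθ : IsCharacter _ θ) {n₀ a : ℕ} (hn : classInner θ θ = n₀) [Fintype (St F' W₁)]
    (ha : classInner (AA ρ' (gam F' c W₁) (fun s => θ s)) (AA ρ' (gam F' c W₁) (fun s => θ s)) = a) :
    ∃ N : ℕ, N ≤ 2 * n₀ + a ∧ classInner (indFun (St F W₀) (psi c ρ θ)) (indFun (St F W₀) (psi c ρ θ)) = N := by
  classical
  let _ : Fintype (St F W₀) := Fintype.ofFinite _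
  obtain ⟨y₁, hy₁, hopp⟩ := exists_opp_rep hW₀
  have hjO := j_mem_Om h hW₁
  have hp : W₀ ≤ F.perp (W₁.map j) := by
    rintro w hw _ ⟨x, hx, rfl⟩
    exact F.B_eq_zero (h.j1 x w hw)
  have h0 : W₀ ⊓ W₁.map j = ⊥ := inf_map_eq_bot h W₁
  obtain ⟨y₀, hy0, hy0a, hy0b⟩ := exists_pair_move hW₀ hjO hjO hW₀ hp h0 (by rw [inf_comm]; exact h0) (sup_comm _ _)
  have hm0 : MLe (St F W₀) (psi c ρ θ) y₀ a := by
    refine ⟨fun {_} => ⟨a, le_rfl, ?_⟩⟩
    rw [← ha]
    exact mack_perp h h' hW₀ hW₁ hρ hρ' (Core.isIrr_isClassFunction hc) hy0 hy0a hy0b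
  have hm1 : MLe (St F W₀) (psi c ρ θ) y₁ n₀ := mle_opp' hW₀ hc hρ hθ hn hy₁
  obtain ⟨N, hN, hN'⟩ := norm_le' (St F W₀) (isCharacter_psi hW₀ hc hθ) ((norm_psi hW₀ hc hρ).trans hn)
    (fun b : Bool => if b then y₀ else y₁) (fun b => if b then a else n₀) (fun x hx => by
      by_cases h1 : W₀ ⊓ F.perp (im x W₀) = ⊥
      · exact Or.inr ⟨false, hopp x h1⟩
      · by_cases h2 : W₀ ≤ F.perp (im x W₀) ∧ W₀ ⊓ im x W₀ = ⊥
        · right
          obtain ⟨g, hg, hgx⟩ := perp_dcoset hW₀ (F.Om_map x W₀ hW₀) hjO h2.1 h2.2 hp h0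
          refine ⟨true, ?_⟩
          exact dcoset (y := y₀) hg (by rw [hy0a]; exact hgx)
        · left
          exact twist_mixed hW₀ hc hcusp hρ hθ hx h1 h2)
    (fun b => by
      cases b
      · exact hm1
      · exact hm0)
  refine ⟨N, ?_, hN'⟩
  rw [Fintype.sum_bool] at hN
  simp only [if_true, Bool.false_eq_true, if_false] at hN
  omega

end step

section tower

variable {K : Type u} [Field K] [Finite K] {V : ℕ → Type v} [∀ n, AddCommGroup (V n)] [∀ n, Module K (V n)]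
  [∀ n, Finite (V n)] [∀ n, FiniteDimensional K (V n)] {F : ∀ n, CForm K (V n)}

/-- **the norm bound** -/
theorem norm_tower
    (hcmp : ∀ k n, ∃ (j : V n →ₗ[K] V (k + n)) (W₀ : Submodule K (V (k + n))), W₀ ∈ (F (k + n)).Om k ∧
      Cmp (F (k + n)) (F n) j W₀)
    (hwitt : ∀ n (W : Submodule K (V n)), (F n).TS W → finrank K W ≤ n) {k : ℕ} (hk : 0 < k)
    {c : GL (Fin k) K → ℂ} (hc : IsIrrCharacter _ c) (hcusp : IsCusp c) :
    ∀ (n : ℕ) (j : V n →ₗ[K] V (k + n)) (W₀ : Submodule K (V (k + n))), W₀ ∈ (F (k + n)).Om k →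
      Cmp (F (k + n)) (F n) j W₀ → ∀ ρ : St (F (k + n)) W₀ →* (F n).iso, Rho (F (k + n)) (F n) j W₀ ρ →
      ∀ θ : (F n).iso → ℂ, IsCharacter _ θ → ∀ [Fintype (F n).iso] [Fintype (F (k + n)).iso] (n₀ : ℕ),
      classInner θ θ = n₀ → ∃ N : ℕ, N ≤ (2 * n + 2) * n₀ ∧
        classInner (indFun (St (F (k + n)) W₀) (psi c ρ θ)) (indFun (St (F (k + n)) W₀) (psi c ρ θ)) = N := by
  classical
  intro n
  induction n using Nat.strong_induction_on with
  | _ n ih =>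
    intro j W₀ hW₀ h ρ hρ θ hθ _ _ n₀ hn
    by_cases hkn : n < k
    · obtain ⟨N, hN, hN'⟩ := norm_base hW₀ hρ hc hcusp hθ hn
        (no_disj (m := k + n) (hwitt (k + n)) (by omega) hW₀)
      exact ⟨N, hN.trans (Nat.mul_le_mul_right _ (by omega)), hN'⟩
    · obtain ⟨n', rfl⟩ := Nat.exists_eq_add_of_le (not_lt.1 hkn)
      obtain ⟨j', W₁, hW₁, h'⟩ := hcmp k n'
      obtain ⟨ρ', hρ'⟩ := exists_Rho h'
      have := finite_iso (F n')
      let _ := Fintype.ofFinite (F n').iso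
      let _ : Fintype (St (F (k + n')) W₁) := Fintype.ofFinite _
      have hclc := Core.isIrr_isClassFunction hc
      have hγ : IsCharacter _ (gam (F (k + n')) c W₁) := by
        let b : Basis (Fin k) K W₁ := finBasisOfFinrankEq K W₁ hW₁.2
        have e : gam (F (k + n')) c W₁ = c ∘ fW (F (k + n')) b := by
          funext g
          exact flagTerm_fW hclc b g
        rw [e]
        exact Core.isCharacter_comp _ (Core.isIrr_isCharacter hc)
      have hθ' : IsCharacter (St (F (k + n')) W₁) (fun s => θ s) :=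
        Core.isCharacter_comp (St (F (k + n')) W₁).subtype hθ
      have hA := AA_char hρ'.surj hγ hθ'
      obtain ⟨a, ha⟩ := Core.classInner_isNat hA hA
      obtain ⟨N', hN1, hN2⟩ := ih n' (by omega) j' W₁ hW₁ h' ρ' hρ' _ hA a ha
      -- the adjunction
      have hadj : classInner (indFun (St (F (k + n')) W₁) (psi c ρ' (AA ρ' (gam (F (k + n')) c W₁) fun s => θ s))) θ =
          a := by
        rw [classInner_indFun _ _ _ (Core.isCharacter_isClassFunction hθ), ← Core.classInner_conj_symm]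
        have e1 := AA_adj hρ'.surj (γ := gam (F (k + n')) c W₁) (θ := fun s => θ s)
          (AA ρ' (gam (F (k + n')) c W₁) fun s => θ s)
        rw [ha] at e1
        have e2 : classInner (fun s : St (F (k + n')) W₁ => θ s)
          (psi c ρ' (AA ρ' (gam (F (k + n')) c W₁) fun s => θ s)) = (a : ℂ) := e1.symm
        rw [e2, Complex.conj_natCast]
      have h1 := cs hN2 hn hadj
      have h2 : a ≤ (2 * n' + 2) * n₀ := by
        rcases Nat.eq_zero_or_pos a with h0 | h0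
        · rw [h0]; exact Nat.zero_le _
        · have h3 : a * a ≤ a * ((2 * n' + 2) * n₀) := by
            calc a * a = a ^ 2 := (sq a).symm
              _ ≤ N' * n₀ := h1
              _ ≤ (2 * n' + 2) * a * n₀ := Nat.mul_le_mul_right _ hN1
              _ = a * ((2 * n' + 2) * n₀) := by ring
          exact Nat.le_of_mul_le_mul_left h3 h0
      obtain ⟨N, hN, hN'⟩ := norm_step h h' hk hW₀ hW₁ hρ hρ' hc hcusp hθ hn ha
      refine ⟨N, hN.trans ?_, hN'⟩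
      have h4 : 2 * n₀ + (2 * n' + 2) * n₀ ≤ (2 * (k + n') + 2) * n₀ := by
        rw [← add_mul]
        exact Nat.mul_le_mul_right _ (by omega)
      omega

end tower

end Cfsg.Agent.R2.DZ.T3.Mac
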