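import Cfsg.Agent.R2.DZ.T3.MacD
import Cfsg.Agent.H759.QA.Chars
import Cfsg.Agent.S0188

/-!
# S4527, box T3: large families of irreducible characters agreeing on all parabolic subgroups (helper21)

* `cusp_tower` : they are cuspidal;
* `dz_tower` : they have `p`-defect zero, if `K` contains the `p`-th roots of unity.
-/

set_option autoImplicit false
set_option linter.unusedSectionVars false

open scoped ComplexConjugate
open Cfsg

namespace Cfsg.Agent.R2.DZ.T3.Mac

open Cfsg.Agent.OddOrderCharacters.Clifford Cfsg.Agent.Characters Module Cfsg.Agent.H53.HC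
open Cfsg.Agent.H477.HC Cfsg.Agent.H477.HC.CForm Cfsg.Agent.H113.Two.HcOne
  Cfsg.Agent.H113.Cusp.Tool Cfsg.Agent.H113.Cusp.Flag Cfsg.Agent.H113.Cusp.Asm Cfsg.Agent.H749.Two
  Cfsg.Agent.H160.HT.Mu

universe u v w w'

section abs

variable {G : Type*} [Group G]

/-- an irreducible constituent of a character with zero sum over `R` -/
theorem sum_zero_of_const [Fintype G] {Θ ψ : G → ℂ} (hΘ : IsCharacter G Θ) (hψ : IsIrrCharacter G ψ)
    (h : classInner Θ ψ ≠ 0) (R : Subgroup G) [Fintype R] (h0 : ∑ r : R, Θ r = 0) : ∑ r : R, ψ r = 0 := by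
  classical
  have h1 := isCharacter_sub_irr hΘ hψ h
  have e1 : ∀ f : G → ℂ, classInner (f ∘ R.subtype) (1 : R → ℂ) = (Nat.card R : ℂ)⁻¹ * ∑ r : R, f r := by
    intro f
    rw [Core.classInner_def]
    congr 1
    refine Finset.sum_congr rfl fun r _ => ?_
    simp
  obtain ⟨a, ha⟩ := Core.classInner_isNat (Core.isCharacter_comp R.subtype (Core.isIrr_isCharacter hψ))
    (Core.isCharacter_one (G := R))
  obtain ⟨b, hb⟩ := Core.classInner_isNat (Core.isCharacter_comp R.subtype h1) (Core.isCharacter_one (G := R))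
  rw [e1] at ha hb
  have h2 : ∑ r : R, (Θ - ψ) r = -∑ r : R, ψ r := by
    simp only [Pi.sub_apply, Finset.sum_sub_distrib, h0, zero_sub]
  rw [h2] at hb
  have h3 : ((a + b : ℕ) : ℂ) = 0 := by
    push_cast
    rw [← ha, ← hb]
    ring
  have h4 : a = 0 := by
    have : a + b = 0 := by exact_mod_cast h3
    omega
  rw [h4, Nat.cast_zero] at ha
  rcases mul_eq_zero.1 ha with h5 | h5
  · exact absurd h5 (inv_ne_zero Core.card_ne_zero_complex)
  · exact h5

/-- **a family agreeing on `P` with vectors fixed by `V`** -/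
theorem card_le' [Fintype G] {P V : Subgroup G} (hVP : V ≤ P) (hV : ∀ g ∈ P, ∀ v ∈ V, g * v * g⁻¹ ∈ V)
    {ι : Type*} [Fintype ι] (χ : ι → G → ℂ) (hχ : ∀ i, IsIrrCharacter G (χ i)) (hinj : Function.Injective χ)
    (hres : ∀ i j, ∀ g ∈ P, χ i g = χ j g) [Fintype V] [Fintype P] (i₀ : ι) (h : ∑ v : V, χ i₀ v ≠ 0) :
    ∃ ψ : P → ℂ, IsIrrCharacter P ψ ∧ (∀ v : P, (v : G) ∈ V → ψ v = ψ 1) ∧
      (∀ i, classInner (χ i ∘ P.subtype) ψ ≠ 0) ∧
      ∀ N : ℕ, classInner (indFun P ψ) (indFun P ψ) = N → Fintype.card ι ≤ N := by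
  classical
  have : Fintype (V.subgroupOf P) := Fintype.ofFinite _
  have hc₀ : IsCharacter P (χ i₀ ∘ P.subtype) := Core.isCharacter_comp _ (Core.isIrr_isCharacter (hχ i₀))
  have : Finite (IrrCharacter P) := Core.finite_irr
  let _ : Fintype (IrrCharacter P) := Fintype.ofFinite _
  obtain ⟨m, hm⟩ := Core.isCharacter_iff.1 hc₀
  have e1 : ∑ v : V.subgroupOf P, χ i₀ ((v : P) : G) = ∑ v : V, χ i₀ v := by
    refine Fintype.sum_equiv (Subgroup.subgroupOfEquivOfLe hVP).toEquiv _ _ fun v => ?_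
    rfl
  have e2 : ∑ v : V.subgroupOf P, χ i₀ ((v : P) : G) =
      ∑ ψ : IrrCharacter P, (m ψ : ℂ) * ∑ v : V.subgroupOf P, (ψ : P → ℂ) v := by
    have e3 : ∀ v : V.subgroupOf P, χ i₀ ((v : P) : G) = ∑ ψ : IrrCharacter P, (m ψ : ℂ) * (ψ : P → ℂ) v := by
      intro v
      have := congrFun hm (v : P)
      rw [Finset.sum_apply] at this
      refine this.trans (Finset.sum_congr rfl fun ψ _ => ?_)
      rw [Pi.smul_apply, nsmul_eq_mul]
    rw [Finset.sum_congr rfl fun v _ => e3 v, Finset.sum_comm]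
    exact Finset.sum_congr rfl fun ψ _ => (Finset.mul_sum _ _ _).symm
  obtain ⟨ψ, hψ0⟩ : ∃ ψ : IrrCharacter P, (m ψ : ℂ) * ∑ v : V.subgroupOf P, (ψ : P → ℂ) v ≠ 0 := by
    by_contra hcon
    push Not at hcon
    apply h
    rw [← e1, e2, Finset.sum_eq_zero fun ψ _ => hcon ψ]
  have hm0 : m ψ ≠ 0 := by
    intro h0
    apply hψ0
    rw [h0, Nat.cast_zero, zero_mul]
  have hs0 : ∑ v : V.subgroupOf P, (ψ : P → ℂ) v ≠ 0 := right_ne_zero_of_mul hψ0
  have hmi : ∀ i, classInner (χ i ∘ P.subtype) (ψ : P → ℂ) = m ψ := by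
    intro i
    have e4 : χ i ∘ P.subtype = χ i₀ ∘ P.subtype := by
      funext g
      exact hres i i₀ g g.2
    rw [e4, hm]
    exact Core.classInner_sum_nsmul_irr m ψ
  refine ⟨ψ, ψ.2, ?_, fun i => ?_, fun N hN => ?_⟩
  · obtain ⟨n, ρ, hρ, hρψ⟩ := ψ.2
    intro v hv
    have h1 : ρ v = 1 := by
      refine rho_eq_one hρ (normal_subgroupOf (P := P) hV) (fun h0 => hs0 ?_) (x := v) hv
      have h2 := av_eq ρ (V.subgroupOf P)
      rw [h0, finrank_bot, Nat.cast_zero, hρψ] at h2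
      rcases mul_eq_zero.1 h2 with h3 | h3
      · exact absurd h3 (inv_ne_zero Core.card_ne_zero_complex)
      · exact h3
    rw [← hρψ]
    change LinearMap.trace ℂ _ (ρ v) = LinearMap.trace ℂ _ (ρ 1)
    rw [h1, map_one ρ]
  · rw [hmi]
    exact_mod_cast hm0
  · have hI := Cfsg.Agent.S0148.result P _ (Core.isIrr_isCharacter ψ.2)
    have hIm : ∀ i, classInner (indFun P (ψ : P → ℂ)) (χ i) = m ψ := by
      intro i
      have h1 : classInner (indFun P (ψ : P → ℂ)) (χ i) = classInner (ψ : P → ℂ) (χ i ∘ P.subtype) :=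
        classInner_indFun P _ _ (Core.isIrr_isClassFunction (hχ i))
      rw [h1, ← Core.classInner_conj_symm, hmi, Complex.conj_natCast]
    have hgen : IsGeneralizedCharacter G (indFun P (ψ : P → ℂ)) :=
      ⟨_, 0, hI, Core.isCharacter_zero, by rw [sub_zero]⟩
    obtain ⟨a, ha, ha'⟩ := H431.ExcChar.bessel hgen (n := N) (by rw [hN]; simp) χ hχ hinj
    have ha1 : ∀ i, a i = m ψ := by
      intro i
      have := ha i
      rw [hIm] at this
      exact_mod_cast this.symm
    have hpos : 1 ≤ m ψ := Nat.one_le_iff_ne_zero.2 hm0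
    have hsum : Fintype.card ι * m ψ ^ 2 ≤ N := by
      rw [Finset.sum_congr rfl fun i _ => by rw [ha1 i], Finset.sum_const, Finset.card_univ] at ha'
      rw [nsmul_eq_mul] at ha'
      exact_mod_cast ha'
    exact (Nat.le_mul_of_pos_right _ (by positivity)).trans hsum

end abs

section gl

variable {K : Type u} [Field K] {n : ℕ} {W : Type v} [AddCommGroup W] [Module K W] {W' : Type w} [AddCommGroup W']
  [Module K W']

/-- transport of the sum over `radU` -/
theorem sum_radU_map {Ψ : GL (Fin n) K → ℂ} (hΨ : IsClassFunction _ Ψ) (e : W ≃ₗ[K] W') (D : Submodule K W)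
    [Fintype (radU D)] [Fintype (radU (D.map (e : W →ₗ[K] W')))] :
    ∑ u : radU (D.map (e : W →ₗ[K] W')), cl Ψ (u : W' ≃ₗ[K] W') = ∑ u : radU D, cl Ψ (u : W ≃ₗ[K] W) := by
  classical
  have key : ∀ u : W ≃ₗ[K] W, u ∈ radU D → (e.symm.trans u).trans e ∈ radU (D.map (e : W →ₗ[K] W')) := by
    rintro u ⟨hu, hu'⟩
    refine ⟨fun w => ?_, ?_⟩
    · obtain ⟨x, rfl⟩ := e.surjective w
      have : ((e.symm.trans u).trans e) (e x) - e x = e (u x - x) := by simp
      rw [this]
      exact ⟨_, hu x, rfl⟩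
    · rintro _ ⟨d, hd, rfl⟩
      change e (u (e.symm (e d))) = e d
      rw [e.symm_apply_apply, hu' d hd]
  have key' : ∀ u : W' ≃ₗ[K] W', u ∈ radU (D.map (e : W →ₗ[K] W')) → (e.trans u).trans e.symm ∈ radU D := by
    rintro u ⟨hu, hu'⟩
    refine ⟨fun w => ?_, fun d hd => ?_⟩
    · obtain ⟨y, hy, hxy⟩ := hu (e w)
      have hxy' : e y = u (e w) - e w := hxy
      have : ((e.trans u).trans e.symm) w - w = y := by
        apply e.injective
        rw [map_sub, hxy']
        simp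
      rw [this]
      exact hy
    · change e.symm (u (e d)) = d
      rw [hu' (e d) ⟨d, hd, rfl⟩, e.symm_apply_apply]
  let E : radU D ≃ radU (D.map (e : W →ₗ[K] W')) :=
    { toFun := fun u => ⟨_, key u.1 u.2⟩
      invFun := fun u => ⟨_, key' u.1 u.2⟩
      left_inv := fun u => by
        apply Subtype.ext
        ext w
        simp
      right_inv := fun u => by
        apply Subtype.ext
        ext w
        simp }
  symm
  refine Fintype.sum_equiv E _ _ fun u => ?_
  exact (cl_conj hΨ e u.1).symm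

theorem isCusp_of {Ψ : GL (Fin n) K → ℂ} (hΨ : IsClassFunction _ Ψ) (b : Basis (Fin n) K W)
    (h : ∀ D : Submodule K W, D ≠ ⊥ → D ≠ ⊤ → ∀ [Fintype (radU D)], ∑ u : radU D, cl Ψ (u : W ≃ₗ[K] W) = 0) :
    IsCusp Ψ := by
  classical
  intro D h0 h1 _
  let e : W ≃ₗ[K] (Fin n → K) := b.equivFun
  have hD : (D.map (e.symm : (Fin n → K) →ₗ[K] W)).map (e : W →ₗ[K] (Fin n → K)) = D := by
    rw [← Submodule.map_comp]
    have : (e : W →ₗ[K] (Fin n → K)).comp (e.symm : (Fin n → K) →ₗ[K] W) = LinearMap.id := by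
      ext x
      simp
    rw [this, Submodule.map_id]
  have hmap0 : D.map (e.symm : (Fin n → K) →ₗ[K] W) ≠ ⊥ := by
    intro h'
    apply h0
    rw [← hD, h', Submodule.map_bot]
  have hmap1 : D.map (e.symm : (Fin n → K) →ₗ[K] W) ≠ ⊤ := by
    intro h'
    apply h1
    rw [← hD, h', Submodule.map_top, LinearMap.range_eq_top]
    exact e.surjective
  by_cases hfin : Finite (radU (D.map (e.symm : (Fin n → K) →ₗ[K] W)))
  · let _ := Fintype.ofFinite (radU (D.map (e.symm : (Fin n → K) →ₗ[K] W)))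
    rw [← sum_radU_map hΨ e.symm D]
    exact h _ hmap0 hmap1
  · exfalso
    apply hfin
    have key' : ∀ u : W ≃ₗ[K] W, u ∈ radU (D.map (e.symm : (Fin n → K) →ₗ[K] W)) →
        (e.symm.trans u).trans e ∈ radU D := by
      rintro u ⟨hu, hu'⟩
      refine ⟨fun w => ?_, fun d hd => ?_⟩
      · obtain ⟨y, hy, hxy⟩ := hu (e.symm w)
        have hxy' : e.symm y = u (e.symm w) - e.symm w := hxy
        have : ((e.symm.trans u).trans e) w - w = y := by
          apply e.symm.injective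
          rw [map_sub, hxy']
          simp
        rw [this]
        exact hy
      · change e (u (e.symm d)) = d
        rw [hu' (e.symm d) ⟨d, hd, rfl⟩, e.apply_symm_apply]
    refine Finite.of_injective (fun u => (⟨_, key' u.1 u.2⟩ : radU D)) fun u u' huu => ?_
    apply Subtype.ext
    ext w
    have h2 := congrArg (fun z : radU D => (z : (Fin n → K) ≃ₗ[K] (Fin n → K)) (e w)) huu
    simp only [LinearEquiv.trans_apply, e.symm_apply_apply] at h2
    exact e.injective h2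

end gl

section rad

variable {K : Type u} [Field K] {V : Type v} [AddCommGroup V] [Module K V] {X : Type w} [AddCommGroup X] [Module K X]
variable {F : CForm K V} {F' : CForm K X} {j : X →ₗ[K] V} {W₀ : Submodule K V}

/-- the kernel of `(fW, ρ)` is the radical -/
theorem mem_rad_of [FiniteDimensional K V] (h : Cmp F F' j W₀) {ρ : St F W₀ →* F'.iso} (hρ : Rho F F' j W₀ ρ) {k : ℕ}
    (b : Basis (Fin k) K W₀) {g : St F W₀} (h1 : fW F b g = 1) (h2 : ρ g = 1) : (g : F.iso) ∈ rad F W₀ := by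
  have h3 : resHom F.iso.subtype W₀ g = 1 := (MulEquiv.map_eq_one_iff (glE b)).1 h1
  have h4 : ∀ w ∈ W₀, ((g : F.iso) : V ≃ₗ[K] V) w = w := by
    intro w hw
    have := congrArg (fun e : W₀ ≃ₗ[K] W₀ => ((e ⟨w, hw⟩ : W₀) : V)) h3
    exact this
  rw [mem_rad h.ts]
  refine ⟨h4, fun v hv => ?_⟩
  obtain ⟨w, hw, x, rfl⟩ := h.j2 v hv
  have h5 := hρ.h1 g x
  rw [h2] at h5
  rw [map_add, h4 w hw, add_sub_add_left_eq_sub]
  exact h5

/-- **the cuspidality of the first factor** -/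
theorem isCusp_of_rad [Finite K] [Finite V] [FiniteDimensional K V] (h : Cmp F F' j W₀) {ρ : St F W₀ →* F'.iso}
    (hρ : Rho F F' j W₀ ρ) {k : ℕ} (hW₀ : W₀ ∈ F.Om k) {c : GL (Fin k) K → ℂ} (hc : IsIrrCharacter _ c)
    {σ : F'.iso → ℂ} (hσ : IsIrrCharacter _ σ)
    (h0 : ∀ D : Submodule K V, D ≤ W₀ → D ≠ ⊥ → D ≠ W₀ → ∀ [Fintype ((rad F D).subgroupOf (St F W₀))],
      ∑ r : (rad F D).subgroupOf (St F W₀), psi c ρ σ r = 0) : IsCusp c := by
  classical
  have := finite_iso F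
  have hcl := Core.isIrr_isClassFunction hc
  let b : Basis (Fin k) K W₀ := finBasisOfFinrankEq K W₀ hW₀.2
  have hfW : Finite (W₀ ≃ₗ[K] W₀) := Finite.of_injective (fun e : W₀ ≃ₗ[K] W₀ => (e : W₀ → W₀)) DFunLike.coe_injective
  refine isCusp_of hcl b fun D hD0 hD1 => ?_
  intro _
  obtain ⟨D', hD'⟩ : ∃ D', D' = D.map W₀.subtype := ⟨_, rfl⟩
  have hD'le : D' ≤ W₀ := by rw [hD']; exact Submodule.map_subtype_le _ _
  have hD'0 : D' ≠ ⊥ := by
    intro h1
    apply hD0
    rw [hD'] at h1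
    rw [Submodule.eq_bot_iff]
    intro x hx
    have h2 : (x : V) ∈ D.map W₀.subtype := ⟨x, hx, rfl⟩
    rw [h1] at h2
    exact Subtype.ext ((Submodule.mem_bot K).1 h2)
  have hD'1 : D' ≠ W₀ := by
    intro h1
    apply hD1
    rw [Submodule.eq_top_iff']
    intro x
    have hx : (x : V) ∈ D' := by rw [h1]; exact x.2
    rw [hD'] at hx
    obtain ⟨y, hy, hyx⟩ := hx
    have : y = x := Subtype.ext hyx
    rwa [← this]
  have hmemD : ∀ x : W₀, (x : V) ∈ D' ↔ x ∈ D := by
    intro x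
    rw [hD']
    constructor
    · rintro ⟨y, hy, hyx⟩
      have : y = x := Subtype.ext hyx
      rwa [← this]
    · intro hx
      exact ⟨x, hx, rfl⟩
  have hDts : F.TS D' := hW₀.1.mono hD'le
  obtain ⟨R, hR⟩ : ∃ R, R = (rad F D').subgroupOf (St F W₀) := ⟨_, rfl⟩
  let _ : Fintype R := Fintype.ofFinite _
  have h1 : ∑ r : R, psi c ρ σ r = 0 := by
    subst hR
    convert h0 D' hD'le hD'0 hD'1
  have hRr : ∀ r ∈ R, (r : F.iso) ∈ rad F D' := by
    intro r hr
    rw [hR] at hr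
    exact hr
  have hRρ : ∀ r : R, ρ r = 1 := by
    intro r
    have hr := (mem_rad hDts).1 (hRr r r.2)
    refine hρ.h2 _ (F.mem_TT_of hW₀.1 fun v hv => hD'le (hr.2 v (F.perp_anti hD'le hv)))
  -- the image
  let f₀ : R →* (W₀ ≃ₗ[K] W₀) := (resHom F.iso.subtype W₀).comp R.subtype
  have hf₀ : ∀ r : R, f₀ r ∈ radU D := by
    intro r
    have hr := (mem_rad hDts).1 (hRr r r.2)
    refine ⟨fun w => ?_, fun d hd => ?_⟩
    · rw [← hmemD]
      exact hr.2 w (F.perp_anti hD'le (hW₀.1.le_perp w.2))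
    · apply Subtype.ext
      exact hr.1 d ((hmemD d).2 hd)
  have hIc : IsCharacter (W₀ ≃ₗ[K] W₀) (fun u => cl c u) := by
    have e : (fun u : W₀ ≃ₗ[K] W₀ => cl c u) = c ∘ (glE b).toMonoidHom := by
      funext u
      exact cl_eq hcl b u
    rw [e]
    exact Core.isCharacter_comp _ (Core.isIrr_isCharacter hc)
  have hX : DLe (fun u : W₀ ≃ₗ[K] W₀ => cl c u) f₀.range 0 := by
    refine DLe.of_zero fun {_} => ?_
    have h2 := sum_comp_hom f₀.rangeRestrict f₀.rangeRestrict_surjective (fun u : f₀.range => cl c (u : W₀ ≃ₗ[K] W₀))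
    have h3 : ∑ r : R, cl c ((f₀.rangeRestrict r : f₀.range) : W₀ ≃ₗ[K] W₀) * σ 1 = 0 := by
      rw [← h1]
      refine Finset.sum_congr rfl fun r _ => ?_
      unfold psi
      rw [flagTerm_of F.iso.subtype c (r : St F W₀).2, hRρ]
      rfl
    rw [← Finset.sum_mul] at h3
    have h4 := (mul_eq_zero.1 h3).resolve_right (Core.isIrr_apply_one_ne_zero hσ)
    rw [h2] at h4
    exact (mul_eq_zero.1 h4).resolve_left Core.card_ne_zero_complex
  have hY : DLe (fun u : W₀ ≃ₗ[K] W₀ => cl c u) (radU D) 0 := by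
    refine hX.anti hIc ?_
    rintro _ ⟨r, rfl⟩
    exact hf₀ r
  obtain ⟨k', hk', h5⟩ := hY.out
  have h6 : k' = 0 := Nat.le_zero.1 hk'
  rw [h5, h6]
  simp

/-- conjugation of the sum over the radical -/
theorem sum_rad_im [FiniteDimensional K V] [Finite V] {W : Submodule K V} (hW : F.TS W) (g : F.iso) {χ : F.iso → ℂ}
    (hχ : IsClassFunction _ χ) [Fintype (rad F W)] [Fintype (rad F (im g W))] :
    ∑ v : rad F (im g W), χ v = ∑ v : rad F W, χ v := by
  have hinv : ∀ u : rad F W, g * (u : F.iso) * g⁻¹ ∈ rad F (im g W) := by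
    intro u
    have e : g⁻¹ * (g * (u : F.iso) * g⁻¹) * g = u := by group
    refine (mem_rad_map hW).1 ?_
    rw [e]; exact u.2
  let E : rad F (im g W) ≃ rad F W :=
    { toFun := fun u => ⟨g⁻¹ * u * g, (mem_rad_map hW).2 u.2⟩
      invFun := fun u => ⟨g * u * g⁻¹, hinv u⟩
      left_inv := fun u => by
        apply Subtype.ext
        change g * (g⁻¹ * (u : F.iso) * g) * g⁻¹ = u
        group
      right_inv := fun u => by
        apply Subtype.ext
        change g⁻¹ * (g * (u : F.iso) * g⁻¹) * g = u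
        group }
  refine Fintype.sum_equiv E _ _ fun u => ?_
  have h1 := hχ (g⁻¹ * u * g) g
  have e : g * (g⁻¹ * (u : F.iso) * g) * g⁻¹ = u := by group
  rw [e] at h1
  exact h1

end rad

section tower

variable {K : Type u} [Field K] [Finite K] {V : ℕ → Type v} [∀ n, AddCommGroup (V n)] [∀ n, Module K (V n)]
  [∀ n, Finite (V n)] [∀ n, FiniteDimensional K (V n)] {F : ∀ n, CForm K (V n)}

/-- **large families agreeing on all parabolic subgroups are cuspidal** -/
theorem cusp_tower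
    (hcmp : ∀ k n, ∃ (j : V n →ₗ[K] V (k + n)) (W₀ : Submodule K (V (k + n))), W₀ ∈ (F (k + n)).Om k ∧
      Cmp (F (k + n)) (F n) j W₀)
    (hwitt : ∀ n (W : Submodule K (V n)), (F n).TS W → finrank K W ≤ n) (m : ℕ)
    {ι : Type*} [Fintype ι] {χ : ι → (F m).iso → ℂ} (hχ : ∀ i, IsIrrCharacter (F m).iso (χ i))
    (hinj : Function.Injective χ)
    (hres : ∀ W : Submodule K (V m), W ≠ ⊥ → (F m).TS W → ∀ g ∈ St (F m) W, ∀ i j, χ i g = χ j g)
    (hcard : 2 * m < Fintype.card ι) : ∀ (k : ℕ), 0 < k → ∀ W ∈ (F m).Om k, ∀ [Fintype (rad (F m) W)] (i : ι),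
      ∑ v : rad (F m) W, χ i v = 0 := by
  classical
  intro k
  induction k using Nat.strong_induction_on with
  | _ k ih =>
    intro hk W hW _ i
    by_contra hne
    have hkm : k ≤ m := by
      rw [← hW.2]
      exact hwitt m W hW.1
    obtain ⟨n, rfl⟩ := Nat.exists_eq_add_of_le hkm
    obtain ⟨j, W₀, hW₀, h⟩ := hcmp k n
    obtain ⟨ρ, hρ⟩ := exists_Rho h
    have := finite_iso (F (k + n))
    have := finite_iso (F n)
    let _ := Fintype.ofFinite (F (k + n)).iso
    let _ := Fintype.ofFinite (F n).iso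
    let _ : Fintype (rad (F (k + n)) W₀) := Fintype.ofFinite _
    let _ : Fintype (St (F (k + n)) W₀) := Fintype.ofFinite _
    have hW₀ne : W₀ ≠ ⊥ := by
      rintro rfl
      have := hW₀.2
      rw [finrank_bot] at this
      omega
    obtain ⟨g, hg⟩ := (F (k + n)).trans_Om hW₀ hW
    have hgW : im g W₀ = W := hg
    subst hgW
    have hne' : ∑ v : rad (F (k + n)) W₀, χ i v ≠ 0 := by
      rwa [← sum_rad_im hW₀.1 g (Core.isIrr_isClassFunction (hχ i))]
    obtain ⟨ψ, hψ, hψV, hψc, hψN⟩ := card_le' (P := St (F (k + n)) W₀) (V := rad (F (k + n)) W₀) rad_le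
      (fun g hg v hv => rad_conj hW₀.1 hg hv) χ hχ hinj (fun i j g hg => hres W₀ hW₀ne hW₀.1 g hg i j) i hne'
    -- the factorisation
    let b : Basis (Fin k) K W₀ := finBasisOfFinrankEq K W₀ hW₀.2
    obtain ⟨ψ', hψ', hψψ'⟩ := Cfsg.Agent.H759.QA.descend ((fW (F (k + n)) b).prod ρ) (fun p => by
      obtain ⟨x, hx1, hx2⟩ := joint b hρ.h3 p.1 p.2
      exact ⟨x, Prod.ext hx1 hx2⟩) ψ hψ (fun x hx => hψV x (mem_rad_of h hρ b (congrArg Prod.fst hx)
        (congrArg Prod.snd hx)))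
    obtain ⟨c, σ, hc, hσ, hcσ⟩ := (S0188.result ψ').1 hψ'
    have hcl := Core.isIrr_isClassFunction hc
    have hψeq : ψ = psi c ρ σ := by
      funext x
      rw [← hψψ' x, hcσ, psi_eq hcl b]
      rfl
    subst hψeq
    -- cuspidality
    have hcusp : IsCusp c := by
      refine isCusp_of_rad h hρ hW₀ hc hσ fun D hD hD0 hD1 => ?_
      intro _
      refine sum_zero_of_const (Core.isCharacter_comp (St (F (k + n)) W₀).subtype (Core.isIrr_isCharacter (hχ i))) hψ
        (hψc i) _ ?_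
      have hDts : (F (k + n)).TS D := hW₀.1.mono hD
      have hDk : finrank K D < k := by
        have h8 := Submodule.finrank_lt_finrank_of_lt (lt_of_le_of_ne hD hD1)
        have h9 := hW₀.2
        omega
      have hDpos : 0 < finrank K D := Nat.pos_of_ne_zero fun h => hD0 (Submodule.finrank_eq_zero.1 h)
      have hDle : rad (F (k + n)) D ≤ St (F (k + n)) W₀ := by
        intro x hx
        rw [mem_St]
        intro w hw
        have h1 := ((mem_rad hDts).1 hx).2 w ((F (k + n)).perp_anti hD (hW₀.1.le_perp hw))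
        have h2 := W₀.add_mem (hD h1) hw
        rwa [sub_add_cancel] at h2
      let _ : Fintype (rad (F (k + n)) D) := Fintype.ofFinite _
      have h3 := ih (finrank K D) hDk hDpos D ⟨hDts, rfl⟩ i
      rw [← h3]
      refine Fintype.sum_equiv (Subgroup.subgroupOfEquivOfLe hDle).toEquiv _ _ fun v => ?_
      rfl
    obtain ⟨N, hN, hN'⟩ := norm_tower hcmp hwitt hk hc hcusp n j W₀ hW₀ h ρ hρ σ (Core.isIrr_isCharacter hσ) 1
      (by rw [Core.classInner_irr_self hσ]; simp)
    have h1 := hψN N hN'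
    have h2 : (2 * n + 2) * 1 ≤ 2 * (k + n) := by omega
    omega

/-- **large families agreeing on all parabolic subgroups have `p`-defect zero** -/
theorem dz_tower
    (hcmp : ∀ k n, ∃ (j : V n →ₗ[K] V (k + n)) (W₀ : Submodule K (V (k + n))), W₀ ∈ (F (k + n)).Om k ∧
      Cmp (F (k + n)) (F n) j W₀)
    (hwitt : ∀ n (W : Submodule K (V n)), (F n).TS W → finrank K W ≤ n) (m : ℕ) {p : ℕ} [Fact p.Prime] (hp2 : p ≠ 2)
    (hpK : (p : K) ≠ 0) (hroots : ∃ ζ : K, IsPrimitiveRoot ζ p) (hσ : ∀ a : K, a ^ p = 1 → (F m).σ a = a)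
    {ι : Type*} [Fintype ι] {χ : ι → (F m).iso → ℂ} (hχ : ∀ i, IsIrrCharacter (F m).iso (χ i))
    (hinj : Function.Injective χ)
    (hres : ∀ W : Submodule K (V m), W ≠ ⊥ → (F m).TS W → ∀ g ∈ St (F m) W, ∀ i j, χ i g = χ j g)
    (hcard : 2 * m < Fintype.card ι) (i : ι) :
    (charDegree (χ i)).factorization p = (Nat.card (F m).iso).factorization p := by
  have := finite_iso (F m)
  refine defect_zero (hχ i) fun s hs => ?_
  obtain ⟨W, hW0, hTS, hst, hfix⟩ := Cfsg.Agent.H113.Cusp.Reg.exists_reg hp2 hpK hroots hσ hs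
  refine ⟨rad (F m) W, fun {_} => ?_, fun u => ⟨fun hu => rad_conj hTS hst hu, fun hu => ?_⟩, hfix⟩
  · have h1 : finrank K W ≠ 0 := fun h => hW0 (Submodule.finrank_eq_zero.1 h)
    exact cusp_tower hcmp hwitt m hχ hinj hres hcard (finrank K W) (Nat.pos_of_ne_zero h1) W ⟨hTS, rfl⟩ i
  · have h1 := rad_conj hTS (inv_mem hst) hu
    have h2 : s⁻¹ * (s * u * s⁻¹) * s⁻¹⁻¹ = u := by group
    rwa [h2] at h1

end tower

end Cfsg.Agent.R2.DZ.T3.Mac
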