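import Cfsg.Agent.R2.DZ.T3.Step

/-!
# S4527, classical groups, `p ∤ q - 1`: symplectic, odd-dimensional orthogonal, orthogonal of plus type (helper21)
-/

set_option autoImplicit false

open scoped ComplexConjugate
open Cfsg

namespace Cfsg.Agent.R2.DZ.T3

open Cfsg.Agent.Characters MulAction Module Cfsg.Agent.H53.HC Cfsg.Agent.H477.HC Cfsg.Agent.H749.Two
open Cfsg.Agent.H665.NoPQ

universe u v w

theorem DZF.mono {K : Type u} [Field K] {V : Type v} [AddCommGroup V] [Module K V] {F : CForm K V} {p : ℕ}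
    {Z Z' : Kˣ → Prop} (h : ∀ a, Z' a → Z a) (hF : DZF p Z F) : DZF p Z' F := by
  obtain ⟨ψ, d, h1, h2, h3, h4⟩ := hF
  exact ⟨ψ, d, h1, h2, h3, fun z a ha hz => h4 z a (h a ha) hz⟩

/-- every character is trivial at the scalar `1` -/
theorem triv_one {K : Type u} [Field K] {V : Type v} [AddCommGroup V] [Module K V] (F : CForm K V) (ψ : F.iso → ℂ)
    (z : F.iso) (a : Kˣ) (ha : a = 1) (hz : ∀ v, (z : V ≃ₗ[K] V) v = (a : K) • v) : ψ z = ψ 1 := by
  congr 1
  apply Subtype.ext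
  ext v : 1
  rw [hz, ha, Units.val_one, one_smul]
  rfl

section

variable (K : Type u) [Field K] [Finite K] {r : ℕ} [Fact r.Prime] [CharP K r] {p : ℕ}

/-- `p ∤ q^i` -/
theorem not_dvd_pow (hp : p.Prime) (hpr : p ≠ r) (i : ℕ) : ¬ p ∣ Nat.card K ^ i := by
  obtain ⟨t, ht⟩ := card_pow K r
  intro h
  rw [ht, ← pow_mul] at h
  exact hpr ((Nat.prime_dvd_prime_iff_eq hp Fact.out).1 (hp.dvd_of_dvd_pow h))

/-- not both of `q^m - 1`, `q^(m - 1) - 1` -/
theorem not_both {q p m : ℕ} (hp : p.Prime) (hq : 2 ≤ q) (hpq : ¬ p ∣ q - 1) (hm : 1 ≤ m) (h : p ∣ q ^ m - 1) :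
    ¬ p ∣ q ^ (m - 1) - 1 := by
  intro h2
  have h3 : p ∣ (q ^ m - 1) - (q ^ (m - 1) - 1) := Nat.dvd_sub h h2
  obtain ⟨j, rfl⟩ : ∃ j, m = j + 1 := ⟨m - 1, by omega⟩
  rw [Nat.add_sub_cancel] at h2 h3
  have h4 : (q ^ (j + 1) - 1) - (q ^ j - 1) = q ^ j * (q - 1) := by
    have h5 : 1 ≤ q ^ j := Nat.one_le_pow _ _ (by omega)
    obtain ⟨s, rfl⟩ : ∃ s, q = s + 1 := ⟨q - 1, by omega⟩
    rw [pow_succ, Nat.add_sub_cancel]
    have h6 : (s + 1) ^ j * (s + 1) = (s + 1) ^ j * s + (s + 1) ^ j := by ring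
    omega
  rw [h4] at h3
  rcases hp.dvd_mul.1 h3 with h5 | h5
  · have h6 : p ∣ q ^ j - (q ^ j - 1) := Nat.dvd_sub h5 h2
    have h7 : 1 ≤ q ^ j := Nat.one_le_pow _ _ (by omega)
    have h8 : q ^ j - (q ^ j - 1) = 1 := by omega
    rw [h8] at h6
    exact hp.one_lt.ne' (Nat.dvd_one.1 h6)
  · exact hpq h5

theorem dvd_sq_sub {q p : ℕ} (hp : p.Prime) (hpq : ¬ p ∣ q - 1) (h : p ∣ q ^ 2 - 1) : p ∣ q + 1 := by
  have h1 := sq_sub q 1
  rw [mul_one, pow_one] at h1
  rw [h1] at h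
  exact (hp.dvd_mul.1 h).resolve_right hpq

/-- `p ∣ q + 1`, `p ≥ 5` -/
theorem q_of_dvd {q p : ℕ} (hp : p.Prime) (h5 : 5 ≤ p) (hq : 2 ≤ q) (h : p ∣ q + 1) : 4 ≤ q ∧ q ≠ 5 := by
  refine ⟨?_, ?_⟩
  · have := Nat.le_of_dvd (by omega) h
    omega
  · rintro rfl
    have h6 : p ∣ 2 * 3 := h
    rcases hp.dvd_mul.1 h6 with h7 | h7
    · have := Nat.le_of_dvd (by omega) h7
      omega
    · have := Nat.le_of_dvd (by omega) h7
      omega

/-! ### the symplectic groups -/

include r in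
theorem dzf_sp_one (hp : p.Prime) (h5 : 5 ≤ p) (hpr : p ≠ r) (hpq : ¬ p ∣ Nat.card K - 1) :
    DZF p (fun a => a ^ 2 = 1) (CForm.spF K 1) := by
  have hq2 : 2 ≤ Nat.card K := Finite.one_lt_card
  by_cases h1 : p ∣ Nat.card K ^ 2 - 1
  · have h2 := dvd_sq_sub hp hpq h1
    obtain ⟨h3, h4⟩ := q_of_dvd hp h5 hq2 h2
    obtain ⟨c, hc⟩ := exists_cus_sq K rfl 1 one_pos (fun h => by omega) (fun h => by omega) (fun h => absurd h h4)
    obtain ⟨W₀, hW₀, hcmp⟩ := spF_cmp (K := K) 1 0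
    refine DZF.step hcmp (r := r) (k := 1) (m := 1) one_pos hc hW₀ (fun W hW => ?_) (by norm_num) hp hpr
      (by rwa [pow_one]) (DZF.of_not_dvd ?_)
    · have h1 := two_finrank_le hW
      rw [Module.finrank_fintype_fun_eq_card] at h1
      simp only [Fintype.card_sum, Fintype.card_fin] at h1
      omega
    · rw [card_spF]
      simpa using hp.one_lt.ne'
  · refine DZF.of_not_dvd ?_
    rw [card_spF]
    intro h
    rw [Finset.prod_range_one] at h
    rcases hp.dvd_mul.1 h with h | h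
    · exact not_dvd_pow K (r := r) hp hpr _ h
    · exact h1 h

include r in
/-- **`Sp_2m(q)`, `m ≥ 3`** -/
theorem dzf_sp (hp : p.Prime) (h5 : 5 ≤ p) (hpr : p ≠ r) (hpq : ¬ p ∣ Nat.card K - 1) {m : ℕ} (hm : 3 ≤ m)
    (h7 : m = 3 → Nat.card K = 2 → p ≠ 7) (h13 : m = 3 → Nat.card K = 3 → p ≠ 13) :
    DZF p (fun a => a ^ 2 = 1) (CForm.spF K m) := by
  have hq2 : 2 ≤ Nat.card K := Finite.one_lt_card
  by_cases h1 : p ∣ Nat.card K ^ m - 1
  · have h2 := not_both hp hq2 hpq (by omega) h1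
    obtain ⟨k, rfl⟩ : ∃ k, m = k + 1 := ⟨m - 1, by omega⟩
    rw [Nat.add_sub_cancel] at h2
    have hk : 2 ≤ k := by omega
    obtain ⟨c, hc⟩ := exists_cus_sq K rfl k (by omega) (fun h => by
      by_contra h3
      have h4 : k = 2 := by omega
      subst h4
      rw [h] at h1
      exact h7 rfl h ((Nat.prime_dvd_prime_iff_eq hp (by norm_num)).1 h1)) (fun h => by
      by_contra h3
      have h4 : k = 2 := by omega
      subst h4
      rw [h] at h1
      have h5 : p ∣ 2 * 13 := h1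
      rcases hp.dvd_mul.1 h5 with h6 | h6
      · have := Nat.le_of_dvd (by omega) h6
        omega
      · exact h13 rfl h ((Nat.prime_dvd_prime_iff_eq hp (by norm_num)).1 h6)) (fun h => hk)
    obtain ⟨W₀, hW₀, hcmp⟩ := spF_cmp (K := K) k 1
    refine DZF.step hcmp (r := r) (k := k) (m := k + 1) (by omega) hc hW₀ (fun W hW => ?_) (by omega) hp hpr
      h2 (dzf_sp_one K (r := r) hp h5 hpr hpq)
    have h1 := two_finrank_le hW
    rw [Module.finrank_fintype_fun_eq_card] at h1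
    simp only [Fintype.card_sum, Fintype.card_fin] at h1
    omega
  · obtain ⟨c, hc⟩ := exists_cus_sq K rfl m (by omega) (fun h => by omega) (fun h => by omega) (fun h => by omega)
    obtain ⟨W₀, hW₀, hcmp⟩ := spF_cmp (K := K) m 0
    refine DZF.step hcmp (r := r) (k := m) (m := m) (by omega) hc hW₀ (fun W hW => ?_) (by omega) hp hpr
      h1 (DZF.of_not_dvd ?_)
    · have h1 := two_finrank_le hW
      rw [Module.finrank_fintype_fun_eq_card] at h1
      simp only [Fintype.card_sum, Fintype.card_fin] at h1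
      omega
    · rw [card_spF]
      simpa using hp.one_lt.ne'

/-! ### odd dimension -/

include r in
theorem dzf_odd_one (hp : p.Prime) (h5 : 5 ≤ p) (hpr : p ≠ r) (hpq : ¬ p ∣ Nat.card K - 1)
    (h2 : (2 : K) ≠ 0) (ho : Odd (Nat.card K)) : DZF p (fun a => a = 1) (CForm.oddF K 1 h2) := by
  have hq2 : 2 ≤ Nat.card K := Finite.one_lt_card
  by_cases h1 : p ∣ Nat.card K ^ 2 - 1
  · have h3 := dvd_sq_sub hp hpq h1
    obtain ⟨h4, -⟩ := q_of_dvd hp h5 hq2 h3
    obtain ⟨c, hc⟩ := exists_cus_one (K := K) rfl 1 one_pos (by rw [pow_one]; omega) (by rintro ⟨h, -⟩; omega)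
    obtain ⟨W₀, hW₀, hcmp⟩ := oddF_cmp (K := K) h2 1 0
    refine (DZF.step hcmp (r := r) (k := 1) (m := 1) one_pos hc hW₀ (fun W hW => ?_) (by norm_num) hp hpr
      (by rwa [pow_one]) (DZF.of_not_dvd ?_)).mono (fun a ha => by rw [ha, one_pow])
    · have h1 := two_finrank_le hW
      rw [Module.finrank_fintype_fun_eq_card] at h1
      simp only [Fintype.card_sum, Fintype.card_fin, Fintype.card_unit] at h1
      omega
    · rw [card_oddF K h2 ho]
      simp only [Finset.range_zero, Finset.prod_empty, mul_one]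
      norm_num
      intro h
      have := Nat.le_of_dvd (by omega) h
      omega
  · refine DZF.of_not_dvd ?_
    rw [card_oddF K h2 ho]
    intro h
    rw [Finset.prod_range_one] at h
    rcases hp.dvd_mul.1 h with h | h
    · rcases hp.dvd_mul.1 h with h | h
      · have := Nat.le_of_dvd (by omega) h
        omega
      · exact not_dvd_pow K (r := r) hp hpr _ h
    · exact h1 h

include r in
/-- **`O_{2m+1}(q)`, `m ≥ 3`** -/
theorem dzf_odd (hp : p.Prime) (h5 : 5 ≤ p) (hpr : p ≠ r) (hpq : ¬ p ∣ Nat.card K - 1)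
    (h2 : (2 : K) ≠ 0) (ho : Odd (Nat.card K)) {m : ℕ} (hm : 3 ≤ m) : DZF p (fun a => a = 1) (CForm.oddF K m h2) := by
  have hq2 : 2 ≤ Nat.card K := Finite.one_lt_card
  have hq3 : 3 ≤ Nat.card K := by rcases ho with ⟨j, hj⟩; omega
  by_cases h1 : p ∣ Nat.card K ^ m - 1
  · have h3 := not_both hp hq2 hpq (by omega) h1
    obtain ⟨k, rfl⟩ : ∃ k, m = k + 1 := ⟨m - 1, by omega⟩
    rw [Nat.add_sub_cancel] at h3
    have hk : 2 ≤ k := by omega
    obtain ⟨c, hc⟩ := exists_cus_one (K := K) rfl k (by omega) (by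
      have : Nat.card K ^ 2 ≤ Nat.card K ^ k := Nat.pow_le_pow_right (by omega) (by omega)
      nlinarith) (by rintro ⟨h, -⟩; omega)
    obtain ⟨W₀, hW₀, hcmp⟩ := oddF_cmp (K := K) h2 k 1
    refine (DZF.step hcmp (r := r) (k := k) (m := k + 1) (by omega) hc hW₀ (fun W hW => ?_) (by omega) hp hpr
      h3 ((dzf_odd_one K (r := r) hp h5 hpr hpq h2 ho).mono (fun a ha => (pow_one a).symm.trans ha))).mono
        (fun a ha => by rw [ha, one_pow])
    have h1 := two_finrank_le hW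
    rw [Module.finrank_fintype_fun_eq_card] at h1
    simp only [Fintype.card_sum, Fintype.card_fin, Fintype.card_unit] at h1
    omega
  · obtain ⟨c, hc⟩ := exists_cus_one (K := K) rfl m (by omega) (by
      have : Nat.card K ^ 2 ≤ Nat.card K ^ m := Nat.pow_le_pow_right (by omega) (by omega)
      nlinarith) (by rintro ⟨h, -⟩; omega)
    obtain ⟨W₀, hW₀, hcmp⟩ := oddF_cmp (K := K) h2 m 0
    refine (DZF.step hcmp (r := r) (k := m) (m := m) (by omega) hc hW₀ (fun W hW => ?_) (by omega) hp hpr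
      h1 (DZF.of_not_dvd ?_)).mono (fun a ha => by rw [ha, one_pow])
    · have h1 := two_finrank_le hW
      rw [Module.finrank_fintype_fun_eq_card] at h1
      simp only [Fintype.card_sum, Fintype.card_fin, Fintype.card_unit] at h1
      omega
    · rw [card_oddF K h2 ho]
      simp only [Finset.range_zero, Finset.prod_empty, mul_one]
      norm_num
      intro h
      have := Nat.le_of_dvd (by omega) h
      omega

/-! ### plus type -/

include r in
/-- **`O⁺_{2m}(q)`, `m ≥ 4`** -/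
theorem dzf_plus (hp : p.Prime) (h5 : 5 ≤ p) (hpr : p ≠ r) (hpq : ¬ p ∣ Nat.card K - 1) {m : ℕ} (hm : 4 ≤ m) :
    DZF p (fun a => a ^ 2 = 1) (CForm.plusF K m) := by
  have hq2 : 2 ≤ Nat.card K := Finite.one_lt_card
  by_cases h1 : p ∣ Nat.card K ^ m - 1
  · have h2 := not_both hp hq2 hpq (by omega) h1
    obtain ⟨k, rfl⟩ : ∃ k, m = k + 1 := ⟨m - 1, by omega⟩
    rw [Nat.add_sub_cancel] at h2
    have hk : 3 ≤ k := by omega
    obtain ⟨c, hc⟩ := exists_cus_sq K rfl k (by omega) (fun h => by omega) (fun h => by omega) (fun h => by omega)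
    obtain ⟨W₀, hW₀, hcmp⟩ := plusF_cmp (K := K) k 1
    refine DZF.step hcmp (r := r) (k := k) (m := k + 1) (by omega) hc hW₀ (fun W hW => ?_) (by omega) hp hpr
      h2 (DZF.of_not_dvd ?_)
    · have h1 := two_finrank_le hW
      rw [Module.finrank_fintype_fun_eq_card] at h1
      simp only [Fintype.card_sum, Fintype.card_fin] at h1
      omega
    · rw [card_plusF K le_rfl]
      intro h
      have h6 : 2 * Nat.card K ^ (1 * (1 - 1)) * (Nat.card K ^ 1 - 1) *
          ∏ i ∈ Finset.range (1 - 1), (Nat.card K ^ (2 * (i + 1)) - 1) = 2 * (Nat.card K - 1) := by simp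
      rw [h6] at h
      rcases hp.dvd_mul.1 h with h | h
      · have := Nat.le_of_dvd (by omega) h
        omega
      · exact hpq h
  · obtain ⟨c, hc⟩ := exists_cus_sq K rfl m (by omega) (fun h => by omega) (fun h => by omega) (fun h => by omega)
    obtain ⟨W₀, hW₀, hcmp⟩ := plusF_cmp (K := K) m 0
    refine DZF.step hcmp (r := r) (k := m) (m := m) (by omega) hc hW₀ (fun W hW => ?_) (by omega) hp hpr
      h1 (DZF.of_not_dvd ?_)
    · have h1 := two_finrank_le hW
      rw [Module.finrank_fintype_fun_eq_card] at h1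
      simp only [Fintype.card_sum, Fintype.card_fin] at h1
      omega
    · have h1 : Nat.card (CForm.plusF K 0).iso = 1 := by
        rw [Nat.card_eq_one_iff_unique]
        refine ⟨⟨fun a b => ?_⟩, ⟨1⟩⟩
        apply Subtype.ext
        apply LinearEquiv.ext
        intro v
        exact Subsingleton.elim _ _
      rw [h1]
      exact fun h => hp.one_lt.ne' (Nat.dvd_one.1 h)

end

end Cfsg.Agent.R2.DZ.T3
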