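import Cfsg.Agent.R2.DZ.T3.Lift

/-!
# S4527, classical groups, `p ∤ q - 1`: orthogonal groups of minus type (helper21)

All cases but `O⁻_8(q)`, `p ∣ q + 1`.
-/

set_option autoImplicit false

open scoped ComplexConjugate
open Cfsg

namespace Cfsg.Agent.R2.DZ.T3

open Cfsg.Agent.Characters MulAction Module Cfsg.Agent.H53.HC Cfsg.Agent.H477.HC Cfsg.Agent.H749.Two
open Cfsg.Agent.H665.NoPQ

universe u v w

section

variable (K : Type) [Field K] [Finite K] {r : ℕ} [Fact r.Prime] [CharP K r] {p : ℕ} (a b : K)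
  (hab : ∀ z₁ z₂ : K, z₁ ^ 2 + a * z₁ * z₂ + b * z₂ ^ 2 = 0 → z₁ = 0 ∧ z₂ = 0)

/-- three consecutive -/
theorem not_two {q p m : ℕ} (hp : p.Prime) (hq : 2 ≤ q) (h : p ∣ q ^ (m + 2) - 1) (h' : p ∣ q ^ m - 1) :
    p ∣ q ^ 2 - 1 := by
  have h3 : p ∣ (q ^ (m + 2) - 1) - (q ^ m - 1) := Nat.dvd_sub h h'
  have h4 : (q ^ (m + 2) - 1) - (q ^ m - 1) = q ^ m * (q ^ 2 - 1) := by
    have h5 : 1 ≤ q ^ m := Nat.one_le_pow _ _ (by omega)
    obtain ⟨s, hs⟩ : ∃ s, q ^ 2 = s + 1 := ⟨q ^ 2 - 1, by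
      have : 1 ≤ q ^ 2 := Nat.one_le_pow _ _ (by omega)
      omega⟩
    rw [pow_add, hs, Nat.add_sub_cancel]
    have h6 : q ^ m * (s + 1) = q ^ m * s + q ^ m := by ring
    omega
  rw [h4] at h3
  rcases hp.dvd_mul.1 h3 with h5 | h5
  · have h6 : p ∣ q ^ m - (q ^ m - 1) := Nat.dvd_sub h5 h'
    have h7 : 1 ≤ q ^ m := Nat.one_le_pow _ _ (by omega)
    have h8 : q ^ m - (q ^ m - 1) = 1 := by omega
    rw [h8] at h6
    exact absurd (Nat.dvd_one.1 h6) hp.one_lt.ne'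
  · exact h5

include r in
/-- `GL_l` -/
theorem dzf_minus_A (hp : p.Prime) (h5 : 5 ≤ p) (hpr : p ≠ r) {l : ℕ} (hl : 3 ≤ l)
    (h1 : ¬ p ∣ Nat.card K ^ l - 1) (h2 : ¬ p ∣ Nat.card K + 1) :
    DZF p (fun c => c ^ 2 = 1) (CForm.minusF K l a b hab) := by
  obtain ⟨c, hc⟩ := exists_cus_sq K rfl l (by omega) (fun h => by omega) (fun h => by omega) (fun h => by omega)
  obtain ⟨W₀, hW₀, hcmp⟩ := minusF_cmp (K := K) hab l 0
  refine DZF.step hcmp (r := r) (k := l) (m := l) (by omega) hc hW₀ (minus_witt K a b hab _) (by omega) hp hpr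
    h1 (DZF.of_not_dvd ?_)
  rw [card_minusF]
  simp only [Finset.range_zero, Finset.prod_empty, mul_one, Nat.mul_zero, pow_zero, zero_add, pow_one]
  intro h
  rcases hp.dvd_mul.1 h with h | h
  · have := Nat.le_of_dvd (by omega) h
    omega
  · exact h2 h

include r in
/-- `GL_{l-1}` -/
theorem dzf_minus_B (hp : p.Prime) (h5 : 5 ≤ p) (hpr : p ≠ r) {k : ℕ} (hk : 3 ≤ k)
    (h1 : ¬ p ∣ Nat.card K ^ k - 1) : DZF p (fun c => c ^ 2 = 1) (CForm.minusF K (k + 1) a b hab) := by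
  obtain ⟨c, hc⟩ := exists_cus_sq K rfl k (by omega) (fun h => by omega) (fun h => by omega) (fun h => by omega)
  obtain ⟨W₀, hW₀, hcmp⟩ := minusF_cmp (K := K) hab k 1
  exact DZF.step hcmp (r := r) (k := k) (m := k + 1) (by omega) hc hW₀ (minus_witt K a b hab _) (by omega) hp hpr
    h1 ((dzf_minus_one K (r := r) a b hab hp h5 hpr).mono fun _ _ => trivial)

include r in
/-- `GL_2`, `O⁻_8(q)` -/
theorem dzf_minus_B3 (hp : p.Prime) (h5 : 5 ≤ p) (hpr : p ≠ r) (hq3 : 3 ≤ Nat.card K)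
    (h1 : ¬ p ∣ Nat.card K ^ 2 - 1) : DZF p (fun c => c = 1) (CForm.minusF K 3 a b hab) := by
  obtain ⟨c, hc⟩ := exists_cus_one (K := K) rfl 2 (by norm_num) (by nlinarith) (by rintro ⟨h3, -⟩; omega)
  obtain ⟨W₀, hW₀, hcmp⟩ := minusF_cmp (K := K) hab 2 1
  exact (DZF.step hcmp (r := r) (k := 2) (m := 2 + 1) (by omega) hc hW₀ (minus_witt K a b hab _) (by omega) hp hpr
    h1 ((dzf_minus_one K (r := r) a b hab hp h5 hpr).mono fun _ _ => trivial)).mono (fun c hc => by rw [hc, one_pow])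

include r in
/-- `GL_{l-2}` -/
theorem dzf_minus_C (hp : p.Prime) (h5 : 5 ≤ p) (hpr : p ≠ r) {k : ℕ} (hk : 3 ≤ k)
    (h1 : ¬ p ∣ Nat.card K ^ k - 1) : DZF p (fun c => c ^ 2 = 1) (CForm.minusF K (k + 2) a b hab) := by
  obtain ⟨c, hc⟩ := exists_cus_sq K rfl k (by omega) (fun h => by omega) (fun h => by omega) (fun h => by omega)
  obtain ⟨W₀, hW₀, hcmp⟩ := minusF_cmp (K := K) hab k 2
  exact DZF.step hcmp (r := r) (k := k) (m := k + 2) (by omega) hc hW₀ (minus_witt K a b hab _) (by omega) hp hpr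
    h1 ((dzf_minus_two K (r := r) a b hab hp h5 hpr).mono fun _ _ => trivial)

include r in
/-- **`O⁻_{2l+2}(q)`, `l ≥ 4`** -/
theorem dzf_minus (hp : p.Prime) (h5 : 5 ≤ p) (hpr : p ≠ r) (hpq : ¬ p ∣ Nat.card K - 1) {l : ℕ} (hl : 4 ≤ l) :
    DZF p (fun c => c ^ 2 = 1) (CForm.minusF K l a b hab) := by
  have hq2 : 2 ≤ Nat.card K := Finite.one_lt_card
  by_cases h1 : p ∣ Nat.card K ^ (l - 1) - 1
  · have h2 : ¬ p ∣ Nat.card K ^ l - 1 := fun h => not_both hp hq2 hpq (by omega) h h1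
    by_cases h3 : p ∣ Nat.card K + 1
    · -- `l` is odd
      have h4 : l ≠ 4 := by
        rintro rfl
        have h6 := not_both (m := 3) hp hq2 hpq (by norm_num) h1
        apply h6
        have h7 := sq_sub (Nat.card K) 1
        rw [mul_one, pow_one] at h7
        change p ∣ Nat.card K ^ 2 - 1
        rw [h7]
        exact Dvd.dvd.mul_right h3 _
      obtain ⟨k, rfl⟩ : ∃ k, l = k + 2 := ⟨l - 2, by omega⟩
      refine dzf_minus_C K (r := r) a b hab hp h5 hpr (by omega) ?_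
      have h6 := not_both hp hq2 hpq (by omega) h1
      exact h6
    · exact dzf_minus_A K (r := r) a b hab hp h5 hpr (by omega) h2 h3
  · obtain ⟨k, rfl⟩ : ∃ k, l = k + 1 := ⟨l - 1, by omega⟩
    exact dzf_minus_B K (r := r) a b hab hp h5 hpr (by omega) h1

include r in
/-- **`O⁻_8(q)`, `p ∤ q + 1`** -/
theorem dzf_minus_three (hp : p.Prime) (h5 : 5 ≤ p) (hpr : p ≠ r) (hpq : ¬ p ∣ Nat.card K - 1)
    (hpq' : ¬ p ∣ Nat.card K + 1) (h7 : Nat.card K = 2 → p ≠ 7) :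
    DZF p (fun c => c = 1) (CForm.minusF K 3 a b hab) := by
  have hq2 : 2 ≤ Nat.card K := Finite.one_lt_card
  have h1 : ¬ p ∣ Nat.card K ^ 2 - 1 := fun h => hpq' (dvd_sq_sub hp hpq h)
  rcases Nat.lt_or_ge (Nat.card K) 3 with h3 | h3
  · have h2 : Nat.card K = 2 := by omega
    refine (dzf_minus_A K (r := r) a b hab hp h5 hpr le_rfl (fun h => ?_) hpq').mono (fun c hc => by rw [hc, one_pow])
    rw [h2] at h
    exact h7 h2 ((Nat.prime_dvd_prime_iff_eq hp (by norm_num)).1 h)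
  · exact dzf_minus_B3 K (r := r) a b hab hp h5 hpr h3 h1

end

end Cfsg.Agent.R2.DZ.T3
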