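import Cfsg.Agent.R2.DZ.T3.TorG
import Cfsg.Agent.R2.DZ.T3.RowsB

/-!
# S4527, box T3: characters of `p`-defect zero of the isometry groups, `5 ≤ p ∣ q - 1` (helper21)
-/

set_option autoImplicit false
set_option linter.unusedSectionVars false

open scoped ComplexConjugate
open Cfsg

namespace Cfsg.Agent.R2.DZ.T3

open Cfsg.Agent.Characters Module Cfsg.Agent.H53.HC Cfsg.Agent.H477.HC Cfsg.Agent.H749.Two Tor

universe u v w

section

variable {K : Type u} [Field K] [Finite K]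

theorem q_big {p : ℕ} (hp : p.Prime) (h5 : 5 ≤ p) (hpq : p ∣ Nat.card K - 1) :
    (Even (Nat.card K) ∧ 8 ≤ Nat.card K) ∨ 11 ≤ Nat.card K := by
  have hq2 : 2 ≤ Nat.card K := Finite.one_lt_card
  have h1 := Nat.le_of_dvd (by omega) hpq
  rcases Nat.even_or_odd (Nat.card K) with he | ho
  · left
    refine ⟨he, ?_⟩
    by_contra h
    obtain ⟨j, hj⟩ := id he
    have h6 : Nat.card K = 6 := by omega
    obtain ⟨r, hr⟩ := CharP.exists K
    have hrp : r.Prime := (CharP.char_is_prime_or_zero K r).resolve_right (CharP.char_ne_zero_of_finite K r)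
    have : Fact r.Prime := ⟨hrp⟩
    obtain ⟨t, ht⟩ := card_pow K r
    rw [h6] at ht
    have h2 : 2 ∣ r ^ t := ht ▸ (by norm_num)
    have h3 : 3 ∣ r ^ t := ht ▸ (by norm_num)
    have h4 := (Nat.prime_dvd_prime_iff_eq Nat.prime_two hrp).1 (Nat.prime_two.dvd_of_dvd_pow h2)
    have h7 := (Nat.prime_dvd_prime_iff_eq Nat.prime_three hrp).1 (Nat.prime_three.dvd_of_dvd_pow h3)
    omega
  · right
    obtain ⟨j, hj⟩ := ho
    obtain ⟨s, hs⟩ := hpq
    have h2 : s ≠ 1 := by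
      rintro rfl
      have h3 : p = 2 * j := by omega
      have h4 : 2 ∣ p := ⟨j, h3⟩
      have h6 := (Nat.prime_dvd_prime_iff_eq Nat.prime_two hp).1 h4
      omega
    have h3 : s ≠ 0 := by
      rintro rfl
      omega
    have h4 : p * 2 ≤ p * s := Nat.mul_le_mul_left _ (by omega)
    omega

/-- from `Dat.dz` -/
theorem dzf_of_dz {V : Type v} [AddCommGroup V] [Module K V] [Finite V] {F : CForm K V} {p : ℕ} 
    (h : ∃ χ : F.iso → ℂ, IsIrrCharacter F.iso χ ∧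
      (charDegree χ).factorization p = (Nat.card F.iso).factorization p ∧
      ∀ (z : F.iso) (a : Kˣ), a ^ 2 = 1 → (∀ v, (z : V ≃ₗ[K] V) v = (a : K) • v) → χ z = χ 1) :
    DZF p (fun a => a ^ 2 = 1) F := by
  obtain ⟨χ, h1, h2, h3⟩ := h
  refine ⟨χ, charDegree χ, h1, Cfsg.Agent.Blocks.Basic.irr_one_eq_charDegree h1, ?_, h3⟩
  rw [← h2]
  exact Nat.ordProj_dvd _ _

end

section

variable (K : Type u) [Field K] [Finite K] {p : ℕ}

theorem dzf_sp_q (hp : p.Prime) (h5 : 5 ≤ p) (hpq : p ∣ Nat.card K - 1) {m : ℕ} (hm : 2 ≤ m) :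
    DZF p (fun a => a ^ 2 = 1) (CForm.spF K m) := by
  obtain ⟨L, i1, i2, ⟨D⟩⟩ := sp_dat K (e := m) (by omega)
  exact dzf_of_dz (D.dz (F := fun n => CForm.spF K n)
    (fun k n => by
      obtain ⟨W₀, h1, h2⟩ := spF_cmp K k n
      exact ⟨_, W₀, h1, h2⟩)
    (fun n W hW => by
      have h1 := two_finrank_le hW
      rw [Module.finrank_fintype_fun_eq_card] at h1
      simp only [Fintype.card_sum, Fintype.card_fin] at h1
      omega) m hm (by omega) (q_big hp h5 hpq) hp (by omega) hpq (fun a => rfl))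

theorem dzf_odd_q (h2 : (2 : K) ≠ 0) (hp : p.Prime) (h5 : 5 ≤ p) (hpq : p ∣ Nat.card K - 1) {m : ℕ} (hm : 2 ≤ m) :
    DZF p (fun a => a ^ 2 = 1) (CForm.oddF K m h2) := by
  obtain ⟨L, i1, i2, Y, i3, i4, ⟨D⟩⟩ := odd_dat K h2 (e := m) (by omega)
  exact dzf_of_dz (D.dz (F := fun n => CForm.oddF K n h2)
    (fun k n => by
      obtain ⟨W₀, h1, h2⟩ := oddF_cmp K h2 k n
      exact ⟨_, W₀, h1, h2⟩)
    (fun n W hW => by
      have h1 := two_finrank_le hW
      rw [Module.finrank_fintype_fun_eq_card] at h1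
      simp only [Fintype.card_sum, Fintype.card_fin, Fintype.card_unit] at h1
      omega) m hm (by omega) (q_big hp h5 hpq) hp (by omega) hpq (fun a => rfl))

theorem dzf_plus_q (hp : p.Prime) (h5 : 5 ≤ p) (hpq : p ∣ Nat.card K - 1) {m : ℕ} (hm : 3 ≤ m) :
    DZF p (fun a => a ^ 2 = 1) (CForm.plusF K m) := by
  obtain ⟨e, rfl⟩ : ∃ e, m = e + 1 := ⟨m - 1, by omega⟩
  have hq := q_big hp h5 hpq
  obtain ⟨L, i1, i2, Y, i3, i4, ⟨D⟩⟩ := plus_dat K (by omega) (e := e) (by omega)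
  exact dzf_of_dz (D.dz (F := fun n => CForm.plusF K n)
    (fun k n => by
      obtain ⟨W₀, h1, h2⟩ := plusF_cmp K k n
      exact ⟨_, W₀, h1, h2⟩)
    (fun n W hW => by
      have h1 := two_finrank_le hW
      rw [Module.finrank_fintype_fun_eq_card] at h1
      simp only [Fintype.card_sum, Fintype.card_fin] at h1
      omega) (e + 1) (by omega) (by omega) hq hp (by omega) hpq (fun a => rfl))

theorem dzf_minus_q {a b : K} (hab : ∀ z₁ z₂ : K, z₁ ^ 2 + a * z₁ * z₂ + b * z₂ ^ 2 = 0 → z₁ = 0 ∧ z₂ = 0)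
    (hp : p.Prime) (h5 : 5 ≤ p) (hpq : p ∣ Nat.card K - 1) {l : ℕ} (hl : 1 ≤ l) :
    DZF p (fun a => a ^ 2 = 1) (CForm.minusF K l a b hab) := by
  have hq := q_big hp h5 hpq
  obtain ⟨L, i1, i2, ⟨D⟩⟩ := minus_dat K (by omega) l hab
  exact dzf_of_dz (D.dz (F := fun n => CForm.minusF K n a b hab)
    (fun k n => by
      obtain ⟨W₀, h1, h2⟩ := minusF_cmp (K := K) hab k n
      exact ⟨_, W₀, h1, h2⟩)
    (fun n W hW => minus_witt K a b hab n W hW) l (by omega) (by omega) hq hp (by omega) hpq (fun a => rfl))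

end

end Cfsg.Agent.R2.DZ.T3
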