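import Cfsg.Agent.H749.TwoRows
import Cfsg.Agent.H686.VO.PSpDZ
import Cfsg.Agent.R2.DZ.Tools

/-!
# S4527, classical groups: Harish-Chandra steps for characters of `p`-defect zero (helper21)

`DZF p Z F` : the isometry group `F.iso` has an irreducible character whose degree is divisible by the `p`-part of the
order and which is trivial at the scalars in `Z`; `DZF.step` : from `F'` to `F` by `GL_k`, `p ∤ q^k - 1`;
`hasDZ_sp`, `hasDZ_om` : descent to `PSp`, `PΩ`.
-/

set_option autoImplicit false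

open scoped ComplexConjugate
open Cfsg

namespace Cfsg.Agent.R2.DZ.T3

open Cfsg.Agent.Characters MulAction Module Cfsg.Agent.H53.HC Cfsg.Agent.H477.HC Cfsg.Agent.H749.Two
open Cfsg.Agent.H665.NoPQ

universe u v w

section

variable {K : Type u} [Field K] {V : Type v} [AddCommGroup V] [Module K V] {X : Type w} [AddCommGroup X] [Module K X]

/-- an irreducible character of `F.iso` of `p`-defect zero, trivial at the scalars in `Z` -/
def DZF (p : ℕ) (Z : Kˣ → Prop) (F : CForm K V) : Prop :=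
  ∃ (ψ : F.iso → ℂ) (d : ℕ), IsIrrCharacter F.iso ψ ∧ ψ 1 = (d : ℂ) ∧ p ^ (Nat.card F.iso).factorization p ∣ d ∧
    ∀ (z : F.iso) (a : Kˣ), Z a → (∀ v, (z : V ≃ₗ[K] V) v = (a : K) • v) → ψ z = ψ 1

variable {F : CForm K V} {F' : CForm K X} {j : X →ₗ[K] V} {W₀ : Submodule K V}

/-- the trivial character -/
theorem DZF.of_not_dvd {p : ℕ} {Z : Kˣ → Prop} (h : ¬ p ∣ Nat.card F.iso) : DZF p Z F := by
  refine ⟨1, 1, Core.isIrr_one, by simp, ?_, fun _ _ _ _ => rfl⟩
  rw [Nat.factorization_eq_zero_of_not_dvd h, pow_zero]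

theorem fac_of_not_dvd {p a b : ℕ} (hp : p.Prime) (ha : a ≠ 0) (hb : b ≠ 0) (h : ¬ p ∣ a) :
    (a * b).factorization p = b.factorization p := by
  rw [Nat.factorization_mul ha hb, Finsupp.add_apply, Nat.factorization_eq_zero_of_not_dvd h, zero_add]

/-- the `p`-part of the order of `F.iso` -/
theorem fac_iso [FiniteDimensional K V] [Finite V] [Finite K] (h : Cmp F F' j W₀) {r : ℕ} [Fact r.Prime] [CharP K r]
    {k : ℕ} (hk : 0 < k) (hW₀ : W₀ ∈ F.Om k) {p : ℕ} (hp : p.Prime) (hpr : p ≠ r) (hpk : ¬ p ∣ Nat.card K ^ k - 1) :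
    (Nat.card F.iso).factorization p = (dg F k * Nat.card F'.iso).factorization p := by
  have hr : r.Prime := Fact.out
  have := finite_iso F
  have hjinj : Function.Injective j := by
    rw [injective_iff_map_eq_zero]
    intro x hx
    refine F'.nondeg x fun y => ?_
    rw [← h.jB, hx, F.B_zero_left]
  have hfX : Finite X := Finite.of_injective j hjinj
  have := finite_iso F'
  obtain ⟨a, ha⟩ := card_exact h (p := r) hW₀
  obtain ⟨s, hs⟩ := card_GL_eq K k hk
  obtain ⟨t, ht⟩ := card_pow K r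
  have hc0 : Nat.card F.iso ≠ 0 := Nat.card_pos.ne'
  have hF'0 : Nat.card F'.iso ≠ 0 := Nat.card_pos.ne'
  have e1 : Nat.card F.iso = (r ^ (a + t * s) * (Nat.card K ^ k - 1)) * (dg F k * Nat.card F'.iso) := by
    rw [ha, hs]
    unfold dg
    have : (Nat.card K) ^ s = r ^ (t * s) := by rw [pow_mul, ← ht]
    rw [this, pow_add]
    ring
  rw [e1] at hc0 ⊢
  have h1 := left_ne_zero_of_mul hc0
  have h2 := right_ne_zero_of_mul hc0
  refine fac_of_not_dvd hp h1 h2 fun h3 => ?_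
  rcases hp.dvd_mul.1 h3 with h4 | h4
  · exact hpr ((Nat.prime_dvd_prime_iff_eq hp hr).1 (hp.dvd_of_dvd_pow h4))
  · exact hpk h4

/-- **the Harish-Chandra step** -/
theorem DZF.step [Finite K] [FiniteDimensional K V] [Finite V] (h : Cmp F F' j W₀) {r : ℕ} [Fact r.Prime] [CharP K r]
    {k m : ℕ} (hk : 0 < k) {Z : Kˣ → Prop} {c : GL (Fin k) K → ℂ} (hc : Cus K k F.σ Z c) (hW₀ : W₀ ∈ F.Om k)
    (hw : ∀ W : Submodule K V, F.TS W → finrank K W ≤ m) (hkm : m < 2 * k) {p : ℕ} (hp : p.Prime) (hpr : p ≠ r)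
    (hpk : ¬ p ∣ Nat.card K ^ k - 1) (h' : DZF p Z F') : DZF p Z F := by
  obtain ⟨ψ, d, hψ, hψ1, hd, hψz⟩ := h'
  obtain ⟨χ, hχ, hχ1, hχz⟩ := exists_prod h hc hW₀ hw hkm hψ hψ1 hψz
  refine ⟨χ, dg F k * d, hχ, hχ1, ?_, hχz⟩
  rw [fac_iso h hk hW₀ hp hpr hpk]
  have hjinj : Function.Injective j := by
    rw [injective_iff_map_eq_zero]
    intro x hx
    refine F'.nondeg x fun y => ?_
    rw [← h.jB, hx, F.B_zero_left]
  have hfX : Finite X := Finite.of_injective j hjinj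
  have := finite_iso F'
  have := finite_iso F
  by_cases h0 : dg F k = 0
  · rw [h0, zero_mul, zero_mul]
    exact dvd_zero _
  rw [Nat.factorization_mul h0 Nat.card_pos.ne', Finsupp.add_apply, pow_add]
  exact Nat.mul_dvd_mul (Nat.ordProj_dvd _ _) hd

end

/-! ### descent -/

/-- from `Sp` to `PSp` -/
theorem hasDZ_sp {K : Type u} [Field K] [Finite K] {m p : ℕ} (hp : p.Prime)
    (h : DZF p (fun a => a ^ 2 = 1) (CForm.spF K m)) : HasDZ p (PSp m K) := by
  have : Fact p.Prime := ⟨hp⟩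
  obtain ⟨χ, d, hχ, hχ1, hd, hz⟩ := h
  obtain ⟨η, hη, hη1⟩ := sp_down hχ hχ1 hz
  have hfin : Finite (Matrix.symplecticGroup (Fin m) K) := inferInstance
  refine H686.VO.hasDZ_of_deg hη hη1 ((pow_dvd_pow p ?_).trans hd)
  rw [← Nat.card_congr (isoSp m K).toEquiv]
  exact (Nat.factorization_le_iff_dvd Nat.card_pos.ne' Nat.card_pos.ne').2 (Subgroup.card_quotient_dvd_card _) p

/-- from `O` to `PΩ` -/
theorem hasDZ_om {ι : Type} [Fintype ι] [DecidableEq ι] {K : Type u} [Field K] [Finite K] (F : CForm K (ι → K))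
    (hB : ∀ u v, F.B u v = F.Q (u + v) - F.Q u - F.Q v) {Z : Kˣ → Prop} {p : ℕ} (hp : p.Prime) (hp2 : p ≠ 2)
    (h : DZF p Z F)
    (hcen : ∀ z : Omega K F.Q, z ∈ Subgroup.center (Omega K F.Q) → ∃ a : Kˣ, Z a ∧ ∀ v, (omMat z).mulVec v = (a : K) • v)
    {t : ℕ} (hidx : (Omega K F.Q).index ∣ 2 ^ t) : HasDZ p (POmega K F.Q) := by
  have : Fact p.Prime := ⟨hp⟩
  obtain ⟨χ, d, hχ, hχ1, hd, hz⟩ := h
  obtain ⟨e, i, ⟨η, hη, hη1⟩, he, -, -⟩ := om_down F hB hχ hχ1 hz hcen hidx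
  have hfin : Finite (isometryGroup K F.Q) := inferInstance
  refine H686.VO.hasDZ_of_deg hη hη1 ?_
  have h1 : p ^ (Nat.card (POmega K F.Q)).factorization p ∣ d := by
    refine (pow_dvd_pow p ?_).trans hd
    rw [← Nat.card_congr (isoQuad F hB).toEquiv]
    exact (Nat.factorization_le_iff_dvd Nat.card_pos.ne' Nat.card_pos.ne').2
      ((Subgroup.card_quotient_dvd_card _).trans (Subgroup.card_subgroup_dvd_card _)) p
  rw [he] at h1
  exact (Nat.Coprime.pow _ _ ((Nat.coprime_primes hp Nat.prime_two).2 hp2)).dvd_of_dvd_mul_right h1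

end Cfsg.Agent.R2.DZ.T3
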