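import Mathlib
import Cfsg.Agent.R2.DZ.T3.TorA
import Cfsg.Agent.R2.DZ.T3.MacE
import Cfsg.Agent.H113.Cusp.TorFus

/-!
# S4527, box T3: the subgroup `μ_{q^e+1} × Iso(Y)` of the isometry group of `L ⊥ Y` (helper21)

`L / K` of degree `2 e`, `Y` anisotropic; `Dat F L Y e` : an isometry of the space of `F` with `L ⊥ Y`, where
`B(x, y) = Tr(δ x y^{q^e})` on `L`. `Dat.N`, `Dat.T`, `Dat.B M`; `Dat.tor` : fusion; `Dat.not_stab`.
-/

set_option autoImplicit false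
set_option linter.unusedSectionVars false
set_option linter.style.haveILetI false

open scoped ComplexConjugate
open Cfsg

namespace Cfsg.Agent.R2.DZ.T3.Tor

open Module Cfsg.Agent.H477.HC Cfsg.Agent.H477.HC.CForm Cfsg.Agent.H749

universe u v w

section alg

variable {K : Type u} [Field K] {L : Type} [Field L] [Algebra K L]

theorem exists_aeval' {u : L} (hu : Algebra.adjoin K {u} = ⊤) (x : L) :
    ∃ P : Polynomial K, Polynomial.aeval u P = x := by
  have h2 : x ∈ Algebra.adjoin K {u} := by rw [hu]; trivial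
  rw [Algebra.adjoin_singleton_eq_range_aeval] at h2
  obtain ⟨P, hP⟩ := h2
  exact ⟨P, hP⟩

theorem semi_of' [FiniteDimensional K L] {u u' : L} (hu : Algebra.adjoin K {u} = ⊤)
    (A : L →ₗ[K] L) (hA : ∀ x, A (u * x) = u' * A x) (hinj : Function.Injective A) :
    ∃ (τ : L ≃ₐ[K] L) (w : Lˣ), ∀ x, A x = w * τ x := by
  have hw : A 1 ≠ 0 := by
    intro h
    exact one_ne_zero (hinj (h.trans (map_zero A).symm))
  have hmul : ∀ a b : L, A (a * b) = A a * (A 1)⁻¹ * A b := by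
    intro a b
    obtain ⟨P, rfl⟩ := exists_aeval' hu a
    have h1 := Cfsg.Agent.H113.Cusp.Torus.aeval_of A hA P 1
    rw [mul_one] at h1
    rw [Cfsg.Agent.H113.Cusp.Torus.aeval_of A hA, h1, mul_assoc (Polynomial.aeval u' P), mul_inv_cancel₀ hw, mul_one]
  let τ : L →ₐ[K] L := {
    toFun := fun a => (A 1)⁻¹ * A a
    map_one' := inv_mul_cancel₀ hw
    map_mul' := fun a b => by
      change (A 1)⁻¹ * A (a * b) = (A 1)⁻¹ * A a * ((A 1)⁻¹ * A b)
      rw [hmul]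
      ring
    map_zero' := by
      change (A 1)⁻¹ * A 0 = 0
      rw [map_zero, mul_zero]
    map_add' := fun a b => by
      change (A 1)⁻¹ * A (a + b) = (A 1)⁻¹ * A a + (A 1)⁻¹ * A b
      rw [map_add, mul_add]
    commutes' := fun r => by
      change (A 1)⁻¹ * A (algebraMap K L r) = algebraMap K L r
      rw [Algebra.algebraMap_eq_smul_one, map_smul, mul_smul_comm, inv_mul_cancel₀ hw] }
  have hτ : ∀ a, τ a = (A 1)⁻¹ * A a := fun a => rfl
  have hτi : Function.Injective τ := by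
    intro a b hab
    rw [hτ, hτ] at hab
    exact hinj (mul_left_cancel₀ (inv_ne_zero hw) hab)
  have hτs : Function.Surjective τ := (LinearMap.injective_iff_surjective (f := τ.toLinearMap)).1 hτi
  refine ⟨AlgEquiv.ofBijective τ ⟨hτi, hτs⟩, Units.mk0 _ hw, fun x => ?_⟩
  change A x = A 1 * ((A 1)⁻¹ * A x)
  rw [mul_inv_cancel_left₀ hw]

/-- a subspace stable under a generator -/
theorem aeval_mem {W : Submodule K L} {u : L} (h : ∀ z ∈ W, u * z ∈ W) (P : Polynomial K) (z : L) (hz : z ∈ W) :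
    Polynomial.aeval u P * z ∈ W := by
  have hk : ∀ k : ℕ, ∀ z ∈ W, u ^ k * z ∈ W := by
    intro k
    induction k with
    | zero => intro z hz; rwa [pow_zero, one_mul]
    | succ k ih => intro z hz; rw [pow_succ, mul_assoc]; exact ih _ (h z hz)
  induction P using Polynomial.induction_on' with
  | add P Q hP hQ => rw [map_add, add_mul]; exact add_mem hP hQ
  | monomial k a =>
    rw [Polynomial.aeval_monomial, mul_assoc, ← Algebra.smul_def]
    exact Submodule.smul_mem _ _ (hk k z hz)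

theorem eq_top_of_stable {W : Submodule K L} {u : L} (hu : Algebra.adjoin K {u} = ⊤) (h : ∀ z ∈ W, u * z ∈ W)
    {z : L} (hz : z ∈ W) (hz0 : z ≠ 0) : W = ⊤ := by
  rw [eq_top_iff]
  intro a _
  obtain ⟨P, hP⟩ := exists_aeval' hu (a * z⁻¹)
  have h5 := aeval_mem h P z hz
  rwa [hP, inv_mul_cancel_right₀ hz0] at h5

end alg

/-- the data -/
structure Dat {K : Type u} [Field K] {V : Type v} [AddCommGroup V] [Module K V] (F : CForm K V) (L : Type) [Field L]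
    [Algebra K L] (Y : Type w) [AddCommGroup Y] [Module K Y] (e : ℕ) where
  finL : Finite L
  finY : FiniteDimensional K Y
  hfr : finrank K L = 2 * e
  hY : finrank K Y < 2 * e
  j : V ≃ₗ[K] L × Y
  δ : L
  hδ : δ ≠ 0
  hBL : ∀ x y : L, F.B (j.symm (x, 0)) (j.symm (y, 0)) = Algebra.trace K L (δ * x * y ^ (Nat.card K ^ e))
  hLY : ∀ (x : L) (y : Y), F.B (j.symm (x, 0)) (j.symm (0, y)) = 0
  hQ : ∀ u : L, u ^ (Nat.card K ^ e + 1) = 1 → ∀ x : L, F.Q (j.symm (u * x, 0)) = F.Q (j.symm (x, 0))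
  anis : ∀ y : Y, F.Sing (j.symm (0, y)) → y = 0

variable {K : Type u} [Field K] {V : Type v} [AddCommGroup V] [Module K V] {F : CForm K V} {L : Type} [Field L]
  [Algebra K L] {Y : Type w} [AddCommGroup Y] [Module K Y] {e : ℕ} (D : Dat F L Y e)

include D in
theorem Dat.fd [Finite K] : FiniteDimensional K L := by
  have := D.finL
  exact Module.Finite.of_finite

include D in
theorem Dat.fdV [Finite K] : FiniteDimensional K V := by
  have := D.fd
  have := D.finY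
  exact Module.Finite.equiv D.j.symm

theorem Dat.symm_eq (x : L) (y : Y) : D.j.symm (x, y) = D.j.symm (x, 0) + D.j.symm (0, y) := by
  rw [← map_add, Prod.mk_add_mk, add_zero, zero_add]

theorem Dat.hYL (x : L) (y : Y) : F.B (D.j.symm (0, y)) (D.j.symm (x, 0)) = 0 := F.B_eq_zero (D.hLY x y)

theorem Dat.B_dec (x x' : L) (y y' : Y) : F.B (D.j.symm (x, y)) (D.j.symm (x', y')) =
    F.B (D.j.symm (x, 0)) (D.j.symm (x', 0)) + F.B (D.j.symm (0, y)) (D.j.symm (0, y')) := by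
  rw [D.symm_eq x y, D.symm_eq x' y', F.B_add_left, F.B_add_right, F.B_add_right, D.hLY, D.hYL, add_zero, zero_add]

theorem Dat.Q_dec (x : L) (y : Y) : F.Q (D.j.symm (x, y)) = F.Q (D.j.symm (x, 0)) + F.Q (D.j.symm (0, y)) := by
  rw [D.symm_eq x y, F.Q_add, D.hLY, F.T_zero, add_zero]

/-- `g` is `(x, y) ↦ (w τ(x), h y)` -/
def Dat.Sem (g : F.iso) (τ : L ≃ₐ[K] L) (w : Lˣ) (h : Y ≃ₗ[K] Y) : Prop :=
  ∀ v : V, D.j ((g : V ≃ₗ[K] V) v) = ((w : L) * τ (D.j v).1, h (D.j v).2)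

theorem Dat.sem_one : D.Sem 1 1 1 1 := by
  intro v
  rw [Units.val_one, one_mul]
  rfl

theorem Dat.sem_mul {g h : F.iso} {τ τ' : L ≃ₐ[K] L} {w w' : Lˣ} {c c' : Y ≃ₗ[K] Y} (h1 : D.Sem g τ w c)
    (h2 : D.Sem h τ' w' c') : D.Sem (g * h) (τ * τ') (w * Units.map (τ : L →* L) w') (c * c') := by
  intro v
  have e1 : D.j (((g * h : F.iso) : V ≃ₗ[K] V) v) = D.j ((g : V ≃ₗ[K] V) ((h : V ≃ₗ[K] V) v)) := rfl
  rw [e1, h1, h2]
  refine Prod.ext ?_ ?_
  · change (w : L) * τ ((w' : L) * τ' (D.j v).1) = ((w : L) * τ (w' : L)) * τ (τ' (D.j v).1)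
    rw [map_mul, mul_assoc]
  · rfl

theorem Dat.sem_inv {g : F.iso} {τ : L ≃ₐ[K] L} {w : Lˣ} {c : Y ≃ₗ[K] Y} (h : D.Sem g τ w c) :
    D.Sem g⁻¹ τ⁻¹ (Units.map ((τ⁻¹ : L ≃ₐ[K] L) : L →* L) w⁻¹) c⁻¹ := by
  intro v
  obtain ⟨u, rfl⟩ : ∃ u, (g : V ≃ₗ[K] V) u = v := (g : V ≃ₗ[K] V).surjective v
  have e1 : ((g⁻¹ : F.iso) : V ≃ₗ[K] V) ((g : V ≃ₗ[K] V) u) = u := (g : V ≃ₗ[K] V).symm_apply_apply u
  rw [e1, h]
  refine Prod.ext ?_ ?_
  · change (D.j u).1 = (τ⁻¹ ((w⁻¹ : Lˣ) : L)) * τ⁻¹ ((w : L) * τ (D.j u).1)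
    rw [← map_mul, ← mul_assoc, ← Units.val_mul, inv_mul_cancel, Units.val_one, one_mul]
    exact (τ.symm_apply_apply _).symm
  · change (D.j u).2 = c⁻¹ (c (D.j u).2)
    exact (c.symm_apply_apply _).symm

/-- the normaliser -/
def Dat.N : Subgroup F.iso where
  carrier := {g | ∃ τ w c, D.Sem g τ w c}
  one_mem' := ⟨_, _, _, D.sem_one⟩
  mul_mem' := by
    rintro a b ⟨τ, w, c, h⟩ ⟨τ', w', c', h'⟩
    exact ⟨_, _, _, D.sem_mul h h'⟩
  inv_mem' := by
    rintro a ⟨τ, w, c, h⟩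
    exact ⟨_, _, _, D.sem_inv h⟩

/-- the group `μ × Iso(Y)` -/
def Dat.T : Subgroup F.iso where
  carrier := {g | ∃ w c, D.Sem g 1 w c}
  one_mem' := ⟨_, _, D.sem_one⟩
  mul_mem' := by
    rintro a b ⟨w, c, h⟩ ⟨w', c', h'⟩
    exact ⟨_, _, D.sem_mul h h'⟩
  inv_mem' := by
    rintro a ⟨w, c, h⟩
    have := D.sem_inv h
    rw [inv_one] at this
    exact ⟨_, _, this⟩

/-- the elements with `w ^ M = 1` -/
def Dat.B (M : ℕ) : Subgroup F.iso where
  carrier := {g | ∃ w c, w ^ M = 1 ∧ D.Sem g 1 w c}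
  one_mem' := ⟨1, 1, one_pow M, D.sem_one⟩
  mul_mem' := by
    rintro a b ⟨w, c, h0, h⟩ ⟨w', c', h0', h'⟩
    refine ⟨w * w', c * c', by rw [mul_pow, h0, h0', one_mul], ?_⟩
    exact D.sem_mul h h'
  inv_mem' := by
    rintro a ⟨w, c, h0, h⟩
    refine ⟨w⁻¹, c⁻¹, by rw [inv_pow, h0, inv_one], ?_⟩
    have := D.sem_inv h
    rw [inv_one] at this
    exact this

theorem Dat.sem_uniq {g : F.iso} {τ τ' : L ≃ₐ[K] L} {w w' : Lˣ} {c c' : Y ≃ₗ[K] Y} (h : D.Sem g τ w c)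
    (h' : D.Sem g τ' w' c') : w = w' ∧ τ = τ' := by
  have h1 : ∀ x : L, (w : L) * τ x = (w' : L) * τ' x := by
    intro x
    have e1 := h (D.j.symm (x, 0))
    have e2 := h' (D.j.symm (x, 0))
    rw [e1] at e2
    have e3 := congrArg Prod.fst e2
    simpa using e3
  have h2 : w = w' := by
    apply Units.ext
    have := h1 1
    rwa [map_one, map_one, mul_one, mul_one] at this
  subst h2
  refine ⟨rfl, AlgEquiv.ext fun x => ?_⟩
  exact mul_left_cancel₀ w.ne_zero (h1 x)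

theorem Dat.sem_symm {g : F.iso} {τ : L ≃ₐ[K] L} {w : Lˣ} {c : Y ≃ₗ[K] Y} (h : D.Sem g τ w c) (x : L) (y : Y) :
    (g : V ≃ₗ[K] V) (D.j.symm (x, y)) = D.j.symm ((w : L) * τ x, c y) := by
  apply D.j.injective
  rw [h, D.j.apply_symm_apply, D.j.apply_symm_apply]

/-- the first eigenvalue -/
theorem Dat.w_pow [Finite K] {g : F.iso} {w : Lˣ} {c : Y ≃ₗ[K] Y} (h : D.Sem g 1 w c) :
    w ^ (Nat.card K ^ e + 1) = 1 := by
  have := D.finL
  have := D.fd
  have h1 : ∀ x : L, Algebra.trace K L (D.δ * ((w : L) * (w : L) ^ (Nat.card K ^ e) - 1) * x) = 0 := by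
    intro x
    have e1 := F.iso_B g (D.j.symm (x, 0)) (D.j.symm (1, 0))
    rw [D.sem_symm h, D.sem_symm h, map_zero, D.hBL, D.hBL] at e1
    change Algebra.trace K L (D.δ * ((w : L) * x) * ((w : L) * 1) ^ (Nat.card K ^ e)) = _ at e1
    have e2 : D.δ * ((w : L) * (w : L) ^ (Nat.card K ^ e) - 1) * x =
        D.δ * ((w : L) * x) * ((w : L) * 1) ^ (Nat.card K ^ e) - D.δ * x * 1 ^ (Nat.card K ^ e) := by
      rw [mul_one, one_pow]
      ring
    rw [e2, map_sub, e1, sub_self]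
  have h3 : D.δ * ((w : L) * (w : L) ^ (Nat.card K ^ e) - 1) = 0 := trace_nondeg (F := K) h1
  have h4 := (mul_eq_zero.1 h3).resolve_left D.hδ
  apply Units.ext
  rw [Units.val_pow_eq_pow_val, Units.val_one, pow_succ']
  exact sub_eq_zero.1 h4

/-- the linear map of `L × Y` of an isometry -/
noncomputable def Dat.ga (g : F.iso) : (L × Y) ≃ₗ[K] (L × Y) :=
  D.j.symm ≪≫ₗ ((g : V ≃ₗ[K] V) ≪≫ₗ D.j)

theorem Dat.ga_apply (g : F.iso) (v : V) : D.ga g (D.j v) = D.j ((g : V ≃ₗ[K] V) v) := by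
  change D.j ((g : V ≃ₗ[K] V) (D.j.symm (D.j v))) = _
  rw [D.j.symm_apply_apply]

theorem Dat.symm_ga (g : F.iso) (x : L × Y) : D.j.symm (D.ga g x) = (g : V ≃ₗ[K] V) (D.j.symm x) := by
  change D.j.symm (D.j ((g : V ≃ₗ[K] V) (D.j.symm x))) = _
  rw [D.j.symm_apply_apply]

theorem Dat.ga_sem {g : F.iso} {τ : L ≃ₐ[K] L} {w : Lˣ} {c : Y ≃ₗ[K] Y} (h : D.Sem g τ w c) (x : L × Y) :
    D.ga g x = ((w : L) * τ x.1, c x.2) := by
  obtain ⟨v, rfl⟩ := D.j.surjective x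
  rw [D.ga_apply, h v]

theorem Dat.ga_mul (g h : F.iso) (x : L × Y) : D.ga (g * h) x = D.ga g (D.ga h x) := by
  obtain ⟨v, rfl⟩ := D.j.surjective x
  rw [D.ga_apply, D.ga_apply, D.ga_apply]
  rfl

/-- the eigenvalues outside `B` generate `L` -/
def Gen (K : Type u) [Field K] (L : Type) [Field L] [Algebra K L] (e M : ℕ) : Prop :=
  ∀ w : Lˣ, w ^ (Nat.card K ^ e + 1) = 1 → w ^ M ≠ 1 → Algebra.adjoin K {(w : L)} = ⊤

variable [Finite K] {M : ℕ} (hgen : Gen K L e M)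

include hgen

theorem Dat.adj {t : F.iso} {u : Lˣ} {c : Y ≃ₗ[K] Y} (h : D.Sem t 1 u c) (hB : t ∉ D.B M) :
    Algebra.adjoin K {(u : L)} = ⊤ :=
  hgen u (D.w_pow h) fun h0 => hB ⟨u, c, h0, h⟩

theorem Dat.fus {t : F.iso} (ht : t ∈ D.T) (htB : t ∉ D.B M) {g : F.iso} (hg : g * t * g⁻¹ ∈ D.T) : g ∈ D.N := by
  have := D.fd
  have := D.finL
  have := D.finY
  obtain ⟨u, c, hu⟩ := ht
  obtain ⟨u', c', hu'⟩ := hg
  have huK := D.adj hgen hu htB
  -- commutation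
  have h1 : ∀ x : L × Y, D.ga g ((u : L) * x.1, c x.2) = ((u' : L) * (D.ga g x).1, c' (D.ga g x).2) := by
    intro x
    have e1 : D.ga (g * t * g⁻¹ * g) x = D.ga (g * t) x := by rw [inv_mul_cancel_right]
    rw [D.ga_mul, D.ga_sem hu', D.ga_mul, D.ga_sem hu] at e1
    exact e1.symm
  -- the parts
  let A : L →ₗ[K] L := LinearMap.fst K L Y ∘ₗ (D.ga g : (L × Y) →ₗ[K] (L × Y)) ∘ₗ LinearMap.inl K L Y
  let Bc : L →ₗ[K] Y := LinearMap.snd K L Y ∘ₗ (D.ga g : (L × Y) →ₗ[K] (L × Y)) ∘ₗ LinearMap.inl K L Y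
  let A' : Y →ₗ[K] L := LinearMap.fst K L Y ∘ₗ (D.ga g : (L × Y) →ₗ[K] (L × Y)) ∘ₗ LinearMap.inr K L Y
  let E : Y →ₗ[K] Y := LinearMap.snd K L Y ∘ₗ (D.ga g : (L × Y) →ₗ[K] (L × Y)) ∘ₗ LinearMap.inr K L Y
  have hAB : ∀ x : L, D.ga g (x, 0) = (A x, Bc x) := fun x => rfl
  have hAE : ∀ y : Y, D.ga g (0, y) = (A' y, E y) := fun y => rfl
  have hL : ∀ x : L, A ((u : L) * x) = u' * A x ∧ Bc ((u : L) * x) = c' (Bc x) := by
    intro x
    have := h1 (x, 0)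
    rw [map_zero, hAB, hAB] at this
    exact ⟨congrArg Prod.fst this, congrArg Prod.snd this⟩
  have hker : LinearMap.ker Bc = ⊤ := by
    have h2 : LinearMap.ker Bc ≠ ⊥ := by
      intro h3
      have h4 := LinearMap.finrank_le_finrank_of_injective (LinearMap.ker_eq_bot.1 h3)
      rw [D.hfr] at h4
      have := D.hY
      omega
    obtain ⟨z, hz, hz0⟩ := (Submodule.ne_bot_iff _).1 h2
    refine eq_top_of_stable huK (fun z hz => ?_) hz hz0
    rw [LinearMap.mem_ker] at hz ⊢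
    rw [(hL z).2, hz, map_zero]
  have hB0 : ∀ x, Bc x = 0 := by
    intro x
    have : x ∈ LinearMap.ker Bc := by rw [hker]; trivial
    exact LinearMap.mem_ker.1 this
  have hAi : Function.Injective A := by
    intro a b hab
    have e1 : D.ga g (a, 0) = D.ga g (b, 0) := by rw [hAB, hAB, hB0, hB0, hab]
    exact congrArg Prod.fst ((D.ga g).injective e1)
  have hAs : Function.Surjective A := (LinearMap.injective_iff_surjective (f := A)).1 hAi
  obtain ⟨τ, w, hτ⟩ := semi_of' huK A (fun x => (hL x).1) hAi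
  have hA0 : ∀ y, A' y = 0 := by
    intro y
    have h2 : ∀ x : L, F.B (D.j.symm (x, 0)) (D.j.symm (A' y, 0)) = 0 := by
      intro x
      obtain ⟨x', rfl⟩ := hAs x
      have e1 : F.B (D.j.symm (D.ga g (x', 0))) (D.j.symm (D.ga g (0, y))) = 0 := by
        rw [D.symm_ga, D.symm_ga, F.iso_B, D.hLY]
      rw [hAB, hB0, hAE, D.B_dec] at e1
      have e2 : F.B (D.j.symm (0, 0)) (D.j.symm (0, E y)) = 0 := by
        have : ((0, 0) : L × Y) = 0 := rfl
        rw [this, map_zero, F.B_zero_left]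
      rwa [e2, add_zero] at e1
    have h3 : D.δ * (A' y) ^ (Nat.card K ^ e) = 0 := trace_nondeg (F := K) fun x => by
      have h4 := h2 x
      rw [D.hBL] at h4
      rw [← h4]
      congr 1
      ring
    exact eq_zero_of_pow_eq_zero ((mul_eq_zero.1 h3).resolve_left D.hδ)
  have hEi : Function.Injective E := by
    intro a b hab
    have e1 : D.ga g (0, a) = D.ga g (0, b) := by rw [hAE, hAE, hA0, hA0, hab]
    exact congrArg Prod.snd ((D.ga g).injective e1)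
  refine ⟨τ, w, LinearEquiv.ofInjectiveEndo E hEi, fun v => ?_⟩
  rw [← D.ga_apply, LinearEquiv.coe_ofInjectiveEndo]
  have e1 : D.j v = ((D.j v).1, 0) + (0, (D.j v).2) := by
    rw [Prod.mk_add_mk, add_zero, zero_add]
  conv_lhs => rw [e1, map_add, hAB, hAE, hB0, hA0, hτ, Prod.mk_add_mk, add_zero, zero_add]

omit [Finite K] hgen

theorem Dat.T_le : D.T ≤ D.N := by
  rintro g ⟨w, c, h⟩
  exact ⟨1, w, c, h⟩

theorem Dat.B_le : D.B M ≤ D.T := by
  rintro g ⟨w, c, -, h⟩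
  exact ⟨_, c, h⟩

/-- the conjugate of an element of `T` -/
theorem Dat.sem_conj {x t : F.iso} {τ : L ≃ₐ[K] L} {w u : Lˣ} {c c' : Y ≃ₗ[K] Y} (h1 : D.Sem x τ w c)
    (h2 : D.Sem t 1 u c') : D.Sem (x * t * x⁻¹) 1 (Units.map (τ : L →* L) u) (c * c' * c⁻¹) := by
  have h := D.sem_mul (D.sem_mul h1 h2) (D.sem_inv h1)
  have e1 : τ * 1 * τ⁻¹ = 1 := by group
  rw [e1] at h
  have e3 : w * Units.map (τ : L →* L) u * Units.map ((τ * 1 : L ≃ₐ[K] L) : L →* L)
      (Units.map ((τ⁻¹ : L ≃ₐ[K] L) : L →* L) w⁻¹) = Units.map (τ : L →* L) u := by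
    have e4 : Units.map ((τ * 1 : L ≃ₐ[K] L) : L →* L) (Units.map ((τ⁻¹ : L ≃ₐ[K] L) : L →* L) w⁻¹) = w⁻¹ := by
      apply Units.ext
      change τ (τ⁻¹ ((w⁻¹ : Lˣ) : L)) = _
      exact τ.apply_symm_apply _
    rw [e4, mul_comm w, mul_inv_cancel_right]
  rw [e3] at h
  exact h

theorem Dat.tor [Finite K] (hgen : Gen K L e M) : TorN D.T D.N (D.B M) where
  le := D.T_le
  norm := by
    rintro x ⟨τ, w, c, h⟩ t ⟨u, c', h'⟩
    exact ⟨_, _, D.sem_conj h h'⟩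
  fus t ht htB g hg := D.fus hgen ht htB hg

/-- elements of `T ∖ B` stabilise no totally singular subspace -/
theorem Dat.not_stab [Finite K] (hgen : Gen K L e M) {W : Submodule K V} (hW : F.TS W) {t : F.iso} (ht : t ∈ D.T)
    (htB : t ∉ D.B M) (hst : ∀ w ∈ W, (t : V ≃ₗ[K] V) w ∈ W) : W = ⊥ := by
  have := D.fd
  have := D.fdV
  have := D.finL
  have := D.finY
  obtain ⟨u, c, hu⟩ := ht
  have huK := D.adj hgen hu htB
  let f : V →ₗ[K] L := LinearMap.fst K L Y ∘ₗ (D.j : V →ₗ[K] L × Y)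
  have hf : ∀ v, f v = (D.j v).1 := fun v => rfl
  have h1 : ∀ z ∈ W.map f, (u : L) * z ∈ W.map f := by
    rintro _ ⟨w, hw, rfl⟩
    refine ⟨_, hst w hw, ?_⟩
    rw [hf, hu w]
    rfl
  have h3 : ∀ w ∈ W, f w = 0 := by
    intro w hw
    by_contra h0
    have h4 : W.map f = ⊤ := eq_top_of_stable huK h1 ⟨w, hw, rfl⟩ h0
    have h5 : finrank K (W.map f) ≤ finrank K W := Submodule.finrank_map_le _ _
    rw [h4, finrank_top, D.hfr] at h5
    have h6 := H749.Two.two_finrank_le hW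
    have h7 := D.j.finrank_eq
    rw [finrank_prod, D.hfr] at h7
    have h8 := D.hY
    omega
  rw [eq_bot_iff]
  intro w hw
  rw [Submodule.mem_bot]
  have h4 : w = D.j.symm (0, (D.j w).2) := by
    apply D.j.injective
    rw [D.j.apply_symm_apply]
    exact Prod.ext (h3 w hw) rfl
  have h5 := D.anis (D.j w).2 (by rw [← h4]; exact hW.sing hw)
  rw [h4, h5]
  exact map_zero D.j.symm

/-- scalars -/
theorem Dat.scal {z : F.iso} {a : Kˣ} (hz : ∀ v, (z : V ≃ₗ[K] V) v = (a : K) • v) (ha : a ^ M = 1) :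
    z ∈ D.T ∧ z ∈ D.B M ∧ ∀ g, z * g = g * z := by
  have h1 : D.Sem z 1 (Units.map (algebraMap K L : K →* L) a) (LinearEquiv.smulOfNeZero K Y (a : K) a.ne_zero) := by
    intro v
    rw [hz, map_smul]
    refine Prod.ext ?_ rfl
    exact Algebra.smul_def _ _
  refine ⟨⟨_, _, h1⟩, ⟨_, _, by rw [← map_pow, ha, map_one], h1⟩, fun g => ?_⟩
  apply Subtype.ext
  ext1 v
  change (z : V ≃ₗ[K] V) ((g : V ≃ₗ[K] V) v) = (g : V ≃ₗ[K] V) ((z : V ≃ₗ[K] V) v)
  rw [hz, hz, map_smul]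

end Cfsg.Agent.R2.DZ.T3.Tor
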