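import Mathlib
import Cfsg.Agent.R2.DZ.T3.TorB

/-!
# S4527, box T3: the characters of `μ_{q^e+1} × Iso(Y)`, and the families of exceptional characters (helper21)
-/

set_option autoImplicit false
set_option linter.unusedSectionVars false
set_option linter.style.haveILetI false

open scoped ComplexConjugate
open Cfsg

namespace Cfsg.Agent.R2.DZ.T3.Tor

open Module Cfsg.Agent.H477.HC Cfsg.Agent.H477.HC.CForm Cfsg.Agent.H749

universe u v w

variable {K : Type u} [Field K] {V : Type v} [AddCommGroup V] [Module K V] {F : CForm K V} {L : Type} [Field L]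
  [Algebra K L] {Y : Type w} [AddCommGroup Y] [Module K Y] {e : ℕ} (D : Dat F L Y e)

/-- the eigenvalue -/
noncomputable def Dat.wH : D.T →* Lˣ where
  toFun t := t.2.choose
  map_one' := by
    obtain ⟨c, hc⟩ := (1 : D.T).2.choose_spec
    exact (D.sem_uniq hc D.sem_one).1
  map_mul' a b := by
    obtain ⟨c, hc⟩ := (a * b).2.choose_spec
    obtain ⟨c1, hc1⟩ := a.2.choose_spec
    obtain ⟨c2, hc2⟩ := b.2.choose_spec
    have h := (D.sem_uniq hc (D.sem_mul hc1 hc2)).1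
    refine h.trans ?_
    apply Units.ext
    rfl

theorem Dat.wH_spec (t : D.T) : ∃ c, D.Sem (t : F.iso) 1 (D.wH t) c := t.2.choose_spec

theorem Dat.wH_eq {t : D.T} {u : Lˣ} {c : Y ≃ₗ[K] Y} (h : D.Sem (t : F.iso) 1 u c) : D.wH t = u := by
  obtain ⟨c', h'⟩ := D.wH_spec t
  exact (D.sem_uniq h' h).1

/-- the character group quotient -/
noncomputable def Dat.pi0 (M : ℕ) : D.T →* Lˣ := (powMonoidHom M).comp D.wH

theorem Dat.pi0_apply (M : ℕ) (t : D.T) : D.pi0 M t = D.wH t ^ M := rfl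

/-- an element of `T` with given eigenvalue -/
theorem Dat.exists_t [Finite K] {u : Lˣ} (hu : u ^ (Nat.card K ^ e + 1) = 1) : ∃ t : D.T, D.wH t = u := by
  have := D.fdV
  have h0 : (u : L) ^ (Nat.card K ^ e + 1) = 1 := by
    have := congrArg (fun x : Lˣ => (x : L)) hu
    simpa using this
  let f : V →ₗ[K] V :=
    (D.j.symm : (L × Y) →ₗ[K] V) ∘ₗ (LinearMap.prodMap (LinearMap.mulLeft K (u : L)) (LinearMap.id)) ∘ₗ
      (D.j : V →ₗ[K] L × Y)
  have hf : ∀ v, f v = D.j.symm ((u : L) * (D.j v).1, (D.j v).2) := fun v => rfl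
  have hv : ∀ v, v = D.j.symm ((D.j v).1, (D.j v).2) := fun v => (D.j.symm_apply_apply v).symm
  obtain ⟨g, hg⟩ := F.exists_iso f (fun x y => by
      rw [hf, hf]
      conv_rhs => rw [hv x, hv y]
      rw [D.B_dec, D.B_dec (D.j x).1, D.hBL, D.hBL]
      congr 2
      have e1 : D.δ * ((u : L) * (D.j x).1) * ((u : L) * (D.j y).1) ^ (Nat.card K ^ e) =
        (u : L) ^ (Nat.card K ^ e + 1) * (D.δ * (D.j x).1 * (D.j y).1 ^ (Nat.card K ^ e)) := by ring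
      rw [e1, h0, one_mul])
    (fun x => by
      rw [hf]
      conv_rhs => rw [hv x]
      rw [D.Q_dec, D.hQ u h0, ← D.Q_dec])
  have hs : D.Sem g 1 u 1 := by
    intro v
    rw [hg, hf, D.j.apply_symm_apply]
    rfl
  exact ⟨⟨g, ⟨u, 1, hs⟩⟩, D.wH_eq hs⟩

include D in
theorem Dat.card_units [Finite K] : Nat.card Lˣ = (Nat.card K ^ e - 1) * (Nat.card K ^ e + 1) := by
  have := D.finL
  have := D.fd
  have hL : Nat.card L = Nat.card K ^ (2 * e) := by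
    have := Module.natCard_eq_pow_finrank (K := K) (V := L)
    rw [this, D.hfr]
  rw [Nat.card_units, hL, mul_comm 2 e, pow_mul]
  have := Nat.sq_sub_sq (Nat.card K ^ e) 1
  rw [one_pow] at this
  rw [this, mul_comm]

variable [Finite K] {M Φ : ℕ}

theorem Dat.card_dvd (hM : Nat.card K ^ e + 1 ∣ M * Φ) : Nat.card (D.pi0 M).range ∣ Φ := by
  have := D.finL
  obtain ⟨g, hg⟩ := IsCyclic.exists_generator (α := (D.pi0 M).range)
  have h1 : orderOf g = Nat.card (D.pi0 M).range := orderOf_eq_card_of_forall_mem_zpowers hg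
  rw [← h1]
  apply orderOf_dvd_of_pow_eq_one
  obtain ⟨t, ht⟩ := g.2
  apply Subtype.ext
  rw [SubmonoidClass.coe_pow, ← ht, D.pi0_apply, ← pow_mul]
  obtain ⟨c, hc⟩ := D.wH_spec t
  obtain ⟨r, hr⟩ := hM
  rw [hr, pow_mul, D.w_pow hc, one_pow]
  rfl

theorem Dat.le_card {c₀ : ℕ} (hc : Nat.card K ^ e + 1 = c₀ * Nat.gcd (Nat.card K ^ e + 1) M) (he : e ≠ 0) :
    c₀ ≤ Nat.card (D.pi0 M).range := by
  have := D.finL
  obtain ⟨g, hg⟩ := IsCyclic.exists_generator (α := Lˣ)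
  have h1 : orderOf g = (Nat.card K ^ e - 1) * (Nat.card K ^ e + 1) := by
    rw [orderOf_eq_card_of_forall_mem_zpowers hg, D.card_units]
  have hq1 : 1 < Nat.card K := Finite.one_lt_card
  have hqm : 0 < Nat.card K ^ e - 1 := by
    have := Nat.one_lt_pow he hq1
    omega
  obtain ⟨t, ht⟩ := D.exists_t (u := g ^ (Nat.card K ^ e - 1)) (by rw [← pow_mul, ← h1, pow_orderOf_eq_one])
  have h2 : orderOf (g ^ (Nat.card K ^ e - 1)) = Nat.card K ^ e + 1 := by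
    rw [orderOf_pow_of_dvd hqm.ne' (by rw [h1]; exact Dvd.intro _ rfl), h1, Nat.mul_div_cancel_left _ hqm]
  have h3 : orderOf (D.pi0 M t) = c₀ := by
    rw [D.pi0_apply, ht, orderOf_pow, h2]
    exact Nat.div_eq_of_eq_mul_left (Nat.gcd_pos_of_pos_left _ (Nat.succ_pos _)) hc
  have h4 : orderOf (⟨D.pi0 M t, ⟨t, rfl⟩⟩ : (D.pi0 M).range) = c₀ := by
    rw [← h3]
    exact Subgroup.orderOf_mk _ _
  rw [← h4]
  exact Nat.le_of_dvd Nat.card_pos (orderOf_dvd_natCard _)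

theorem Dat.hB_one (t : D.T) (ht : (t : F.iso) ∈ D.B M) : D.pi0 M t = 1 := by
  obtain ⟨w, c, h0, h⟩ := ht
  rw [D.pi0_apply, D.wH_eq h, h0]

theorem Dat.act (hgen : Gen K L e M) (hg : ∀ i, 0 < i → i < 2 * e → Nat.gcd (Nat.card K ^ i - 1) Φ ∣ 2 * e)
    (hM : Nat.card K ^ e + 1 ∣ M * Φ) (x : D.N) (hx : (x : F.iso) ∉ D.T) :
    ∃ r : ℕ, (∀ t : D.T, (D.pi0 M).rangeRestrict ⟨(x : F.iso)⁻¹ * t * x, (D.tor hgen).norm' x.2 t.2⟩ =
      (D.pi0 M).rangeRestrict t ^ r) ∧ 1 ≤ r ∧ Nat.gcd (r - 1) (Nat.card (D.pi0 M).range) ∣ 2 * e := by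
  have := D.finL
  have := D.fd
  have := Fintype.ofFinite K
  obtain ⟨τ, w, c, h⟩ := x.2
  have hτ : τ ≠ 1 := by
    rintro rfl
    exact hx ⟨w, c, h⟩
  obtain ⟨i, hi⟩ := (FiniteField.bijective_frobeniusAlgEquivOfAlgebraic_pow K L).2 τ⁻¹
  have hi0 : (i : ℕ) ≠ 0 := by
    intro h0
    simp only [h0, pow_zero] at hi
    exact hτ (inv_eq_one.1 hi.symm)
  have him : (i : ℕ) < 2 * e := lt_of_lt_of_eq i.2 D.hfr
  have hτa : ∀ a : L, τ⁻¹ a = a ^ (Nat.card K) ^ (i : ℕ) := by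
    intro a
    rw [← hi, Nat.card_eq_fintype_card, AlgEquiv.coe_pow, FiniteField.coe_frobeniusAlgEquivOfAlgebraic_iterate]
  refine ⟨(Nat.card K) ^ (i : ℕ), fun t => ?_, Nat.one_le_pow _ _ Nat.card_pos, ?_⟩
  · obtain ⟨c', hc'⟩ := D.wH_spec t
    have h1 := D.sem_conj (D.sem_inv h) hc'
    rw [inv_inv] at h1
    have h2 : D.wH ⟨(x : F.iso)⁻¹ * t * x, (D.tor hgen).norm' x.2 t.2⟩ =
        Units.map ((τ⁻¹ : L ≃ₐ[K] L) : L →* L) (D.wH t) := D.wH_eq h1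
    have h3 : Units.map ((τ⁻¹ : L ≃ₐ[K] L) : L →* L) (D.wH t) = D.wH t ^ (Nat.card K) ^ (i : ℕ) := by
      apply Units.ext
      change τ⁻¹ ((D.wH t : Lˣ) : L) = _
      rw [hτa, Units.val_pow_eq_pow_val]
    apply Subtype.ext
    change D.pi0 M _ = D.pi0 M t ^ _
    rw [D.pi0_apply, D.pi0_apply, h2, h3, ← pow_mul, ← pow_mul, mul_comm]
  · exact (Nat.gcd_dvd_gcd_of_dvd_right _ (D.card_dvd hM)).trans (hg i (Nat.pos_of_ne_zero hi0) him)

/-- the family of exceptional characters -/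
theorem Dat.family (he : e ≠ 0) (hgen : Gen K L e M)
    (hg : ∀ i, 0 < i → i < 2 * e → Nat.gcd (Nat.card K ^ i - 1) Φ ∣ 2 * e) (hM : Nat.card K ^ e + 1 ∣ M * Φ)
    {c₀ : ℕ} (hc : Nat.card K ^ e + 1 = c₀ * Nat.gcd (Nat.card K ^ e + 1) M) :
    ∃ (k : ℕ) (μ : Fin k → F.iso → ℂ), c₀ ≤ 2 * e * k + 2 * e ∧ (∀ i, IsIrrCharacter F.iso (μ i)) ∧
      Function.Injective μ ∧ (∀ i j g, (∀ x : F.iso, x * g * x⁻¹ ∈ D.T → x * g * x⁻¹ ∈ D.B M) → μ i g = μ j g) ∧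
      (2 ≤ k → ∀ z ∈ D.T, z ∈ D.B M → (∀ g, z * g = g * z) → ∀ i, μ i z = μ i 1) := by
  classical
  have := D.finL
  have := D.fd
  have := D.fdV
  have : Finite V := Module.finite_of_finite K
  have : Finite F.iso := finite_iso F
  have := Fintype.ofFinite F.iso
  have hfin : Finite (L ≃ₐ[K] L) := inferInstance
  have := Fintype.ofFinite (L ≃ₐ[K] L)
  have := Fintype.ofFinite K
  have hκ : Fintype.card (L ≃ₐ[K] L) = 2 * e := by
    rw [← D.hfr, ← Fintype.card_of_bijective (FiniteField.bijective_frobeniusAlgEquivOfAlgebraic_pow K L),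
      Fintype.card_fin]
  obtain ⟨k, μ, h1, h2, h3, h4, h5⟩ := exists_family (D.tor hgen) (D.pi0 M).rangeRestrict
    (D.pi0 M).rangeRestrict_surjective
    (fun t ht => Subtype.ext (D.hB_one t ht)) (by omega) (fun x hx => D.act hgen hg hM x hx) (κ := L ≃ₐ[K] L)
    (fun x => x.2.choose) (fun x y hxy => by
      obtain ⟨w, c, h⟩ := x.2.choose_spec
      obtain ⟨w', c', h'⟩ := y.2.choose_spec
      have h6 := D.sem_mul (D.sem_inv h) h'
      have h7 : (x.2.choose)⁻¹ * y.2.choose = 1 := by rw [hxy, inv_mul_cancel]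
      rw [h7] at h6
      exact ⟨_, _, h6⟩)
  rw [hκ] at h1
  exact ⟨k, μ, (D.le_card hc he).trans h1, h2, h3, h4, h5⟩

open Cfsg.Agent.H113.Cusp.Tool Cfsg.Agent.H113.Cusp.Flag Cfsg.Agent.H113.Two.HcOne Cfsg.Agent.H113.Cusp.Asm in
/-- the characters of the family agree on the stabilisers of the totally singular subspaces -/
theorem Dat.agree (hgen : Gen K L e M) {ι : Type*} {μ : ι → F.iso → ℂ}
    (h : ∀ i j g, (∀ x : F.iso, x * g * x⁻¹ ∈ D.T → x * g * x⁻¹ ∈ D.B M) → μ i g = μ j g)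
    (W : Submodule K V) (hW0 : W ≠ ⊥) (hW : F.TS W) (g : F.iso) (hg : g ∈ St F W) (i j : ι) : μ i g = μ j g := by
  have := D.fdV
  refine h i j g fun x hx => ?_
  by_contra hxB
  apply hW0
  have h1 : im x W = ⊥ := by
    refine D.not_stab hgen (hW.map x) hx hxB ?_
    rintro _ ⟨w, hw, rfl⟩
    refine ⟨(g : V ≃ₗ[K] V) w, mem_St.1 hg w hw, ?_⟩
    change (x : V ≃ₗ[K] V) ((g : V ≃ₗ[K] V) w) =
      (x : V ≃ₗ[K] V) ((g : V ≃ₗ[K] V) (((x⁻¹ : F.iso) : V ≃ₗ[K] V) ((x : V ≃ₗ[K] V) w)))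
    have h2 : ((x⁻¹ : F.iso) : V ≃ₗ[K] V) ((x : V ≃ₗ[K] V) w) = w := (x : V ≃ₗ[K] V).symm_apply_apply w
    rw [h2]
  rw [Submodule.eq_bot_iff] at h1 ⊢
  intro w hw
  have h2 := h1 _ ⟨w, hw, rfl⟩
  have h3 : (x : V ≃ₗ[K] V) w = 0 := h2
  rwa [LinearEquiv.map_eq_zero_iff] at h3

end Cfsg.Agent.R2.DZ.T3.Tor
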