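import Mathlib
import Cfsg.Agent.R2.DZ.T3.TorC
import Cfsg.Agent.H365.Zsig

/-!
# S4527, box T3: cyclotomic arithmetic for the groups `μ_{q^e+1}` (helper21)
-/

set_option autoImplicit false
set_option linter.unusedSectionVars false
set_option linter.style.haveILetI false

open scoped ComplexConjugate
open Cfsg

namespace Cfsg.Agent.R2.DZ.T3.Tor

open Module Polynomial Cfsg.Agent.H365.Zsig

universe u v w

theorem Ph_step {n d q : ℕ} (hd : d ∣ n) (hdn : d < n) (hq : 1 ≤ q) : (q ^ d - 1) * Ph n q ∣ q ^ n - 1 := by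
  have h := X_pow_sub_one_mul_cyclotomic_dvd_X_pow_sub_one_of_dvd ℤ (Nat.mem_properDivisors.2 ⟨hd, hdn⟩)
  have h' := eval_dvd (x := (q : ℤ)) h
  rw [eval_mul, Ph_cast hq] at h'
  have h1 : ∀ i : ℕ, (X ^ i - 1 : ℤ[X]).eval (q : ℤ) = ((q ^ i - 1 : ℕ) : ℤ) := by
    intro i
    rw [Nat.cast_sub (Nat.one_le_pow _ _ hq)]; simp
  rw [h1, h1] at h'
  exact_mod_cast h'

theorem sq_sub' (q e : ℕ) : q ^ (2 * e) - 1 = (q ^ e - 1) * (q ^ e + 1) := by
  have h := Nat.sq_sub_sq (q ^ e) 1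
  rw [one_pow, ← pow_mul, mul_comm e 2] at h
  rw [h, mul_comm]

theorem Ph_dvd_add {e q : ℕ} (he : e ≠ 0) (hq : 2 ≤ q) : Ph (2 * e) q ∣ q ^ e + 1 := by
  have h := Ph_step (n := 2 * e) (d := e) (q := q) (Dvd.intro_left _ rfl) (by omega) (by omega)
  rw [sq_sub'] at h
  have h1 := Nat.one_lt_pow he (show 1 < q by omega)
  exact Nat.dvd_of_mul_dvd_mul_left (by omega) h

theorem gcd_Ph {n i q : ℕ} (hi : 0 < i) (hin : i < n) (hq : 2 ≤ q) : Nat.gcd (q ^ i - 1) (Ph n q) ∣ n := by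
  obtain ⟨g, hg⟩ : ∃ g, g = Nat.gcd (q ^ i - 1) (Ph n q) := ⟨_, rfl⟩
  rw [← hg]
  have hg1 : g ∣ q ^ i - 1 := hg ▸ Nat.gcd_dvd_left _ _
  have hg2 : g ∣ Ph n q := hg ▸ Nat.gcd_dvd_right _ _
  have hg3 : g ∣ q ^ (Nat.gcd i n) - 1 := by
    rw [← Nat.pow_sub_one_gcd_pow_sub_one]
    exact Nat.dvd_gcd hg1 (hg2.trans (Ph_dvd (by omega) (by omega)))
  obtain ⟨d, hd⟩ : ∃ d, d = Nat.gcd i n := ⟨_, rfl⟩
  rw [← hd] at hg3
  have hdn : d ∣ n := hd ▸ Nat.gcd_dvd_right _ _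
  have hd0 : 0 < d := hd ▸ Nat.gcd_pos_of_pos_left _ hi
  have hdi : d ≤ i := hd ▸ Nat.gcd_le_left _ hi
  have h1 := Ph_step hdn (by omega) (show 1 ≤ q by omega)
  obtain ⟨s, hs⟩ := hdn
  -- the sum
  have h2 : q ^ n - 1 = (q ^ d - 1) * ∑ j ∈ Finset.range s, (q ^ d) ^ j := by
    rw [hs, pow_mul, mul_comm]
    exact (Nat.geomSum_eq (m := q ^ d) (by
      have := Nat.one_lt_pow hd0.ne' (show 1 < q by omega)
      omega) s ▸ by
        have h3 : (q ^ d - 1) ∣ (q ^ d) ^ s - 1 := by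
          have := Nat.sub_dvd_pow_sub_pow (q ^ d) 1 s
          rwa [one_pow] at this
        rw [Nat.div_mul_cancel h3])
  rw [h2] at h1
  have h3 : 0 < q ^ d - 1 := by
    have := Nat.one_lt_pow hd0.ne' (show 1 < q by omega)
    omega
  have h4 : g ∣ ∑ j ∈ Finset.range s, (q ^ d) ^ j := hg2.trans (Nat.dvd_of_mul_dvd_mul_left h3 h1)
  have h5 : ∑ j ∈ Finset.range s, (q ^ d) ^ j ≡ s [MOD g] := by
    have h6 : ∀ j ∈ Finset.range s, (q ^ d) ^ j ≡ 1 [MOD g] := by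
      intro j _
      have h7 : q ^ d ≡ 1 [MOD g] := by
        apply Nat.ModEq.symm
        exact (Nat.modEq_iff_dvd' (Nat.one_le_pow _ _ (by omega))).2 hg3
      simpa using h7.pow j
    have h8 := Nat.ModEq.sum h6
    simpa using h8
  have h6 : g ∣ s := (Nat.modEq_zero_iff_dvd.1 ((h5.symm).trans ((Nat.modEq_zero_iff_dvd).2 h4)))
  exact h6.trans (hs ▸ Dvd.intro_left _ rfl)

/-- the exponent of the irregular elements -/
noncomputable def RR (q e : ℕ) : ℕ := (q ^ e + 1) / Ph (2 * e) q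

theorem Ph_mul_RR {q e : ℕ} (he : e ≠ 0) (hq : 2 ≤ q) : Ph (2 * e) q * RR q e = q ^ e + 1 :=
  Nat.mul_div_cancel' (Ph_dvd_add he hq)

theorem gen_of {K : Type u} [Field K] [Finite K] {L : Type} [Field L] [Algebra K L] [Finite L] {e : ℕ}
    (hfr : finrank K L = 2 * e) (he : e ≠ 0) : Gen K L e (2 * RR (Nat.card K) e) := by
  intro w hw hw2
  by_contra hne
  have : FiniteDimensional K L := Module.Finite.of_finite
  have hq : 2 ≤ Nat.card K := Finite.one_lt_card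
  obtain ⟨q, hqq⟩ : ∃ q, q = Nat.card K := ⟨_, rfl⟩
  let S := IntermediateField.adjoin K {(w : L)}
  have hS : S.toSubalgebra = Algebra.adjoin K {(w : L)} :=
    IntermediateField.adjoin_simple_toSubalgebra_of_isAlgebraic (Algebra.IsAlgebraic.isAlgebraic (w : L))
  have hS1 : S ≠ ⊤ := by
    intro h
    apply hne
    rw [← hS, h]
    rfl
  have hmul : finrank K S * finrank S L = 2 * e := by rw [← hfr]; exact Module.finrank_mul_finrank K S L
  have hlt : finrank K S < 2 * e := by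
    have h1 : finrank K S ≤ 2 * e := Nat.le_of_dvd (by omega) (Dvd.intro _ hmul)
    refine lt_of_le_of_ne h1 fun h2 => hS1 ?_
    exact IntermediateField.eq_of_le_of_finrank_eq le_top (by rw [h2, IntermediateField.finrank_top', hfr])
  have hS0 : 0 < finrank K S := Module.finrank_pos
  have hcard : Nat.card S = q ^ finrank K S := by
    rw [hqq]
    exact Module.natCard_eq_pow_finrank
  have hwS : (w : L) ∈ S := IntermediateField.mem_adjoin_simple_self K (w : L)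
  have h1 : w ^ (q ^ finrank K S - 1) = 1 := by
    have h2 : (⟨(w : L), hwS⟩ : S) ≠ 0 := by
      intro h
      exact w.ne_zero (congrArg Subtype.val h)
    have : Fintype S := Fintype.ofFinite S
    have h3 := FiniteField.pow_card_sub_one_eq_one (⟨(w : L), hwS⟩ : S) h2
    rw [← Nat.card_eq_fintype_card, hcard] at h3
    apply Units.ext
    have h4 := congrArg Subtype.val h3
    rw [Units.val_pow_eq_pow_val]
    simpa using h4
  rw [← hqq] at hw hw2 hq
  have hPR := Ph_mul_RR he hq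
  have h2 : q ^ finrank K S - 1 ∣ (q ^ e - 1) * RR q e := by
    have h3 := Ph_step (n := 2 * e) (Dvd.intro _ hmul) hlt (show 1 ≤ q by omega)
    rw [sq_sub', ← hPR] at h3
    have h4 : (q ^ e - 1) * (Ph (2 * e) q * RR q e) = (q ^ e - 1) * RR q e * Ph (2 * e) q := by ring
    rw [h4] at h3
    have h5 : 1 < Ph (2 * e) q := Ph_gt_one (by omega) hq
    exact Nat.dvd_of_mul_dvd_mul_right (by omega) h3
  have h3 : w ^ ((q ^ e - 1) * RR q e) = 1 := by
    obtain ⟨r, hr⟩ := h2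
    rw [hr, pow_mul, h1, one_pow]
  have h4 : w ^ ((q ^ e + 1) * RR q e) = 1 := by rw [pow_mul, hw, one_pow]
  apply hw2
  have h5 : (q ^ e + 1) * RR q e = (q ^ e - 1) * RR q e + 2 * RR q e := by
    have h6 : q ^ e + 1 = (q ^ e - 1) + 2 := by
      have := Nat.one_le_pow e q (by omega)
      omega
    rw [h6, add_mul]
  rw [h5, pow_add, h3, one_mul] at h4
  exact h4

theorem card_eq {q e : ℕ} (he : e ≠ 0) (hq : 2 ≤ q) :
    q ^ e + 1 = (Ph (2 * e) q / Nat.gcd (Ph (2 * e) q) 2) * Nat.gcd (q ^ e + 1) (2 * RR q e) := by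
  have h1 := Ph_mul_RR he hq
  rw [← h1, Nat.gcd_mul_right, ← mul_assoc, Nat.div_mul_cancel (Nat.gcd_dvd_left _ _)]

theorem dvd_mul_Ph {q e : ℕ} (he : e ≠ 0) (hq : 2 ≤ q) : q ^ e + 1 ∣ 2 * RR q e * Ph (2 * e) q := by
  rw [← Ph_mul_RR he hq]
  exact ⟨2, by ring⟩

/-! ### the bound -/

theorem seven : ∀ x : ℕ, 4 ≤ x → 4 * (x ^ 2) ^ 2 + 6 * x ^ 2 < 7 ^ x := by
  intro x hx
  induction x, hx using Nat.le_induction with
  | base => norm_num
  | succ x hx ih =>
    have h1 : 4 * ((x + 1) ^ 2) ^ 2 + 6 * (x + 1) ^ 2 ≤ 7 * (4 * (x ^ 2) ^ 2 + 6 * x ^ 2) := by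
      obtain ⟨y, rfl⟩ := Nat.exists_eq_add_of_le hx
      nlinarith [sq_nonneg y, sq_nonneg (y ^ 2), Nat.zero_le (y ^ 3)]
    rw [pow_succ 7 x]
    omega

theorem ten : ∀ x : ℕ, 2 ≤ x → 2 * 7 ^ x ≤ 10 ^ x := by
  intro x hx
  induction x, hx using Nat.le_induction with
  | base => norm_num
  | succ x hx ih =>
    rw [pow_succ, pow_succ]
    omega

theorem totient_ge {e : ℕ} (he : 4 ≤ e) : 4 ≤ (2 * e).totient := by
  by_contra h
  have h1 := le_two_mul_totient_sq (m := 2 * e) (by omega)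
  have h2 : (2 * e).totient ^ 2 ≤ 3 ^ 2 := Nat.pow_le_pow_left (by omega) 2
  have h3 : e ≤ 9 := by omega
  apply h
  interval_cases e <;> decide

theorem big {q e : ℕ} (he : 2 ≤ e) (hq : (Even q ∧ 8 ≤ q) ∨ 11 ≤ q) :
    4 * e ^ 2 + 6 * e < Ph (2 * e) q / Nat.gcd (Ph (2 * e) q) 2 := by
  have hq2 : 2 ≤ q := by omega
  have hev : Even q → Nat.gcd (Ph (2 * e) q) 2 = 1 := by
    intro h
    have h1 : Odd (q ^ e + 1) := (h.pow_of_ne_zero (by omega)).add_one
    exact Nat.Coprime.coprime_dvd_left (Ph_dvd_add (by omega) hq2) h1.coprime_two_right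
  have hle : Nat.gcd (Ph (2 * e) q) 2 ≤ 2 := Nat.gcd_le_right _ (by norm_num)
  have hpos : 0 < Nat.gcd (Ph (2 * e) q) 2 := Nat.gcd_pos_of_pos_right _ (by norm_num)
  have hdv := Nat.div_mul_cancel (Nat.gcd_dvd_left (Ph (2 * e) q) 2)
  obtain ⟨c, hc⟩ : ∃ c, c = Ph (2 * e) q / Nat.gcd (Ph (2 * e) q) 2 := ⟨_, rfl⟩
  obtain ⟨g, hg⟩ : ∃ g, g = Nat.gcd (Ph (2 * e) q) 2 := ⟨_, rfl⟩
  rw [← hc]
  rw [← hc, ← hg] at hdv
  rw [← hg] at hev hle hpos
  have h2c : Ph (2 * e) q ≤ 2 * c := by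
    rw [← hdv]; nlinarith
  rcases Nat.lt_or_ge e 4 with h4 | h4
  · obtain rfl | rfl : e = 2 ∨ e = 3 := by omega
    · have h1 : Ph (2 * 2) q = q ^ 2 + 1 := by
        have := Ph_two (q := q) (k := 1) hq2
        norm_num at this ⊢
        exact this
      rw [h1] at hdv h2c
      rcases hq with ⟨h2, h3⟩ | h3
      · rw [hev h2] at hdv
        nlinarith
      · nlinarith
    · have h1 : Ph (2 * 3) q + q = q ^ 2 + 1 := by
        have := Ph_three (q := q) (k := 0) (a := 0) hq2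
        norm_num at this ⊢
        exact this
      have h2 : g = 1 := by
        rw [hg]
        have h3 : Odd (Ph (2 * 3) q) := by
          have h4 : Odd (Ph (2 * 3) q + 2 * q) := by
            have h5 : Ph (2 * 3) q + 2 * q = q * (q + 1) + 1 := by nlinarith
            rw [h5]
            exact (Nat.even_mul_succ_self q).add_one
          rcases Nat.even_or_odd (Ph (2 * 3) q) with h6 | h6
          · exact absurd (h6.add (even_two_mul q)) (Nat.not_even_iff_odd.2 h4)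
          · exact h6
        exact h3.coprime_two_right
      rw [h2, mul_one] at hdv
      rw [← hdv] at h1
      have h8 : 8 ≤ q := by omega
      nlinarith
  · have h1 := totient_ge h4
    have h2 := Ph_lower (b := q) (m := 2 * e) hq2
    have h3 := le_two_mul_totient_sq (m := 2 * e) (by omega)
    obtain ⟨x, hx⟩ : ∃ x, x = (2 * e).totient := ⟨_, rfl⟩
    rw [← hx] at h1 h2 h3
    have h5 : e ≤ x ^ 2 := by omega
    have h6 : 4 * e ^ 2 + 6 * e ≤ 4 * (x ^ 2) ^ 2 + 6 * x ^ 2 := by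
      have := Nat.pow_le_pow_left h5 2
      omega
    have h7 := seven x h1
    rcases hq with ⟨h8, h9⟩ | h9
    · rw [hev h8, mul_one] at hdv
      have h10 : 7 ^ x ≤ (q - 1) ^ x := Nat.pow_le_pow_left (by omega) x
      omega
    · have h10 : 10 ^ x ≤ (q - 1) ^ x := Nat.pow_le_pow_left (by omega) x
      have h11 := ten x (by omega)
      omega

end Cfsg.Agent.R2.DZ.T3.Tor
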