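import Mathlib
import Cfsg.Agent.R2.DZ.T3.TorD

/-!
# S4527, box T3: a character of `p`-defect zero, odd `p ∣ q - 1`, from a subgroup `μ_{q^e+1} × Iso(Y)` (helper21)
-/

set_option autoImplicit false
set_option linter.unusedSectionVars false
set_option linter.style.haveILetI false

open scoped ComplexConjugate
open Cfsg

namespace Cfsg.Agent.R2.DZ.T3.Tor

open Module Cfsg.Agent.H477.HC Cfsg.Agent.H477.HC.CForm Cfsg.Agent.H749 Cfsg.Agent.H749.Two

universe u v w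

/-- the characteristic does not divide `q - 1` -/
theorem cast_ne_of_dvd {K : Type u} [Field K] [Finite K] {p : ℕ} (hp : p.Prime) (hpq : p ∣ Nat.card K - 1) :
    (p : K) ≠ 0 := by
  intro h
  obtain ⟨r, hr⟩ := CharP.exists K
  have hrp : r.Prime := (CharP.char_is_prime_or_zero K r).resolve_right (CharP.char_ne_zero_of_finite K r)
  have h2 : r ∣ p := (CharP.cast_eq_zero_iff K r p).1 h
  have h3 : r = p := (Nat.prime_dvd_prime_iff_eq hrp hp).1 h2
  subst h3
  have : Fact r.Prime := ⟨hrp⟩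
  have := Fintype.ofFinite K
  obtain ⟨n, -, hn⟩ := FiniteField.card K r
  have h1 : r ∣ Nat.card K := by
    rw [Nat.card_eq_fintype_card, hn]
    exact dvd_pow_self r n.ne_zero
  have h4 : 0 < Nat.card K := Nat.card_pos
  have h5 : r ∣ 1 := by
    have := Nat.dvd_sub h1 hpq
    rwa [Nat.sub_sub_self (by omega)] at this
  exact hrp.one_lt.ne' (Nat.dvd_one.1 h5)

theorem roots_of_dvd {K : Type u} [Field K] [Finite K] {p : ℕ} (hp : p.Prime) (hpq : p ∣ Nat.card K - 1) :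
    ∃ ζ : K, IsPrimitiveRoot ζ p := by
  have : Fact p.Prime := ⟨hp⟩
  obtain ⟨ζ, hζ⟩ := exists_prime_orderOf_dvd_card' (G := Kˣ) p (by rw [Nat.card_units]; exact hpq)
  have h1 := IsPrimitiveRoot.orderOf ζ
  rw [hζ] at h1
  exact ⟨ζ, h1.map_of_injective Units.val_injective (f := Units.coeHom K)⟩

section

variable {K : Type u} [Field K] [Finite K] {V : ℕ → Type v} [∀ n, AddCommGroup (V n)] [∀ n, Module K (V n)]
  [∀ n, Finite (V n)] [∀ n, FiniteDimensional K (V n)] {F : ∀ n, CForm K (V n)} {L : Type} [Field L] [Algebra K L]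
  {Y : Type w} [AddCommGroup Y] [Module K Y] {e : ℕ}

/-- **characters of `p`-defect zero** -/
theorem Dat.dz
    (hcmp : ∀ k n, ∃ (j : V n →ₗ[K] V (k + n)) (W₀ : Submodule K (V (k + n))), W₀ ∈ (F (k + n)).Om k ∧
      Cmp (F (k + n)) (F n) j W₀)
    (hwitt : ∀ n (W : Submodule K (V n)), (F n).TS W → finrank K W ≤ n) (n : ℕ) (D : Dat (F n) L Y e)
    (he : 2 ≤ e) (hn : n ≤ e + 1) (hq : (Even (Nat.card K) ∧ 8 ≤ Nat.card K) ∨ 11 ≤ Nat.card K)
    {p : ℕ} (hp : p.Prime) (hp2 : p ≠ 2) (hpq : p ∣ Nat.card K - 1) (hσ : ∀ a, (F n).σ a = a) :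
    ∃ χ : (F n).iso → ℂ, IsIrrCharacter (F n).iso χ ∧
      (charDegree χ).factorization p = (Nat.card (F n).iso).factorization p ∧
      ∀ (z : (F n).iso) (a : Kˣ), a ^ 2 = 1 → (∀ v, (z : V n ≃ₗ[K] V n) v = (a : K) • v) → χ z = χ 1 := by
  have : Fact p.Prime := ⟨hp⟩
  have := D.finL
  have hq2 : 2 ≤ Nat.card K := Finite.one_lt_card
  have he0 : e ≠ 0 := by omega
  have hgen : Gen K L e (2 * RR (Nat.card K) e) := gen_of D.hfr he0
  obtain ⟨k, μ, hk, hirr, hinj, hres, hcen⟩ := D.family he0 hgen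
    (fun i hi hi2 => gcd_Ph hi hi2 hq2) (dvd_mul_Ph he0 hq2) (card_eq he0 hq2)
  have hbig := big he hq
  have hk2 : 2 * (e + 1) < k := by
    by_contra h
    have h1 : 2 * e * k ≤ 2 * e * (2 * (e + 1)) := Nat.mul_le_mul_left _ (by omega)
    have h2 : 2 * e * (2 * (e + 1)) = 4 * e ^ 2 + 4 * e := by ring
    omega
  have hdz := Mac.dz_tower hcmp hwitt n hp2 (cast_ne_of_dvd hp hpq) (roots_of_dvd hp hpq) (fun a _ => hσ a) hirr hinj
    (fun W hW0 hW g hg i j => D.agree hgen hres W hW0 hW g hg i j) (by rw [Fintype.card_fin]; omega)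
  refine ⟨μ ⟨0, by omega⟩, hirr _, hdz _, fun z a ha hz => ?_⟩
  obtain ⟨h1, h2, h3⟩ := D.scal (M := 2 * RR (Nat.card K) e) hz (by rw [pow_mul, ha, one_pow])
  exact hcen (by omega) z h1 h2 h3 _

end

end Cfsg.Agent.R2.DZ.T3.Tor
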