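import Mathlib
import Cfsg.Agent.R2.DZ.T3.TorE
import Cfsg.Agent.H193.QuadEmb
import Cfsg.Agent.H193.OrthCount
import Cfsg.Agent.H749.QuadSplit
import Cfsg.Agent.S0752

/-!
# S4527, box T3: the forms `Tr(x x̄)` on extensions of degree `2 e`, and the data for the standard forms (helper21)
-/

set_option autoImplicit false
set_option linter.unusedSectionVars false
set_option linter.style.haveILetI false

open scoped ComplexConjugate
open Cfsg

namespace Cfsg.Agent.R2.DZ.T3.Tor

open Module Cfsg.Agent.H477.HC Cfsg.Agent.H477.HC.CForm Cfsg.Agent.H749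
open QuadraticMap Cfsg.Agent.LieClassical.OrthCore Cfsg.Agent.LieClassical.OrthTrans Cfsg.Agent.GenOrth

universe u v w

section field

variable {K : Type u} [Field K] [Finite K] {L : Type} [Field L] [Algebra K L] [Finite L] {e : ℕ}

/-- the automorphism `x ↦ x ^ (q ^ e)` -/
theorem exists_bar (K : Type u) [Field K] [Finite K] (L : Type) [Field L] [Algebra K L] [Finite L] (e : ℕ) :
    ∃ β : L ≃ₐ[K] L, ∀ x, β x = x ^ (Nat.card K ^ e) := by
  have := Fintype.ofFinite K
  refine ⟨FiniteField.frobeniusAlgEquivOfAlgebraic K L ^ e, fun x => ?_⟩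
  rw [Nat.card_eq_fintype_card, AlgEquiv.coe_pow, FiniteField.coe_frobeniusAlgEquivOfAlgebraic_iterate]

variable (hfr : finrank K L = 2 * e)

include hfr

theorem card_L : Nat.card L = (Nat.card K ^ e) ^ 2 := by
  have : Module.Finite K L := Module.Finite.of_finite
  rw [Module.natCard_eq_pow_finrank (K := K) (V := L), hfr, ← pow_mul, mul_comm]

theorem bar_bar (x : L) : (x ^ (Nat.card K ^ e)) ^ (Nat.card K ^ e) = x := by
  have := Fintype.ofFinite L
  rw [← pow_mul, ← pow_two, ← card_L hfr, Nat.card_eq_fintype_card, FiniteField.pow_card]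

/-- an element with `g + ḡ ≠ 0` and `ḡ ≠ g` -/
theorem exists_g (he : e ≠ 0) : ∃ g : L, g + g ^ (Nat.card K ^ e) ≠ 0 ∧ g - g ^ (Nat.card K ^ e) ≠ 0 := by
  have hq2 : 2 ≤ Nat.card K := Finite.one_lt_card
  obtain ⟨Q, hQ⟩ : ∃ Q, Q = Nat.card K ^ e := ⟨_, rfl⟩
  have hQ2 : 2 ≤ Q := by rw [hQ]; exact hq2.trans (Nat.le_self_pow he _)
  obtain ⟨g, hg⟩ := IsCyclic.exists_generator (α := Lˣ)
  have ho : orderOf g = Q ^ 2 - 1 := by
    rw [orderOf_eq_card_of_forall_mem_zpowers hg, Nat.card_units, card_L hfr, hQ]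
  have hsplit : Q = (Q - 1) + 1 := by omega
  have key : g ^ (2 * (Q - 1)) ≠ 1 := by
    intro h
    have h1 := Nat.le_of_dvd (by omega) (orderOf_dvd_of_pow_eq_one h)
    rw [ho] at h1
    obtain ⟨r, rfl⟩ := Nat.exists_eq_add_of_le hQ2
    have h2 : (2 + r) ^ 2 = r ^ 2 + 4 * r + 4 := by ring
    have h3 := Nat.zero_le (r ^ 2)
    omega
  have h2 : ∀ s : L, s ^ 2 = 1 → (g : L) ^ (Q - 1) = s → False := by
    intro s hs h
    apply key
    apply Units.ext
    rw [Units.val_pow_eq_pow_val, mul_comm, pow_mul, h, hs, Units.val_one]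
  rw [← hQ]
  refine ⟨g, fun h => h2 (-1) (by ring) ?_, fun h => h2 1 (by ring) ?_⟩
  · have h1 : (g : L) ^ Q = (g : L) ^ (Q - 1) * g := by
      conv_lhs => rw [hsplit]
      rw [pow_succ]
    rw [h1] at h
    have h3 : (1 + (g : L) ^ (Q - 1)) * g = 0 := by rw [← h]; ring
    have h4 := (mul_eq_zero.1 h3).resolve_right g.ne_zero
    linear_combination h4
  · have h1 : (g : L) ^ Q = (g : L) ^ (Q - 1) * g := by
      conv_lhs => rw [hsplit]
      rw [pow_succ]
    rw [h1] at h
    have h3 : (1 - (g : L) ^ (Q - 1)) * g = 0 := by rw [← h]; ring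
    have h4 := (mul_eq_zero.1 h3).resolve_right g.ne_zero
    linear_combination -h4

omit hfr in
theorem trace_bar (x : L) : Algebra.trace K L (x ^ (Nat.card K ^ e)) = Algebra.trace K L x := by
  obtain ⟨β, hβ⟩ := exists_bar K L e
  rw [← hβ]
  exact Algebra.trace_eq_of_algEquiv β x

/-- an element `δ` for which `Tr(δ x ȳ)` is alternating -/
theorem exists_alt (he : e ≠ 0) : ∃ δ : L, δ ≠ 0 ∧
    ∀ x : L, Algebra.trace K L (δ * x * x ^ (Nat.card K ^ e)) = 0 := by
  obtain ⟨g, hg1, hg2⟩ := exists_g hfr he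
  obtain ⟨β, hβ⟩ := exists_bar K L e
  have hββ : ∀ x, β (β x) = x := fun x => by rw [hβ, hβ, bar_bar hfr]
  simp only [← hβ] at hg1 hg2 ⊢
  refine ⟨g - β g, hg2, fun x => ?_⟩
  obtain ⟨θ, hθ⟩ : ∃ θ, θ = g * ((g - β g) * x * β x) / (g + β g) := ⟨_, rfl⟩
  have h1 : β θ = -(β g * ((g - β g) * x * β x)) / (g + β g) := by
    rw [hθ, map_div₀, map_mul, map_mul, map_mul, map_sub, map_add, hββ, hββ, add_comm (β g) g]
    ring
  have h2 : (g - β g) * x * β x = θ - β θ := by
    rw [h1, hθ]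
    field_simp
    ring
  rw [h2, map_sub, hβ, trace_bar, sub_self]

/-- the quadratic form `Tr_{M/K}(x x̄)` -/
theorem exists_quad (he : e ≠ 0) : ∃ Q : QuadraticForm K L,
    (∀ x y : L, polar Q x y = Algebra.trace K L (x * y ^ (Nat.card K ^ e))) ∧
    ∀ u : L, u ^ (Nat.card K ^ e + 1) = 1 → ∀ x : L, Q (u * x) = Q x := by
  obtain ⟨g, hg1, hg2⟩ := exists_g hfr he
  obtain ⟨β, hβ⟩ := exists_bar K L e
  have hββ : ∀ x, β (β x) = x := fun x => by rw [hβ, hβ, bar_bar hfr]
  rw [← hβ] at hg1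
  obtain ⟨c, hc⟩ : ∃ c, c = g / (g + β g) := ⟨_, rfl⟩
  have hc1 : c + β c = 1 := by
    rw [hc, map_div₀, map_add, hββ, add_comm (β g) g]
    field_simp
  let B : LinearMap.BilinForm K L := LinearMap.mk₂ K (fun x y => Algebra.trace K L (c * x * β y))
    (fun x x' y => by
      change Algebra.trace K L (c * (x + x') * β y) = _
      rw [mul_add, add_mul, map_add])
    (fun a x y => by
      change Algebra.trace K L (c * (a • x) * β y) = _
      rw [mul_smul_comm, smul_mul_assoc, map_smul])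
    (fun x y y' => by
      change Algebra.trace K L (c * x * β (y + y')) = _
      rw [map_add, mul_add, map_add])
    (fun a x y => by
      change Algebra.trace K L (c * x * β (a • y)) = _
      rw [map_smul, mul_smul_comm, map_smul])
  have hB : ∀ x y, B x y = Algebra.trace K L (c * x * β y) := fun _ _ => rfl
  have hBQ : ∀ x, LinearMap.BilinMap.toQuadraticMap B x = Algebra.trace K L (c * x * β x) := fun _ => rfl
  refine ⟨LinearMap.BilinMap.toQuadraticMap B, fun x y => ?_, fun u hu x => ?_⟩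
  · have h1 : polar (LinearMap.BilinMap.toQuadraticMap B) x y = B x y + B y x := by
      have h0 : β (x + y) = β x + β y := map_add β x y
      rw [polar, hBQ, hBQ, hBQ, hB, hB, h0, ← map_add (Algebra.trace K L), ← map_sub (Algebra.trace K L),
        ← map_sub (Algebra.trace K L)]
      congr 1
      ring
    have h2 : Algebra.trace K L (c * y * β x) = Algebra.trace K L (β c * x * β y) := by
      have h0 : β (c * y * β x) = β c * β y * x := by rw [map_mul β, map_mul β, hββ]
      rw [← trace_bar (K := K) (e := e) (c * y * β x), ← hβ, h0]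
      congr 1
      ring
    rw [h1, hB, hB, h2, ← map_add, ← hβ]
    congr 1
    calc c * x * β y + β c * x * β y = (c + β c) * (x * β y) := by ring
      _ = _ := by rw [hc1, one_mul]
  · rw [hBQ, hBQ, map_mul β]
    congr 1
    have h1 : u * β u = 1 := by rw [hβ, ← pow_succ']; exact hu
    calc c * (u * x) * (β u * β x) = (u * β u) * (c * x * β x) := by ring
      _ = _ := by rw [h1, one_mul]

end field

section quad

variable {K : Type u} [Field K] [Finite K] {L : Type} [Field L] [Algebra K L] [Finite L] {e : ℕ}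
  (hfr : finrank K L = 2 * e) {Q : QuadraticForm K L}
  (hp : ∀ x y : L, polar Q x y = Algebra.trace K L (x * y ^ (Nat.card K ^ e)))
  (hu : ∀ u : L, u ^ (Nat.card K ^ e + 1) = 1 → ∀ x : L, Q (u * x) = Q x)

include hfr hp

theorem nondeg_L : Nondeg Q := by
  have : Module.Finite K L := Module.Finite.of_finite
  intro x hx
  have h1 : x ^ (Nat.card K ^ e) = 0 := trace_nondeg (F := K) fun y => by
    have h2 := hx y
    rw [polar_comm, hp] at h2
    rw [← h2, mul_comm]
  exact eq_zero_of_pow_eq_zero h1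

include hu

/-- the number of nonzero singular vectors is divisible by `q ^ e + 1` -/
theorem card_sing (he : e ≠ 0) : ∃ t, Nat.card {v : L // Q v = 0} = (Nat.card K ^ e + 1) * t + 1 := by
  classical
  obtain ⟨N, hN⟩ : ∃ N, N = Nat.card K ^ e + 1 := ⟨_, rfl⟩
  have hq2 : 2 ≤ Nat.card K := Finite.one_lt_card
  have hQ2 : 2 ≤ Nat.card K ^ e := hq2.trans (Nat.le_self_pow he _)
  let H : Subgroup Lˣ := (powMonoidHom N : Lˣ →* Lˣ).ker
  have hH : Nat.card H = N := by
    rw [IsCyclic.card_powMonoidHom_ker, Nat.card_units, card_L hfr]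
    refine Nat.gcd_eq_right ?_
    rw [hN, ← pow_mul, mul_comm e 2, sq_sub']
    exact Dvd.intro_left _ rfl
  let S : Set Lˣ := {u | Q (u : L) = 0}
  have hS : S = (QuotientGroup.mk : Lˣ → Lˣ ⧸ H) ⁻¹' ((QuotientGroup.mk : Lˣ → Lˣ ⧸ H) '' S) := by
    ext x
    constructor
    · intro hx
      exact ⟨x, hx, rfl⟩
    · rintro ⟨y, hy, hyx⟩
      have h1 : y⁻¹ * x ∈ H := QuotientGroup.eq.1 hyx
      have h2 : (y⁻¹ * x) ^ N = 1 := h1
      change Q (x : L) = 0
      have h3 : (x : L) = ((y⁻¹ * x : Lˣ) : L) * y := by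
        rw [← Units.val_mul, mul_comm (y⁻¹ * x) y, mul_inv_cancel_left]
      rw [h3, hu]
      · exact hy
      · rw [← hN, ← Units.val_pow_eq_pow_val, h2, Units.val_one]
  have hcS : ∃ t, Nat.card S = N * t := by
    refine ⟨Nat.card ((QuotientGroup.mk : Lˣ → Lˣ ⧸ H) '' S), ?_⟩
    conv_lhs => rw [hS]
    rw [Nat.card_congr (QuotientGroup.preimageMkEquivSubgroupProdSet H _), Nat.card_prod, hH]
  obtain ⟨t, ht⟩ := hcS
  refine ⟨t, ?_⟩
  rw [← hN, ← ht]
  have e1 : {v : L | Q v = 0} = insert 0 ((fun u : Lˣ => (u : L)) '' S) := by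
    ext v
    constructor
    · intro h
      by_cases h0 : v = 0
      · exact Set.mem_insert_iff.2 (Or.inl h0)
      · exact Set.mem_insert_iff.2 (Or.inr ⟨Units.mk0 v h0, h, rfl⟩)
    · intro h
      rcases Set.mem_insert_iff.1 h with h | ⟨u, hu, rfl⟩
      · rw [h]
        exact QuadraticMap.map_zero Q
      · exact hu
  have e2 : Nat.card {v : L // Q v = 0} = Set.ncard {v : L | Q v = 0} := rfl
  rw [e2, e1, Set.ncard_insert_of_notMem, Set.ncard_image_of_injective _ Units.val_injective]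
  · rfl
  · rintro ⟨u, -, hu⟩
    exact u.ne_zero hu

/-- **the type of the form** -/
theorem not_plus (he : e ≠ 0) (hq : 4 ≤ Nat.card K) {c : K} (hc : c ≠ 0) (j : (Fin e ⊕ Fin e → K) ≃ₗ[K] L)
    (hj : ∀ x, Q (j x) = c * Cfsg.quadFormPlus e K x) : False := by
  obtain ⟨t, ht⟩ := card_sing hfr hp hu he
  have := Fintype.ofFinite K
  have h1 : Nat.card {v : Fin e ⊕ Fin e → K // Cfsg.quadFormPlus e K v = 0} = Nat.card {v : L // Q v = 0} :=
    Nat.card_congr (j.toEquiv.subtypeEquiv fun v => by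
      change _ ↔ Q (j v) = 0
      rw [hj]
      exact ⟨fun h => by rw [h, mul_zero], fun h => (mul_eq_zero.1 h).resolve_left hc⟩)
  rw [ht, S0289.result (F := K) (Nat.card_eq_fintype_card (α := K)).symm e (by omega)] at h1
  obtain ⟨k, rfl⟩ : ∃ k, e = k + 1 := ⟨e - 1, by omega⟩
  obtain ⟨q, hq'⟩ : ∃ q, q = Nat.card K := ⟨_, rfl⟩
  rw [← hq'] at h1 hq
  have e1 : 2 * (k + 1) - 1 = k + (k + 1) := by omega
  have e2 : k + 1 - 1 = k := by omega
  rw [e1, e2, pow_add] at h1
  obtain ⟨x, hx⟩ : ∃ x, x = q ^ k := ⟨_, rfl⟩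
  have e3 : q ^ (k + 1) = q * x := by rw [hx, pow_succ, mul_comm]
  rw [e3, ← hx] at h1
  have hx1 : 1 ≤ x := by rw [hx]; exact Nat.one_le_pow _ _ (by omega)
  have hqx : 4 * x ≤ q * x := Nat.mul_le_mul_right _ hq
  -- `x q x + q x - x = (q x + 1) t + 1`
  have h2 : x * (q * x) + q * x = (q * x + 1) * t + 1 + x := by
    have h3 : x ≤ x * (q * x) + q * x := by nlinarith
    omega
  have h3 : t ≤ x := by
    by_contra h4
    have h5 : (q * x + 1) * (x + 1) ≤ (q * x + 1) * t := Nat.mul_le_mul_left _ (by omega)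
    nlinarith
  rcases Nat.lt_or_ge t x with h4 | h4
  · have h5 : (q * x + 1) * (t + 1) ≤ (q * x + 1) * x := Nat.mul_le_mul_left _ h4
    nlinarith
  · obtain rfl : t = x := le_antisymm h3 h4
    nlinarith

/-- the form is of minus type -/
theorem minus_L (he : e ≠ 0) (hq : 4 ≤ Nat.card K) :
    ∃ a b : K, Aniso a b ∧ ∃ z : ((Fin (e - 1) ⊕ Fin (e - 1)) ⊕ Fin 2 → K) ≃ₗ[K] L,
      ∀ x, Q (z x) = Cfsg.quadFormMinus (e - 1) K a b x := by
  have : Module.Finite K L := Module.Finite.of_finite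
  rcases normal_form (2 * e) (nondeg_L hfr hp) hfr with ⟨k, hk, -⟩ | ⟨k, hk, c, hc, j, hj⟩ |
    ⟨k, hk, a, b, hab, c, hc, j, hj⟩
  · omega
  · exfalso
    obtain rfl : e = k := by omega
    exact not_plus hfr hp hu he hq hc j hj
  · obtain rfl : k = e - 1 := by omega
    obtain ⟨z, hz⟩ := H193.QuadEmb.minus_iso (F := K) (e - 1) hab hab hc
    refine ⟨a, b, hab, z.symm.trans j, fun x => ?_⟩
    rw [LinearEquiv.trans_apply, hj, ← hz, LinearEquiv.apply_symm_apply]

end quad

end Cfsg.Agent.R2.DZ.T3.Tor
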