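import Mathlib
import Cfsg.Agent.R2.DZ.T3.TorF

/-!
# S4527, box T3: the data `Dat` for the standard forms (helper21)

`sp_dat`, `minus_dat`, `odd_dat`, `plus_dat`.
-/

set_option autoImplicit false
set_option linter.unusedSectionVars false
set_option linter.style.haveILetI false

open scoped ComplexConjugate
open Cfsg

namespace Cfsg.Agent.R2.DZ.T3.Tor

open Module Cfsg.Agent.H477.HC Cfsg.Agent.H477.HC.CForm Cfsg.Agent.H749
open QuadraticMap Cfsg.Agent.LieClassical.OrthCore Cfsg.Agent.LieClassical.OrthTrans Cfsg.Agent.GenOrth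

universe u v w

/-- the symplectic case -/
theorem sp_dat (K : Type u) [Field K] [Finite K] {e : ℕ} (he : e ≠ 0) :
    ∃ (L : Type) (_ : Field L) (_ : Algebra K L), Nonempty (Dat (spF K e) L (Fin 0 → K) e) := by
  classical
  obtain ⟨L, i1, i2, i3, -, hfr⟩ := exists_ext K (2 * e) (by omega)
  have hfd : Module.Finite K L := Module.Finite.of_finite
  obtain ⟨δ, hδ, halt⟩ := exists_alt hfr he
  obtain ⟨β, hβ⟩ := exists_bar K L e
  have hββ : ∀ x, β (β x) = x := fun x => by rw [hβ, hβ, bar_bar hfr]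
  let B : LinearMap.BilinForm K L := LinearMap.mk₂ K (fun x y => Algebra.trace K L (δ * x * β y))
    (fun x x' y => by
      change Algebra.trace K L (δ * (x + x') * β y) = _
      rw [mul_add, add_mul, map_add])
    (fun a x y => by
      change Algebra.trace K L (δ * (a • x) * β y) = _
      rw [mul_smul_comm, smul_mul_assoc, map_smul])
    (fun x y y' => by
      change Algebra.trace K L (δ * x * β (y + y')) = _
      rw [map_add β, mul_add, map_add])
    (fun a x y => by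
      change Algebra.trace K L (δ * x * β (a • y)) = _
      rw [map_smul β, mul_smul_comm, map_smul])
  have hB : ∀ x y, B x y = Algebra.trace K L (δ * x * β y) := fun _ _ => rfl
  have hA : B.IsAlt := fun x => by
    rw [hB, hβ]
    exact halt x
  have hnd : ∀ x, (∀ y, B x y = 0) → x = 0 := by
    intro x hx
    have h1 : δ * x = 0 := trace_nondeg (F := K) fun y => by
      have h2 := hx (β y)
      rwa [hB, hββ] at h2
    exact (mul_eq_zero.1 h1).resolve_left hδ
  obtain ⟨m, k, b, h1, h2, h3, h4⟩ := Cfsg.Agent.S0752.result B hA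
  have hk : k = 0 := by
    by_contra hk
    exact b.ne_zero (Sum.inr ⟨0, Nat.pos_of_ne_zero hk⟩) (hnd _ (h4 ⟨0, Nat.pos_of_ne_zero hk⟩))
  subst hk
  have hm : m = e := by
    have h5 := Module.finrank_eq_card_basis b
    rw [hfr] at h5
    simp only [Fintype.card_sum, Fintype.card_fin] at h5
    omega
  subst hm
  let b' : Basis (Fin m ⊕ Fin m) K L := b.reindex (Equiv.sumEmpty _ _)
  have hb' : ∀ i, b' i = b (Sum.inl i) := fun i => by
    rw [Basis.reindex_apply]
    rfl
  let j₀ : (Fin m ⊕ Fin m → K) ≃ₗ[K] L := b'.equivFun.symm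
  have hj₀ : ∀ x, j₀ x = ∑ i, x (.inl i) • b' (.inl i) + ∑ i, x (.inr i) • b' (.inr i) := by
    intro x
    rw [Basis.equivFun_symm_apply, Fintype.sum_sum_type]
  have e21 : ∀ i l : Fin m, B (b' (.inr i)) (b' (.inl l)) = if l = i then -1 else 0 := by
    intro i l
    have h5 := LinearMap.BilinForm.IsAlt.neg_eq hA (b' (.inl l)) (b' (.inr i))
    rw [hb', hb', h1] at h5
    rw [hb', hb', ← h5]
    split_ifs <;> simp
  have hBj : ∀ x y, B (j₀ x) (j₀ y) = ∑ i : Fin m, (x (.inl i) * y (.inr i) - x (.inr i) * y (.inl i)) := by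
    intro x y
    have e11 : ∀ i l : Fin m, B (b' (.inl i)) (b' (.inl l)) = 0 := fun i l => by rw [hb', hb', h2]
    have e22 : ∀ i l : Fin m, B (b' (.inr i)) (b' (.inr l)) = 0 := fun i l => by rw [hb', hb', h3]
    have e12 : ∀ i l : Fin m, B (b' (.inl i)) (b' (.inr l)) = if i = l then 1 else 0 := fun i l => by rw [hb', hb', h1]
    rw [hj₀, hj₀]
    simp only [map_add, LinearMap.add_apply, map_sum, LinearMap.sum_apply, map_smul, LinearMap.smul_apply, smul_eq_mul,
      e11, e22, e12, e21, mul_zero, Finset.sum_const_zero, add_zero, zero_add]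
    rw [← Finset.sum_add_distrib]
    refine Finset.sum_congr rfl fun i _ => ?_
    simp only [mul_ite, mul_one, mul_neg, mul_zero, Finset.sum_ite_eq, Finset.sum_ite_eq', Finset.mem_univ, if_true]
    ring
  let j : (Fin m ⊕ Fin m → K) ≃ₗ[K] L × (Fin 0 → K) := j₀ ≪≫ₗ (LinearEquiv.prodUnique (R := K)).symm
  have hjs : ∀ x : L, j.symm (x, 0) = j₀.symm x := fun x => rfl
  have hY : ∀ y : Fin 0 → K, y = 0 := fun y => Subsingleton.elim _ _
  have hS : ∀ u v, (spF K m).B u v = ∑ i : Fin m, (u (.inl i) * v (.inr i) - u (.inr i) * v (.inl i)) :=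
    fun _ _ => rfl
  refine ⟨L, i1, i3, ⟨⟨i2, inferInstance, hfr, by rw [finrank_fin_fun]; omega, j, δ, hδ, fun x y => ?_, fun x y => ?_,
    fun u _ x => rfl, fun y _ => hY y⟩⟩⟩
  · rw [hjs, hjs, hS, ← hBj, j₀.apply_symm_apply, j₀.apply_symm_apply, hB, hβ]
  · rw [hY y]
    have h5 : j.symm (0, 0) = 0 := map_zero j.symm
    rw [h5]
    exact CForm.B_zero_right _ _

section

variable {K : Type u} [Field K] [Finite K] {L : Type} [Field L] [Algebra K L] [Finite L] {e : ℕ}
  (hfr : finrank K L = 2 * e) {Q : QuadraticForm K L}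
  (hp : ∀ x y : L, polar Q x y = Algebra.trace K L (x * y ^ (Nat.card K ^ e)))
  (hu : ∀ u : L, u ^ (Nat.card K ^ e + 1) = 1 → ∀ x : L, Q (u * x) = Q x)

include hfr hp hu

theorem dat_of_quad {V : Type v} [AddCommGroup V] [Module K V] {F : CForm K V}
    (hF : ∀ u v, F.Q (u + v) = F.Q u + F.Q v + F.B u v) {Y : Type w} [AddCommGroup Y] [Module K Y]
    [FiniteDimensional K Y] (Φ : (L × Y) ≃ₗ[K] V) (QY : Y → K) (hΦ : ∀ x y, F.Q (Φ (x, y)) = Q x + QY y)
    (hY : finrank K Y < 2 * e) (han : ∀ y, QY y = 0 → y = 0) : Nonempty (Dat F L Y e) := by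
  have h0 : QY 0 = 0 := by
    have h1 := hΦ 0 0
    have h2 : Φ (0, 0) = 0 := map_zero Φ
    rw [h2, F.Q_zero, QuadraticMap.map_zero, zero_add] at h1
    exact h1.symm
  have hx : ∀ x, F.Q (Φ (x, 0)) = Q x := fun x => by rw [hΦ, h0, add_zero]
  have hy : ∀ y, F.Q (Φ (0, y)) = QY y := fun y => by rw [hΦ, QuadraticMap.map_zero, zero_add]
  have hB : ∀ a b : L × Y, F.B (Φ a) (Φ b) = F.Q (Φ (a + b)) - F.Q (Φ a) - F.Q (Φ b) := by
    intro a b
    rw [map_add, hF]
    ring
  refine ⟨⟨inferInstance, inferInstance, hfr, hY, Φ.symm, 1, one_ne_zero, fun x y => ?_, fun x y => ?_, fun u h x => ?_,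
    fun y h => ?_⟩⟩
  · change F.B (Φ (x, 0)) (Φ (y, 0)) = _
    rw [hB, Prod.mk_add_mk, add_zero, hx, hx, hx, one_mul, ← hp]
    rfl
  · change F.B (Φ (x, 0)) (Φ (0, y)) = _
    rw [hB, Prod.mk_add_mk, add_zero, zero_add, hx, hy, hΦ]
    ring
  · change F.Q (Φ (u * x, 0)) = F.Q (Φ (x, 0))
    rw [hx, hx, hu u h]
  · have h1 : F.Q (Φ (0, y)) = 0 := h.1
    rw [hy] at h1
    exact han y h1

end

/-- a nondegenerate line is anisotropic -/
theorem aniso_one {K : Type u} [Field K] {Y : Type v} [AddCommGroup Y] [Module K Y] {Q : QuadraticForm K Y}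
    (hQ : Nondeg Q) (h1 : finrank K Y = 1) (y : Y) (hy : Q y = 0) : y = 0 := by
  by_contra h0
  apply h0
  apply hQ
  intro z
  have h2 := (finrank_eq_one_iff_of_nonzero' y h0).1 h1
  obtain ⟨c, rfl⟩ := h2 z
  rw [polar_smul_right, polar_self_of_sing hy, smul_zero]

/-- minus type -/
theorem minus_dat (K : Type u) [Field K] [Finite K] (hq : 4 ≤ Nat.card K) (l : ℕ) {a b : K}
    (hab : ∀ z₁ z₂ : K, z₁ ^ 2 + a * z₁ * z₂ + b * z₂ ^ 2 = 0 → z₁ = 0 ∧ z₂ = 0) :
    ∃ (L : Type) (_ : Field L) (_ : Algebra K L), Nonempty (Dat (minusF K l a b hab) L (Fin 0 → K) (l + 1)) := by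
  obtain ⟨L, i1, i2, i3, -, hfr⟩ := exists_ext K (2 * (l + 1)) (by omega)
  obtain ⟨Q, hp, hu⟩ := exists_quad hfr (by omega)
  obtain ⟨a', b', hab', (z : ((Fin l ⊕ Fin l) ⊕ Fin 2 → K) ≃ₗ[K] L),
    (hz : ∀ x, Q (z x) = quadFormMinus l K a' b' x)⟩ := minus_L hfr hp hu (by omega) hq
  obtain ⟨z', hz'⟩ := H193.QuadEmb.minus_iso (F := K) l (h := hab) (h' := hab') one_ne_zero
  let z₀ : ((Fin l ⊕ Fin l) ⊕ Fin 2 → K) ≃ₗ[K] L := z' ≪≫ₗ z
  have hz₀ : ∀ x, Q (z₀ x) = quadFormMinus l K a b x := fun x => by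
    rw [← one_mul (quadFormMinus l K a b x), ← hz', ← hz]
    rfl
  let Φ : (L × (Fin 0 → K)) ≃ₗ[K] ((Fin l ⊕ Fin l) ⊕ Fin 2 → K) := (LinearEquiv.prodUnique (R := K)) ≪≫ₗ z₀.symm
  have hΦ : ∀ x y, Φ (x, y) = z₀.symm x := fun x y => rfl
  refine ⟨L, i1, i3, dat_of_quad hfr hp hu (fun u v => (minusF K l a b hab).Q_add u v) Φ (fun _ => 0) (fun x y => ?_)
    (by rw [finrank_fin_fun]; omega) (fun y _ => Subsingleton.elim _ _)⟩
  rw [hΦ, add_zero, minusF_Q, ← hz₀, z₀.apply_symm_apply]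

/-- odd dimension -/
theorem odd_dat (K : Type u) [Field K] [Finite K] (h2 : (2 : K) ≠ 0) {e : ℕ} (he : e ≠ 0) :
    ∃ (L : Type) (_ : Field L) (_ : Algebra K L) (Y : Type u) (_ : AddCommGroup Y) (_ : Module K Y),
      Nonempty (Dat (oddF K e h2) L Y e) := by
  obtain ⟨L, i1, i2, i3, -, hfr⟩ := exists_ext K (2 * e) (by omega)
  have hfd : Module.Finite K L := Module.Finite.of_finite
  obtain ⟨Q, hp, hu⟩ := exists_quad hfr he
  have hnL := nondeg_L hfr hp
  let QV : QuadraticForm K (Unit ⊕ (Fin e ⊕ Fin e) → K) := LieClassical.QuadForms.oddForm e K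
  have hQV : ∀ x, QV x = (oddF K e h2).Q x := fun x => by
    rw [oddF_Q, ← LieClassical.QuadForms.coe_oddForm]
  have hpol : ∀ x y, polar QV x y = (oddF K e h2).B x y := fun x y => by
    rw [polar, hQV, hQV, hQV, (oddF K e h2).Q_add]
    change (oddF K e h2).Q x + (oddF K e h2).Q y + (oddF K e h2).B x y - _ - _ = _
    ring
  have hnV : Nondeg QV := fun x hx => (oddF K e h2).nondeg x fun y => by rw [← hpol]; exact hx y
  obtain ⟨j, hj⟩ := H193.QuadEmb.exists_emb e hnL hnV hfr (by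
    rw [Module.finrank_fintype_fun_eq_card]
    simp only [Fintype.card_sum, Fintype.card_fin, Fintype.card_unit]
    omega)
  obtain ⟨Kc, Φ, hΦ, hKc⟩ := exists_compl hnL hnV j hj
  have hdim : finrank K Kc = 1 := by
    have h1 := Φ.finrank_eq
    rw [finrank_prod, hfr, Module.finrank_fintype_fun_eq_card] at h1
    simp only [Fintype.card_sum, Fintype.card_fin, Fintype.card_unit] at h1
    omega
  exact ⟨L, i1, i3, Kc, inferInstance, inferInstance, dat_of_quad hfr hp hu (fun u v => (oddF K e h2).Q_add u v) Φ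
    (fun w => QV (w : Unit ⊕ (Fin e ⊕ Fin e) → K)) (fun x y => by rw [← hQV, hΦ]) (by omega)
    (fun y hy => aniso_one hKc hdim y hy)⟩

/-- plus type -/
theorem plus_dat (K : Type u) [Field K] [Finite K] (hq : 4 ≤ Nat.card K) {e : ℕ} (he : 2 ≤ e) :
    ∃ (L : Type) (_ : Field L) (_ : Algebra K L) (Y : Type u) (_ : AddCommGroup Y) (_ : Module K Y),
      Nonempty (Dat (plusF K (e + 1)) L Y e) := by
  obtain ⟨L, i1, i2, i3, -, hfr⟩ := exists_ext K (2 * e) (by omega)
  have hfd : Module.Finite K L := Module.Finite.of_finite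
  obtain ⟨Q, hp, hu⟩ := exists_quad hfr (by omega)
  have hnL := nondeg_L hfr hp
  let QV : QuadraticForm K (Fin (e + 1) ⊕ Fin (e + 1) → K) := LieClassical.QuadForms.plusForm (e + 1) K
  have hQV : ∀ x, QV x = (plusF K (e + 1)).Q x := fun x => by
    rw [plusF_Q, ← LieClassical.QuadForms.coe_plusForm]
  have hpol : ∀ x y, polar QV x y = (plusF K (e + 1)).B x y := fun x y => by
    rw [polar, hQV, hQV, hQV, (plusF K (e + 1)).Q_add]
    change (plusF K (e + 1)).Q x + (plusF K (e + 1)).Q y + (plusF K (e + 1)).B x y - _ - _ = _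
    ring
  have hnV : Nondeg QV := fun x hx => (plusF K (e + 1)).nondeg x fun y => by rw [← hpol]; exact hx y
  obtain ⟨j, hj⟩ := H193.QuadEmb.exists_emb e hnL hnV hfr (by
    rw [Module.finrank_fintype_fun_eq_card]
    simp only [Fintype.card_sum, Fintype.card_fin]
    omega)
  obtain ⟨Kc, Φ, hΦ, hKc⟩ := exists_compl hnL hnV j hj
  have hdim : finrank K Kc = 2 := by
    have h1 := Φ.finrank_eq
    rw [finrank_prod, hfr, Module.finrank_fintype_fun_eq_card] at h1
    simp only [Fintype.card_sum, Fintype.card_fin] at h1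
    omega
  have han : ∀ y : Kc, QV (y : Fin (e + 1) ⊕ Fin (e + 1) → K) = 0 → y = 0 := by
    intro y hy
    by_contra hy0
    obtain ⟨x, hyx⟩ := hyp_of_sing hKc hy0 hy
    -- `Kc` is a hyperbolic plane
    have hc := finrank_Comp (split_of_hyp hyx)
    have hc0 : finrank K (Comp (polarBilin (QV.comp Kc.subtype) x) (polarBilin (QV.comp Kc.subtype) y)) = 0 := by omega
    have hsub : ∀ w : Comp (polarBilin (QV.comp Kc.subtype) x) (polarBilin (QV.comp Kc.subtype) y), w = 0 := by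
      intro w
      exact Subtype.ext ((Submodule.eq_bot_iff _).1 (Submodule.finrank_eq_zero.1 hc0) _ w.2)
    obtain ⟨f, rfl⟩ : ∃ f, e = f + 1 := ⟨e - 1, by omega⟩
    obtain ⟨a, b, hab, (z : ((Fin f ⊕ Fin f) ⊕ Fin 2 → K) ≃ₗ[K] L),
      (hz : ∀ x, Q (z x) = quadFormMinus f K a b x)⟩ := minus_L hfr hp hu (by omega) hq
    -- the plane
    let s := splitEquiv (split_of_hyp hyx)
    let P : (K × K) →ₗ[K] Kc := s.toLinearMap ∘ₗ LinearMap.inr K _ (K × K)
    have hP : ∀ c d, P (c, d) = s (0, c, d) := fun _ _ => rfl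
    have hPi : Function.Injective P := by
      intro u v huv
      have h1 := s.injective (show s (0, u.1, u.2) = s (0, v.1, v.2) from huv)
      exact congrArg Prod.snd h1
    have hPs : Function.Surjective P := by
      intro v
      obtain ⟨⟨w, c, d⟩, rfl⟩ := s.surjective v
      exact ⟨(c, d), by rw [hP, hsub w]⟩
    let P' : (K × K) ≃ₗ[K] Kc := LinearEquiv.ofBijective P ⟨hPi, hPs⟩
    have hP' : ∀ c d, QV ((P' (c, d) : Kc) : Fin (f + 1 + 1) ⊕ Fin (f + 1 + 1) → K) = c * d := by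
      intro c d
      have h1 := Q_splitEquiv (split_of_hyp hyx) 0 c d
      have h2 : QV ((P' (c, d) : Kc) : Fin (f + 1 + 1) ⊕ Fin (f + 1 + 1) → K) =
          (QV.comp Kc.subtype) (splitEquiv (split_of_hyp hyx) (0, c, d)) := rfl
      rw [h2, h1, hyx.left, hyx.right, hyx.pair]
      simp
    let st := LieClassical.QuadForms.minusStep f K
    let zz : ((Fin (f + 1) ⊕ Fin (f + 1)) ⊕ Fin 2 → K) ≃ₗ[K] (Fin (f + 1 + 1) ⊕ Fin (f + 1 + 1) → K) :=
      st.symm ≪≫ₗ (z.prodCongr P') ≪≫ₗ Φ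
    have hzz : ∀ v, quadFormPlus (f + 1 + 1) K (zz v) = quadFormMinus (f + 1) K a b v := by
      intro v
      obtain ⟨⟨w, c, d⟩, rfl⟩ := st.surjective v
      have h1 : zz (st (w, c, d)) = Φ (z w, P' (c, d)) := by
        change Φ ((z.prodCongr P') (st.symm (st (w, c, d)))) = _
        rw [st.symm_apply_apply]
        rfl
      rw [h1, ← LieClassical.QuadForms.coe_plusForm, ← LieClassical.QuadForms.coe_minusForm,
        LieClassical.QuadForms.minusForm_minusStep, LieClassical.QuadForms.coe_minusForm, ← hz, ← hP']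
      exact hΦ _ _
    have := Fintype.ofFinite K
    exact H193.OrthCount.plus_ne_minus (F := K) (m := f + 1 + 1) (by omega) hab zz hzz
  exact ⟨L, i1, i3, Kc, inferInstance, inferInstance, dat_of_quad hfr hp hu (fun u v => (plusF K (e + 1)).Q_add u v) Φ
    (fun w => QV (w : Fin (e + 1) ⊕ Fin (e + 1) → K)) (fun x y => by rw [← hQV, hΦ]) (by omega) han⟩

end Cfsg.Agent.R2.DZ.T3.Tor
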